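import Cfsg.Agent.Lib.DDProd.Wide

/-!
# The centre of the Sylow group
-/

set_option autoImplicit false
set_option linter.unusedSectionVars false
set_option linter.style.haveILetI false

open Subgroup

namespace CfsgLib.DDProd

open CfsgLib.Fusion.Goldschmidt

universe u

variable {G : Type u} [Group G]

/-- `x` is central in the Sylow group. -/
def Central (P : Subgroup G) (x : G) : Prop := x ∈ P ∧ ∀ y ∈ P, y * x = x * y

variable [Finite G] (P : Sylow 2 G)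

/-- Conjugate central elements are equal when odd operators fix the centre. -/
theorem eq_of_conj_central {a : G} (ha : Central (P : Subgroup G) a)
    (hodd : ∀ n ∈ normalizer ((P : Subgroup G) : Set G), Odd (orderOf n) → n * a * n⁻¹ = a)
    {g : G} (hb : Central (P : Subgroup G) (g * a * g⁻¹)) : g * a * g⁻¹ = a := by
  haveI : Fact (Nat.Prime 2) := ⟨Nat.prime_two⟩
  obtain ⟨n, hn, e⟩ := CfsgLib.Fusion.exists_normalizer_conj_eq_of_central P
    (fun y hy => mem_centralizer_singleton_iff.2 (ha.2 y hy)) g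
    (fun y hy => mem_centralizer_singleton_iff.2 (hb.2 y hy))
  have hle : normalizer ((P : Subgroup G) : Set G) ≤ centralizer {a} := good_le P (good_self (P := P))
    (fun m hm hm2 => mem_centralizer_singleton_iff.2 (mul_inv_eq_iff_eq_mul.1 (hodd m hm hm2)))
    (fun m hm => mem_centralizer_singleton_iff.2 (ha.2 m hm.1))
  rw [← e, mem_centralizer_singleton_iff.1 (hle hn), mul_inv_cancel_right]

/-- Operators of odd order permuting two points fix them. -/
theorem fixed_of_two {n a b : G} (hodd : Odd (orderOf n)) (ha : n * a * n⁻¹ = a ∨ n * a * n⁻¹ = b)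
    (hb : n * b * n⁻¹ = a ∨ n * b * n⁻¹ = b) : n * a * n⁻¹ = a := by
  rcases ha with h | h
  · exact h
  rcases hb with h' | h'
  swap
  · rw [← h'] at h
    have : a = b := mul_left_cancel (mul_right_cancel h)
    rw [this, h']
  have h2 : n * n * a * (n * n)⁻¹ = a := by
    rw [show n * n * a * (n * n)⁻¹ = n * (n * a * n⁻¹) * n⁻¹ by group, h, h']
  obtain ⟨k, hk⟩ := hodd
  have h3 : Commute (n * n) a := mul_inv_eq_iff_eq_mul.1 h2
  have h4 : n = (n * n) ^ (k + 1) := by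
    rw [← pow_two, ← pow_mul, show 2 * (k + 1) = orderOf n + 1 by omega, pow_succ, pow_orderOf_eq_one, one_mul]
  have h5 : Commute n a := h4 ▸ h3.pow_left (k + 1)
  rw [h5.eq, mul_inv_cancel_right]

section
variable {P} {D₁ C₁ D₂ C₂ : Subgroup G} {z₁ r₁ z₂ r₂ : G}
  (h₁ : Side (P : Subgroup G) D₁ C₁ z₁ r₁ D₂) (h₂ : Side (P : Subgroup G) D₂ C₂ z₂ r₂ D₁)

include h₁ h₂

theorem central_four {x : G} (hx : Central (P : Subgroup G) x) :
    x = 1 ∨ x = z₁ ∨ x = z₂ ∨ x = z₁ * z₂ := by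
  have e := pr_split h₁.prd hx.1
  rcases h₁.central_cases hx.1 (fun y hy => (hx.2 y hy).symm) with e1 | e1 <;>
    rcases h₂.central_cases hx.1 (fun y hy => (hx.2 y hy).symm) with e2 | e2 <;> rw [e1, e2] at e
  · exact Or.inl (by rw [← e, one_mul])
  · exact Or.inr (Or.inr (Or.inl (by rw [← e, one_mul])))
  · exact Or.inr (Or.inl (by rw [← e, mul_one]))
  · exact Or.inr (Or.inr (Or.inr e.symm))

theorem odd_fix {n : G} (hn : n ∈ normalizer ((P : Subgroup G) : Set G)) (hodd : Odd (orderOf n)) :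
    n * z₁ * n⁻¹ = z₁ := by
  have hconj : ∀ {m}, m ∈ normalizer ((P : Subgroup G) : Set G) → ∀ {x}, x ∈ (P : Subgroup G) →
      m * x * m⁻¹ ∈ (P : Subgroup G) := fun {m} hm {x} hx => (mem_normalizer_iff.1 hm x).1 hx
  have hrot : ∀ {x}, x ∈ (P : Subgroup G) → pr D₁ D₂ x ∈ C₁ → pr D₂ D₁ x ∈ C₂ →
      ∀ {y}, y ∈ (P : Subgroup G) → pr D₁ D₂ y ∈ C₁ → pr D₂ D₁ y ∈ C₂ → x * y = y * x := by
    intro x hx hx1 hx2 y hy hy1 hy2
    refine prd_ext h₁.prd (mul_mem hx hy) (mul_mem hy hx) ?_ ?_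
    · rw [pr_mul h₁.prd hx hy, pr_mul h₁.prd hy hx, h₁.dih.toDih.comm hx1 hy1]
    · rw [pr_mul h₂.prd hx hy, pr_mul h₂.prd hy hx, h₂.dih.toDih.comm hx2 hy2]
  have hpr1 : ∀ {a}, a ∈ D₁ → pr D₂ D₁ a = 1 := fun ha => pr_other h₂.prd ha
  have hpr2 : ∀ {b}, b ∈ D₂ → pr D₁ D₂ b = 1 := fun hb => pr_other h₁.prd hb
  -- the rotation part is invariant
  have hA : ∀ {m}, m ∈ normalizer ((P : Subgroup G) : Set G) → ∀ {x}, x ∈ (P : Subgroup G) →
      pr D₁ D₂ x ∈ C₁ → pr D₂ D₁ x ∈ C₂ →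
      pr D₁ D₂ (m * x * m⁻¹) ∈ C₁ ∧ pr D₂ D₁ (m * x * m⁻¹) ∈ C₂ := by
    intro m hm x hx hx1 hx2
    have hsqA : ∀ {w}, Central (P : Subgroup G) w → ∃ a, a ∈ (P : Subgroup G) ∧
        pr D₁ D₂ a ∈ C₁ ∧ pr D₂ D₁ a ∈ C₂ ∧ a * a = w := by
      intro w hw
      rcases central_four h₁ h₂ hw with e | e | e | e <;> rw [e]
      · exact ⟨1, one_mem _, by rw [pr_self h₁.prd (one_mem _)]; exact one_mem _,
          by rw [hpr1 (one_mem _)]; exact one_mem _, one_mul _⟩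
      · exact ⟨r₁, h₁.rS, by rw [pr_self h₁.prd h₁.dih.rD]; exact h₁.dih.rC,
          by rw [hpr1 h₁.dih.rD]; exact one_mem _, h₁.dih.rr⟩
      · exact ⟨r₂, h₂.rS, by rw [hpr2 h₂.dih.rD]; exact one_mem _,
          by rw [pr_self h₂.prd h₂.dih.rD]; exact h₂.dih.rC, h₂.dih.rr⟩
      · refine ⟨r₁ * r₂, mul_mem h₁.rS h₂.rS, ?_, ?_, ?_⟩
        · rw [pr_mul_eq h₁.prd h₁.dih.rD h₂.dih.rD]; exact h₁.dih.rC
        · rw [pr_mul_eq' h₁.prd h₁.dih.rD h₂.dih.rD]; exact h₂.dih.rC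
        · rw [(show Commute r₂ r₁ from (prd_comm h₁.prd h₁.dih.rD h₂.dih.rD).symm).mul_mul_mul_comm,
            h₁.dih.rr, h₂.dih.rr]
    have hback : ∀ {w}, Central (P : Subgroup G) w → Central (P : Subgroup G) (m⁻¹ * w * m) := by
      intro w hw
      refine ⟨by simpa using hconj (inv_mem hm) hw.1, fun y hy => ?_⟩
      have hy' := hw.2 _ (hconj hm hy)
      calc y * (m⁻¹ * w * m) = m⁻¹ * (m * y * m⁻¹ * w) * m := by group
        _ = m⁻¹ * (w * (m * y * m⁻¹)) * m := by rw [hy']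
        _ = m⁻¹ * w * m * y := by group
    have hcent : Central (P : Subgroup G) z₁ ∧ Central (P : Subgroup G) z₂ :=
      ⟨⟨h₁.zS, fun y hy => h₁.z_central hy⟩, ⟨h₂.zS, fun y hy => h₂.z_central hy⟩⟩
    constructor
    · obtain ⟨a, ha, ha1, ha2, e⟩ := hsqA (hback hcent.1)
      have hw : m * a * m⁻¹ * (m * a * m⁻¹) = z₁ := by
        rw [show m * a * m⁻¹ * (m * a * m⁻¹) = m * (a * a) * m⁻¹ by group, e]; group
      have hsq : pr D₁ D₂ (m * a * m⁻¹) * pr D₁ D₂ (m * a * m⁻¹) ≠ 1 := by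
        rw [← pr_mul h₁.prd (hconj hm ha) (hconj hm ha), hw, pr_self h₁.prd h₁.dih.zD]
        exact h₁.dih.z1
      refine h₁.dih.toDih.mem_of_comm (pr_mem h₁.prd (hconj hm hx))
        (h₁.dih.toDih.mem_of_sq (pr_mem h₁.prd (hconj hm ha)) hsq) hsq ?_
      refine pr_comm h₁.prd (hconj hm hx) (hconj hm ha) ?_
      rw [show m * x * m⁻¹ * (m * a * m⁻¹) = m * (x * a) * m⁻¹ by group, hrot hx hx1 hx2 ha ha1 ha2]
      group
    · obtain ⟨a, ha, ha1, ha2, e⟩ := hsqA (hback hcent.2)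
      have hw : m * a * m⁻¹ * (m * a * m⁻¹) = z₂ := by
        rw [show m * a * m⁻¹ * (m * a * m⁻¹) = m * (a * a) * m⁻¹ by group, e]; group
      have hsq : pr D₂ D₁ (m * a * m⁻¹) * pr D₂ D₁ (m * a * m⁻¹) ≠ 1 := by
        rw [← pr_mul h₂.prd (hconj hm ha) (hconj hm ha), hw, pr_self h₂.prd h₂.dih.zD]
        exact h₂.dih.z1
      refine h₂.dih.toDih.mem_of_comm (pr_mem h₂.prd (hconj hm hx))
        (h₂.dih.toDih.mem_of_sq (pr_mem h₂.prd (hconj hm ha)) hsq) hsq ?_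
      refine pr_comm h₂.prd (hconj hm hx) (hconj hm ha) ?_
      rw [show m * x * m⁻¹ * (m * a * m⁻¹) = m * (x * a) * m⁻¹ by group, hrot hx hx1 hx2 ha ha1 ha2]
      group
  -- images of the central involutions
  have himg : ∀ {D C D' C' : Subgroup G} {z r z' r' : G} (k : Side (P : Subgroup G) D C z r D')
      (k' : Side (P : Subgroup G) D' C' z' r' D),
      (∀ {x}, x ∈ (P : Subgroup G) → pr D D' x ∈ C → pr D' D x ∈ C' →
        pr D D' (n * x * n⁻¹) ∈ C ∧ pr D' D (n * x * n⁻¹) ∈ C') →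
      (∀ {x}, x ∈ (P : Subgroup G) → ¬ (pr D D' (n * x * n⁻¹) ∈ C ∧ pr D' D (n * x * n⁻¹) ∈ C') ∨
        (pr D D' x ∈ C ∧ pr D' D x ∈ C')) →
      n * z' * n⁻¹ = z ∨ n * z' * n⁻¹ = z' := by
    intro D C D' C' z r z' r' k k' hin hout
    obtain ⟨s, hs, hsC⟩ := k.dih.ne
    have hsP := k.prd.1 hs
    have hy := hconj hn k'.rS
    obtain ⟨hy1, hy2⟩ := hin k'.rS (by rw [pr_other k.prd k'.dih.rD]; exact one_mem _)
      (by rw [pr_self k'.prd k'.dih.rD]; exact k'.dih.rC)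
    set y := n * r' * n⁻¹ with hyd
    have hyy : y * y = n * z' * n⁻¹ := by rw [hyd, ← k'.dih.rr]; group
    have hyy2 : y * y * (y * y) = 1 := by
      rw [hyy, show n * z' * n⁻¹ * (n * z' * n⁻¹) = n * (z' * z') * n⁻¹ by group, k'.dih.z2, mul_one,
        mul_inv_cancel]
    have hyne : y * y ≠ 1 := by
      rw [hyy]; exact fun e => k'.dih.z1 (conj_eq_one_iff.1 e)
    have hc : n * s * n⁻¹ * y = y * (n * s * n⁻¹) := by
      rw [hyd, show n * s * n⁻¹ * (n * r' * n⁻¹) = n * (s * r') * n⁻¹ by group,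
        prd_comm k.prd hs k'.dih.rD]
      group
    have he := hconj hn hsP
    have hsplit : y * y = pr D D' y * pr D D' y * (pr D' D y * pr D' D y) := by
      conv_lhs => rw [← pr_split k.prd hy]
      rw [(show Commute (pr D' D y) (pr D D' y) from
        (prd_comm k.prd (pr_mem k.prd hy) (pr_mem k'.prd hy)).symm).mul_mul_mul_comm]
    rcases (hout hsP).imp not_and_or.1 id with (e1 | e2) | hbad
    · right
      have ha : pr D D' y * pr D D' y = 1 := by_contra fun hne => e1 (k.dih.toDih.mem_of_comm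
        (pr_mem k.prd he) hy1 hne (pr_comm k.prd he hy hc))
      rw [← hyy, hsplit, ha, one_mul]
      refine (k'.dih.eq_one_or_z (mul_mem hy2 hy2) ?_).resolve_left ?_
      · rw [show pr D' D y * pr D' D y = y * y by rw [hsplit, ha, one_mul]]; exact hyy2
      · rw [show pr D' D y * pr D' D y = y * y by rw [hsplit, ha, one_mul]]; exact hyne
    · left
      have hb : pr D' D y * pr D' D y = 1 := by_contra fun hne => e2 (k'.dih.toDih.mem_of_comm
        (pr_mem k'.prd he) hy2 hne (pr_comm k'.prd he hy hc))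
      rw [← hyy, hsplit, hb, mul_one]
      refine (k.dih.eq_one_or_z (mul_mem hy1 hy1) ?_).resolve_left ?_
      · rw [show pr D D' y * pr D D' y = y * y by rw [hsplit, hb, mul_one]]; exact hyy2
      · rw [show pr D D' y * pr D D' y = y * y by rw [hsplit, hb, mul_one]]; exact hyne
    · exact absurd (pr_self k.prd hs ▸ hbad.1) hsC
  have hout : ∀ {x}, x ∈ (P : Subgroup G) →
      ¬ (pr D₁ D₂ (n * x * n⁻¹) ∈ C₁ ∧ pr D₂ D₁ (n * x * n⁻¹) ∈ C₂) ∨
        (pr D₁ D₂ x ∈ C₁ ∧ pr D₂ D₁ x ∈ C₂) := by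
    intro x hx
    refine (em _).symm.imp id fun hh => ?_
    have := hA (inv_mem hn) (hconj hn hx) hh.1 hh.2
    rwa [show n⁻¹ * (n * x * n⁻¹) * n⁻¹⁻¹ = x by group] at this
  have i2 := himg h₁ h₂ (fun hx a b => hA hn hx a b) hout
  have i1 := himg h₂ h₁ (fun hx a b => (hA hn hx b a).symm) (fun hx => (hout hx).imp (fun hh hh' => hh hh'.symm) And.symm)
  exact fixed_of_two hodd i1.symm i2

theorem conj_eq_one_side {g : G} (hc : Central (P : Subgroup G) (g * z₁ * g⁻¹)) : g * z₁ * g⁻¹ = z₁ :=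
  eq_of_conj_central P ⟨h₁.zS, fun _ hy => h₁.z_central hy⟩ (fun _ hn ho => odd_fix h₁ h₂ hn ho) hc

end

/-- With an elementary second factor the central involution of the dihedral factor is fixed. -/
theorem odd_fix_four {P : Sylow 2 G} {D₁ C₁ D₂ : Subgroup G} {z₁ r₁ : G}
    (h : Side (P : Subgroup G) D₁ C₁ z₁ r₁ D₂) (hD₂ : ∀ d ∈ D₂, d * d = 1) {n : G}
    (hn : n ∈ normalizer ((P : Subgroup G) : Set G)) : n * z₁ * n⁻¹ = z₁ := by
  haveI : Fact (Nat.Prime 2) := ⟨Nat.prime_two⟩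
  obtain ⟨s, hs, hsC⟩ := h.dih.ne
  exact z_fix h (good_self (P := P)) ⟨h.rS, s, h.prd.1 hs, by rwa [pr_self h.prd hs]⟩
    (fun e he => ⟨h.prd.2.1 (pr_mem (prd_symm h.prd) he), hD₂ _ (pr_mem (prd_symm h.prd) he)⟩) hn

end CfsgLib.DDProd
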