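import Cfsg.Agent.Lib.DDProd.Refactor

/-!
# The dihedral factors of an adapted factorisation are strongly closed
-/

set_option autoImplicit false
set_option linter.unusedSectionVars false
set_option linter.style.haveILetI false

open Subgroup

namespace CfsgLib.DDProd

open CfsgLib.Fusion.Goldschmidt

universe u

variable {G : Type u} [Group G] [Finite G] {P : Sylow 2 G} {E D₁ C₁ D₂ : Subgroup G} {z₁ r₁ : G}
  (h : Side (P : Subgroup G) D₁ C₁ z₁ r₁ D₂) (hs : Sec (P : Subgroup G) D₁ D₂)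

include h hs

/-- A conjugate of `z₁` with central second coordinate lies in the dihedral factor. -/
theorem mem_of_conj (hperf : _root_.commutator G = ⊤) (hn : Normed D₁ C₁ z₁) {c g : G}
    (hc : g * z₁ * g⁻¹ = c) (hcP : c ∈ (P : Subgroup G)) (hW : InW D₂ (pr D₂ D₁ c)) : c ∈ D₁ := by
  have e := pr_split h.prd hcP
  by_cases hC : pr D₁ D₂ c ∈ C₁
  · have hsq : pr D₁ D₂ c * pr D₁ D₂ c = 1 := by
      rw [← pr_mul h.prd hcP hcP, show c * c = 1 by
        rw [← hc, show g * z₁ * g⁻¹ * (g * z₁ * g⁻¹) = g * (z₁ * z₁) * g⁻¹ by group, h.dih.z2, mul_one,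
          mul_inv_cancel]]
      exact pr_self h.prd (one_mem _)
    have h1 := rigid h hs (g := g) (hc ▸ central_of_parts h hcP (h.dih.eq_one_or_z hC hsq) hW)
    rw [← hc, h1]
    exact h.dih.zD
  · have h1 := normed_unique h hs hperf hn (pr_mem h.prd hcP) hC hW ⟨g, hc.trans e.symm⟩
    rw [h1, mul_one] at e
    rw [← e]
    exact pr_mem h.prd hcP

/-- The non-trivial elements of the four group are conjugate under the normaliser. -/
theorem exists_conj_four (hperf : _root_.commutator G = ⊤) (hn : Normed D₁ C₁ z₁) (hEP : E ≤ (P : Subgroup G))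
    {s : G} (hb : Box E D₁ C₁ z₁ D₂ s) (hk : Kind P E D₁ D₂)
    (hmove : ∃ g ∈ normalizer (E : Set G), g * z₁ * g⁻¹ ≠ z₁) {a : G} (ha : a ∈ D₁) (haE : a ∈ E)
    (ha1 : a ≠ 1) : ∃ q ∈ normalizer (E : Set G), q * z₁ * q⁻¹ = a := by
  obtain ⟨g, hg, hgm⟩ := hmove
  have hcE : g * z₁ * g⁻¹ ∈ E := (mem_normalizer_iff.1 hg z₁).1 hb.zE
  have hcD : g * z₁ * g⁻¹ ∈ D₁ :=
    mem_of_conj h hs hperf hn rfl (hEP hcE) (conj_inW h hs hEP hb hk hg)
  have hc1 : g * z₁ * g⁻¹ ≠ 1 := fun e => h.dih.z1 (conj_eq_one_iff.1 e)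
  have hr := r_mem_normalizer h hs hEP hb.zE
  have hca := hb.cases _ hcE
  rw [pr_self h.prd hcD] at hca
  have hs' : ∃ q ∈ normalizer (E : Set G), q * z₁ * q⁻¹ = s := by
    rcases hca with e | e | e | e
    · exact absurd e hc1
    · exact absurd e hgm
    · exact ⟨g, hg, e⟩
    · refine ⟨r₁ * g, mul_mem hr hg, ?_⟩
      rw [show r₁ * g * z₁ * (r₁ * g)⁻¹ = r₁ * (g * z₁ * g⁻¹) * r₁⁻¹ by group, e,
        show r₁ * (s * z₁) * r₁⁻¹ = (r₁ * s * r₁⁻¹) * (r₁ * z₁ * r₁⁻¹) by group, h.dih.conj_r hb.sD hb.sC,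
        h.dih.comm_r h.dih.zC, mul_assoc, h.dih.z2, mul_one]
  obtain ⟨q, hq, hqs⟩ := hs'
  have haa := hb.cases a haE
  rw [pr_self h.prd ha] at haa
  rcases haa with e | e | e | e
  · exact absurd e ha1
  · exact ⟨1, one_mem _, by rw [e, one_mul, inv_one, mul_one]⟩
  · exact ⟨q, hq, hqs.trans e.symm⟩
  · refine ⟨r₁ * q, mul_mem hr hq, ?_⟩
    rw [show r₁ * q * z₁ * (r₁ * q)⁻¹ = r₁ * (q * z₁ * q⁻¹) * r₁⁻¹ by group, hqs, e,
      h.dih.conj_r hb.sD hb.sC]

/-- Images of the four group keep a central second coordinate. -/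
theorem four_inv (hperf : _root_.commutator G = ⊤) (hn : Normed D₁ C₁ z₁) (hEP : E ≤ (P : Subgroup G))
    {s : G} (hb : Box E D₁ C₁ z₁ D₂ s) (hk : Kind P E D₁ D₂)
    (hmove : ∃ g ∈ normalizer (E : Set G), g * z₁ * g⁻¹ ≠ z₁) {a g : G} (ha : a ∈ D₁) (haE : a ∈ E)
    (hg : g ∈ normalizer (E : Set G)) : InW D₂ (pr D₂ D₁ (g * a * g⁻¹)) := by
  by_cases ha1 : a = 1
  · rw [ha1, mul_one, mul_inv_cancel, pr_self (prd_symm h.prd) (one_mem _)]
    exact ⟨one_mem _, fun d _ => by rw [one_mul, mul_one]⟩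
  obtain ⟨q, hq, rfl⟩ := exists_conj_four h hs hperf hn hEP hb hk hmove ha haE ha1
  rw [show g * (q * z₁ * q⁻¹) * g⁻¹ = g * q * z₁ * (g * q)⁻¹ by group]
  exact conj_inW h hs hEP hb hk (mul_mem hg hq)

/-- The dihedral factor is strongly closed once operators keep second coordinates central. -/
theorem strongly_closed_of_inW (hperf : _root_.commutator G = ⊤) (hn : Normed D₁ C₁ z₁)
    (hW : ∀ E, Good P E → ∀ g ∈ normalizer (E : Set G), Odd (orderOf g) → ∀ a ∈ E, a ∈ D₁ → a ∉ C₁ ∨ a = z₁ →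
      InW D₂ (pr D₂ D₁ (g * a * g⁻¹))) : Cfsg.IsStronglyClosed D₁ (P : Subgroup G) := by
  refine ⟨h.prd.1, fun x hx g hgx => ?_⟩
  have hstep : ∀ E, Good P E → normalizer (E : Set G) ≤ normalizer ((E ⊓ D₁ : Subgroup G) : Set G) := by
    intro E hE
    refine le_trans ?_ (inf_le_right : normalizer (E : Set G) ⊓ normalizer ((E ⊓ D₁ : Subgroup G) : Set G) ≤ _)
    refine good_le P hE (fun n hn' hodd => ⟨hn', mem_normalizer_of_conj fun a ha => ?_⟩)
      (fun n hn' => ⟨hn'.2, mem_normalizer_of_conj fun a ha =>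
        ⟨(mem_normalizer_iff.1 hn'.2 a).1 ha.1, conj_mem_left h.prd hn'.1 ha.2⟩⟩)
    refine ⟨(mem_normalizer_iff.1 hn' a).1 ha.1, ?_⟩
    have hin : ∀ b ∈ E, b ∈ D₁ → b ∉ C₁ ∨ b = z₁ → n * b * n⁻¹ ∈ D₁ := by
      intro b hb hbD hbC
      obtain ⟨q, hq⟩ : ∃ q, q * z₁ * q⁻¹ = b := by
        rcases hbC with hbC | rfl
        · exact hn b hbD hbC
        · exact ⟨1, by rw [one_mul, inv_one, mul_one]⟩
      refine mem_of_conj h hs hperf hn (g := n * q) ?_ (hE.1 ((mem_normalizer_iff.1 hn' b).1 hb))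
        (hW E hE n hn' hodd b hb hbD hbC)
      rw [← hq]
      group
    by_cases haC : a ∈ C₁
    swap
    · exact hin a ha.1 ha.2 (Or.inl haC)
    rcases four_or_wide h hE with ⟨s, hf⟩ | hw
    · have := hf.cases a ha.1
      rw [pr_self h.prd ha.2] at this
      rcases this with e | e | e | e
      · rw [e, mul_one, mul_inv_cancel]; exact one_mem _
      · exact hin a ha.1 ha.2 (Or.inr e)
      · exact absurd (e ▸ haC) hf.sC
      · exact absurd (e ▸ haC) (h.dih.toDih.mul_notMem hf.sC h.dih.zC)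
    rcases wide_cases h hs hE hw with hpart | ⟨C₂, z₂, r₂, h₂, hw₂⟩
    · have hD := wide_full h hE hw hpart
      obtain ⟨s, hs', hsC⟩ := h.dih.ne
      rw [show a = s * (s * a) by rw [← mul_assoc, h.dih.out s hs' hsC, one_mul],
        show n * (s * (s * a)) * n⁻¹ = n * s * n⁻¹ * (n * (s * a) * n⁻¹) by group]
      exact mul_mem (hin s (hD hs') hs' (Or.inl hsC))
        (hin _ (hD (mul_mem hs' ha.2)) (mul_mem hs' ha.2) (Or.inl (h.dih.toDih.mul_notMem hsC haC)))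
    · rw [wide_wide h h₂ hE hw hw₂ hn' hodd ha.1]
      exact ha.2
  have h1 := rel_of_good P (fun a b => a ∈ D₁ → b ∈ D₁) (fun a _ ha => ha)
    (fun a b c h1 h2 ha => h2 (h1 ha)) (fun E hE n hn' a ha haD => by
      have := ((mem_normalizer_iff.1 (inv_mem (hstep E hE hn')) a).1 ⟨ha, haD⟩).2
      rwa [inv_inv] at this) (a := x) (g := g⁻¹) (h.prd.1 hx) (by rwa [inv_inv]) hx
  rwa [inv_inv] at h1

end CfsgLib.DDProd
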