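import Cfsg.Agent.Lib.Invol.Basic
import Mathlib.GroupTheory.PGroup
import Mathlib.Tactic.Group

/-!
# Dihedral 2-subgroups as pairs `(D, C)`
-/

set_option autoImplicit false
set_option linter.unusedSectionVars false

open Subgroup

namespace CfsgLib.DDProd

universe u

variable {G : Type u} [Group G]

/-- `D` is dihedral of order at least 8, a 2-group, with cyclic subgroup `C` of index 2. -/
structure Dih (D C : Subgroup G) : Prop where
  le : C ≤ D
  cyc : IsCyclic C
  four : 4 ≤ Nat.card C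
  pow : IsPGroup 2 C
  idx : ∀ x ∈ D, ∀ y ∈ D, x ∉ C → y ∉ C → x * y ∈ C
  ne : ∃ x ∈ D, x ∉ C
  out : ∀ x ∈ D, x ∉ C → x * x = 1

/-- The squares of a cyclic subgroup. -/
def sqSet (C : Subgroup G) : Set G := {x | ∃ v ∈ C, v * v = x}

namespace Dih

variable {D C : Subgroup G} (h : Dih D C)

include h

theorem comm {a b : G} (ha : a ∈ C) (hb : b ∈ C) : a * b = b * a := by
  haveI := h.cyc
  letI := IsCyclic.commGroup (α := C)
  exact congrArg Subtype.val (mul_comm (⟨a, ha⟩ : C) ⟨b, hb⟩)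

theorem mul_notMem {s v : G} (hs : s ∉ C) (hv : v ∈ C) : s * v ∉ C := fun e =>
  hs (by simpa using mul_mem e (inv_mem hv))

theorem notMem_mul {s v : G} (hs : s ∉ C) (hv : v ∈ C) : v * s ∉ C := fun e =>
  hs (by simpa [mul_assoc] using mul_mem (inv_mem hv) e)

theorem inv_out {s : G} (hs : s ∈ D) (hsC : s ∉ C) : s⁻¹ = s :=
  inv_eq_of_mul_eq_one_right (h.out s hs hsC)

theorem invert {s v : G} (hs : s ∈ D) (hsC : s ∉ C) (hv : v ∈ C) : s * v * s⁻¹ = v⁻¹ := by
  rw [h.inv_out hs hsC]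
  refine eq_inv_of_mul_eq_one_left ?_
  rw [mul_assoc]
  exact h.out _ (mul_mem hs (h.le hv)) (h.mul_notMem hsC hv)

theorem swap {s v : G} (hs : s ∈ D) (hsC : s ∉ C) (hv : v ∈ C) : s * v = v⁻¹ * s := by
  rw [← h.invert hs hsC hv, inv_mul_cancel_right]

theorem swap' {s v : G} (hs : s ∈ D) (hsC : s ∉ C) (hv : v ∈ C) : v * s = s * v⁻¹ := by
  rw [h.swap hs hsC (inv_mem hv), inv_inv]

theorem mem_of_sq {x : G} (hx : x ∈ D) (h2 : x * x ≠ 1) : x ∈ C :=
  by_contra fun hn => h2 (h.out x hx hn)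

theorem mem_of_comm {x v : G} (hx : x ∈ D) (hv : v ∈ C) (h2 : v * v ≠ 1) (hc : x * v = v * x) : x ∈ C := by
  by_contra hn
  rw [h.swap hx hn hv] at hc
  exact h2 (inv_eq_iff_mul_eq_one.1 (mul_right_cancel hc))

theorem conj_mem {x v : G} (hx : x ∈ D) (hv : v ∈ C) : x * v * x⁻¹ ∈ C := by
  by_cases hC : x ∈ C
  · exact mul_mem (mul_mem hC hv) (inv_mem hC)
  · rw [h.invert hx hC hv]; exact inv_mem hv

theorem conj_sq {x v : G} (hx : x ∈ D) (hv : v ∈ C) :
    (x * v * x⁻¹ = v) ∨ x * v * x⁻¹ = v⁻¹ := by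
  by_cases hC : x ∈ C
  · left
    rw [h.comm hC hv, mul_inv_cancel_right]
  · exact Or.inr (h.invert hx hC hv)

section
variable [Finite G]

theorem invol_eq {a b : G} (ha : a ∈ C) (hb : b ∈ C) (a2 : a * a = 1) (b2 : b * b = 1) (a1 : a ≠ 1)
    (b1 : b ≠ 1) : a = b := by
  haveI := h.cyc
  haveI : Fintype C := Fintype.ofFinite _
  classical
  by_contra hne
  have hle := IsCyclic.card_pow_eq_one_le (α := C) (n := 2) two_pos
  have hsub : ({1, ⟨a, ha⟩, ⟨b, hb⟩} : Finset C) ⊆ Finset.univ.filter fun x => x ^ 2 = 1 := by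
    intro x hx
    simp only [Finset.mem_insert, Finset.mem_singleton] at hx
    refine Finset.mem_filter.2 ⟨Finset.mem_univ _, ?_⟩
    rcases hx with rfl | rfl | rfl
    · simp
    · exact Subtype.ext (by rw [SubgroupClass.coe_pow, pow_two]; exact a2)
    · exact Subtype.ext (by rw [SubgroupClass.coe_pow, pow_two]; exact b2)
  have h3 : ({1, ⟨a, ha⟩, ⟨b, hb⟩} : Finset C).card = 3 := by
    refine Finset.card_eq_three.2 ⟨_, _, _, ?_, ?_, ?_, rfl⟩
    · exact fun e => a1 (congrArg Subtype.val e).symm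
    · exact fun e => b1 (congrArg Subtype.val e).symm
    · exact fun e => hne (congrArg Subtype.val e)
  have := (Finset.card_le_card hsub).trans hle
  omega

theorem exists_gen : ∃ u ∈ C, zpowers u = C ∧ ∃ k, orderOf u = 4 * 2 ^ k := by
  haveI := h.cyc
  obtain ⟨⟨u, hu⟩, hg⟩ := IsCyclic.exists_generator (α := C)
  have hz : zpowers u = C := le_antisymm (zpowers_le.2 hu) fun x hx => by
    obtain ⟨k, hk⟩ := mem_zpowers_iff.1 (hg ⟨x, hx⟩)
    exact mem_zpowers_iff.2 ⟨k, congrArg Subtype.val hk⟩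
  refine ⟨u, hu, hz, ?_⟩
  haveI : Fact (Nat.Prime 2) := ⟨Nat.prime_two⟩
  obtain ⟨n, hn⟩ := h.pow.exists_card_eq
  have h4 := h.four
  rw [hn] at h4
  match n, hn, h4 with
  | 0, _, h4 => simp at h4
  | 1, _, h4 => norm_num at h4
  | j + 2, hn, _ =>
    refine ⟨j, ?_⟩
    rw [← Nat.card_zpowers, hz, hn]
    ring

theorem exists_quarter : ∃ z r, r ∈ C ∧ r * r = z ∧ z ∈ C ∧ z * z = 1 ∧ z ≠ 1 := by
  obtain ⟨u, hu, -, k, hk⟩ := h.exists_gen
  refine ⟨u ^ (2 ^ k) * u ^ (2 ^ k), u ^ (2 ^ k), pow_mem hu _, rfl, mul_mem (pow_mem hu _) (pow_mem hu _),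
    ?_, ?_⟩
  · rw [← pow_add, ← pow_add]
    have e : 2 ^ k + 2 ^ k + (2 ^ k + 2 ^ k) = orderOf u := by omega
    rw [e, pow_orderOf_eq_one]
  · rw [← pow_add]
    exact pow_ne_one_of_lt_orderOf (by positivity) (by rw [hk]; have := Nat.one_le_two_pow (n := k); omega)

end

end Dih

/-- A chosen dihedral datum: the central involution and an element of order four. -/
structure DihZ (D C : Subgroup G) (z r : G) : Prop extends Dih D C where
  rC : r ∈ C
  rr : r * r = z
  zC : z ∈ C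
  z2 : z * z = 1
  z1 : z ≠ 1

theorem Dih.exists_dihZ [Finite G] {D C : Subgroup G} (h : Dih D C) : ∃ z r, DihZ D C z r := by
  obtain ⟨z, r, h1, h2, h3, h4, h5⟩ := h.exists_quarter
  exact ⟨z, r, { toDih := h, rC := h1, rr := h2, zC := h3, z2 := h4, z1 := h5 }⟩

namespace DihZ

variable {D C : Subgroup G} {z r : G} (h : DihZ D C z r)

include h

theorem zD : z ∈ D := h.le h.zC

theorem rD : r ∈ D := h.le h.rC

theorem rr_ne : r * r ≠ 1 := by rw [h.rr]; exact h.z1

theorem z_inv : z⁻¹ = z := inv_eq_of_mul_eq_one_right h.z2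

theorem central {x : G} (hx : x ∈ D) : x * z = z * x := by
  rcases h.toDih.conj_sq hx h.zC with e | e
  · exact mul_inv_eq_iff_eq_mul.1 e
  · rw [h.z_inv] at e
    exact mul_inv_eq_iff_eq_mul.1 e

theorem conj_r {s : G} (hs : s ∈ D) (hsC : s ∉ C) : r * s * r⁻¹ = s * z := by
  rw [h.toDih.swap' hs hsC h.rC, mul_assoc, ← mul_inv_rev, h.rr, h.z_inv]

theorem comm_r {x : G} (hx : x ∈ C) : r * x * r⁻¹ = x := by
  rw [h.toDih.comm h.rC hx, mul_inv_cancel_right]

variable [Finite G]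

theorem eq_one_or_z {x : G} (hx : x ∈ C) (h2 : x * x = 1) : x = 1 ∨ x = z :=
  or_iff_not_imp_left.2 fun h1 => h.toDih.invol_eq hx h.zC h2 h.z2 h1 h.z1

theorem central_cases {x : G} (hx : x ∈ D) (hc : ∀ y ∈ D, x * y = y * x) : x = 1 ∨ x = z := by
  have hxC := h.toDih.mem_of_comm hx h.rC h.rr_ne (hc r h.rD)
  obtain ⟨s, hs, hsC⟩ := h.ne
  refine h.eq_one_or_z hxC ?_
  have e := hc s hs
  rw [h.toDih.swap hs hsC hxC] at e
  exact inv_eq_iff_mul_eq_one.1 (mul_right_cancel e).symm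

theorem four_cases {s x : G} (hs : s ∈ D) (hsC : s ∉ C) (hx : x ∈ D) (hc : x * s = s * x) :
    x = 1 ∨ x = z ∨ x = s ∨ x = s * z := by
  by_cases hxC : x ∈ C
  · rw [h.toDih.swap hs hsC hxC] at hc
    rcases h.eq_one_or_z hxC (inv_eq_iff_mul_eq_one.1 (mul_right_cancel hc).symm) with e | e
    · exact Or.inl e
    · exact Or.inr (Or.inl e)
  · have hm := h.idx s hs x hx hsC hxC
    have h2 : s * x * (s * x) = 1 := by
      rw [show s * x * (s * x) = s * (x * s) * x by group, hc, ← mul_assoc s s x, h.out s hs hsC, one_mul,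
        h.out x hx hxC]
    have hx' : x = s * (s * x) := by rw [← mul_assoc, h.out s hs hsC, one_mul]
    rcases h.eq_one_or_z hm h2 with e | e
    · exact Or.inr (Or.inr (Or.inl (by rw [hx', e, mul_one])))
    · exact Or.inr (Or.inr (Or.inr (by rw [hx', e])))

theorem z_mem_sq : z ∈ sqSet C := ⟨r, h.rC, h.rr⟩

end DihZ

namespace Dih

variable {D C : Subgroup G} (h : Dih D C)

include h

theorem sq_mul {a b : G} (ha : a ∈ sqSet C) (hb : b ∈ sqSet C) : a * b ∈ sqSet C := by
  obtain ⟨v, hv, rfl⟩ := ha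
  obtain ⟨w, hw, rfl⟩ := hb
  exact ⟨v * w, mul_mem hv hw, (show Commute w v from h.comm hw hv).mul_mul_mul_comm v w⟩

theorem sq_inv {a : G} (ha : a ∈ sqSet C) : a⁻¹ ∈ sqSet C := by
  obtain ⟨v, hv, rfl⟩ := ha
  exact ⟨v⁻¹, inv_mem hv, (mul_inv_rev v v).symm⟩

/-- Reflections congruent modulo squares are conjugate. -/
theorem exists_conj {s v : G} (hs : s ∈ D) (hsC : s ∉ C) (hv : v ∈ C) :
    v⁻¹ * s * v = s * (v * v) := by
  rw [h.swap' hs hsC (inv_mem hv), inv_inv]
  group

theorem sq_dichotomy [Finite G] {u : G} (hu : zpowers u = C) {v : G} (hv : v ∈ C) :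
    v ∈ sqSet C ∨ v * u ∈ sqSet C := by
  obtain ⟨k, rfl⟩ := mem_zpowers_iff.1 (hu ▸ hv : v ∈ zpowers u)
  have huC : u ∈ C := hu ▸ mem_zpowers u
  rcases Int.even_or_odd k with ⟨j, hj⟩ | ⟨j, hj⟩
  · exact Or.inl ⟨u ^ j, zpow_mem huC j, by rw [hj, zpow_add]⟩
  · exact Or.inr ⟨u ^ (j + 1), zpow_mem huC _, by
      rw [← zpow_add, show j + 1 + (j + 1) = k + 1 by omega, zpow_add_one]⟩

theorem gen_notMem_sq [Finite G] {u : G} (hu : zpowers u = C) : u ∉ sqSet C := by
  rintro ⟨v, hv, e⟩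
  obtain ⟨k, rfl⟩ := mem_zpowers_iff.1 (hu ▸ hv : v ∈ zpowers u)
  rw [← zpow_add] at e
  have h1 : u ^ (k + k - 1) = 1 := by rw [zpow_sub_one, e, mul_inv_cancel]
  have hd := orderOf_dvd_iff_zpow_eq_one.2 h1
  haveI : Fact (Nat.Prime 2) := ⟨Nat.prime_two⟩
  obtain ⟨n, hn⟩ := h.pow.exists_card_eq
  have h4 := h.four
  rw [← hu, Nat.card_zpowers] at hn h4
  have h2 : (2 : ℤ) ∣ (orderOf u : ℤ) := by
    rw [hn]
    exact_mod_cast dvd_pow_self 2 fun e0 => by rw [e0, pow_zero] at hn; omega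
  have := h2.trans hd
  omega

theorem closure_pair [Finite G] {s u : G} (hs : s ∈ D) (hsC : s ∉ C) (hu : zpowers u = C) :
    closure ({s, s * u} : Set G) = D := by
  have huC : u ∈ C := hu ▸ mem_zpowers u
  refine le_antisymm ((closure_le _).2 ?_) fun x hx => ?_
  · rintro x (rfl | rfl)
    · exact hs
    · exact mul_mem hs (h.le huC)
  · have hsm : s ∈ closure ({s, s * u} : Set G) := Subgroup.subset_closure (by simp)
    have hum : u ∈ closure ({s, s * u} : Set G) := by
      have := mul_mem (inv_mem hsm) (Subgroup.subset_closure (show s * u ∈ ({s, s * u} : Set G) by simp))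
      rwa [inv_mul_cancel_left] at this
    have hC : C ≤ closure ({s, s * u} : Set G) := hu ▸ zpowers_le.2 hum
    by_cases hxC : x ∈ C
    · exact hC hxC
    · have := mul_mem hsm (hC (h.idx s hs x hx hsC hxC))
      rwa [← mul_assoc, h.out s hs hsC, one_mul] at this

end Dih

/-- A dihedral subgroup from an involution inverting a cyclic subgroup. -/
theorem Dih.of_gens [Finite G] {s u : G} (hs : s * s = 1) (hsu : s * u * (s * u) = 1)
    (hp : IsPGroup 2 (zpowers u)) (h4 : 4 ≤ orderOf u) (hne : s ∉ zpowers u) :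
    Dih (closure ({s, s * u} : Set G)) (zpowers u) ∧
      ∀ x ∈ closure ({s, s * u} : Set G), x ∈ zpowers u ∨ s * x ∈ zpowers u := by
  set D := closure ({s, s * u} : Set G)
  have hsD : s ∈ D := Subgroup.subset_closure (by simp)
  have huD : u ∈ D := by
    have := mul_mem (inv_mem hsD) (Subgroup.subset_closure (show s * u ∈ ({s, s * u} : Set G) by simp))
    rwa [inv_mul_cancel_left] at this
  have hsi : s⁻¹ = s := inv_eq_of_mul_eq_one_right hs
  have hinv : ∀ v ∈ zpowers u, s * v * s = v⁻¹ := by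
    intro v hv
    obtain ⟨k, rfl⟩ := mem_zpowers_iff.1 hv
    have h1 : s * u * s = u⁻¹ := eq_inv_of_mul_eq_one_left (by rwa [mul_assoc _ s u])
    calc s * u ^ k * s = s * u ^ k * s⁻¹ := by rw [hsi]
      _ = (s * u * s⁻¹) ^ k := conj_zpow.symm
      _ = _ := by rw [hsi, h1, inv_zpow]
  have hcase : ∀ x ∈ D, x ∈ zpowers u ∨ s * x ∈ zpowers u := by
    intro x hx
    induction hx using Subgroup.closure_induction with
    | mem y hy =>
      rcases hy with rfl | rfl
      · exact Or.inr (hs ▸ one_mem _)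
      · exact Or.inr (by rw [← mul_assoc, hs, one_mul]; exact mem_zpowers u)
    | one => exact Or.inl (one_mem _)
    | mul a b _ _ ha hb =>
      rcases ha with ha | ha <;> rcases hb with hb | hb
      · exact Or.inl (mul_mem ha hb)
      · refine Or.inr ?_
        have := mul_mem (inv_mem ha) hb
        rwa [← hinv a ha, show s * a * s * (s * b) = s * a * (s * s) * b by group, hs, mul_one,
          mul_assoc] at this
      · exact Or.inr (by rw [← mul_assoc]; exact mul_mem ha hb)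
      · refine Or.inl ?_
        have := mul_mem (inv_mem ha) hb
        rw [← hinv _ ha, show s * (s * a) * s * (s * b) = s * s * a * (s * s) * b by group, hs, one_mul,
          mul_one] at this
        exact this
    | inv a _ ha =>
      rcases ha with ha | ha
      · exact Or.inl (inv_mem ha)
      · refine Or.inr ?_
        rw [show s * a⁻¹ = (s * (s * a) * s)⁻¹ by rw [← mul_assoc s s a, hs, one_mul, mul_inv_rev, hsi],
          hinv _ ha, inv_inv]
        exact ha
  refine ⟨⟨zpowers_le.2 huD, inferInstance, (by rwa [Nat.card_zpowers]), hp, ?_, ⟨s, hsD, hne⟩, ?_⟩,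
    hcase⟩
  · intro x hx y hy hxC hyC
    have ha := (hcase x hx).resolve_left hxC
    have hb := (hcase y hy).resolve_left hyC
    have := mul_mem (inv_mem ha) hb
    rwa [← hinv _ ha, show s * (s * x) * s * (s * y) = s * s * x * (s * s) * y by group, hs, one_mul,
      mul_one] at this
  · intro x hx hxC
    have ha := (hcase x hx).resolve_left hxC
    have := hinv _ ha
    rw [show s * (s * x) * s = s * s * x * s by group, hs, one_mul] at this
    have e : x * s * (s * x) = 1 := by rw [this, inv_mul_cancel]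
    rwa [show x * s * (s * x) = x * (s * s) * x by group, hs, mul_one] at e

end CfsgLib.DDProd
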