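import Cfsg.Agent.Lib.DDProd.Move

/-!
# Every fused class of reflections has an essential four group
-/

set_option autoImplicit false
set_option linter.unusedSectionVars false
set_option linter.style.haveILetI false

open Subgroup

namespace CfsgLib.DDProd

open CfsgLib.Fusion.Goldschmidt

universe u

variable {G : Type u} [Group G] [Finite G] {P : Sylow 2 G} {E D₁ C₁ D₂ : Subgroup G} {z₁ r₁ : G}

/-- The elements whose first coordinate avoids the class of `x` modulo squares. -/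
def Avoid (C₁ D₁ D₂ : Subgroup G) (x a : G) : Prop :=
  (pr D₁ D₂ a ∈ C₁ ∧ pr D₁ D₂ a ∈ sqSet C₁) ∨ (pr D₁ D₂ a ∉ C₁ ∧ x * pr D₁ D₂ a ∉ sqSet C₁)

section dih

variable {D C : Subgroup G} (k : Dih D C)

include k

/-- The parity of two odd rotations agrees. -/
theorem sq_of_notMem {a b : G} (ha : a ∈ C) (hb : b ∈ C) (ha' : a ∉ sqSet C) (hb' : b ∉ sqSet C) :
    a * b ∈ sqSet C := by
  obtain ⟨u, hu, hug, -⟩ := k.exists_gen
  have h1 := k.sq_mul ((k.sq_dichotomy hug ha).resolve_left ha') ((k.sq_dichotomy hug hb).resolve_left hb')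
  rw [show a * u * (b * u) = a * b * (u * u) by
    rw [(show Commute u b from k.comm hu hb).mul_mul_mul_comm]] at h1
  have h2 := k.sq_mul h1 (k.sq_inv (a := u * u) ⟨u, hu, rfl⟩)
  rwa [mul_inv_cancel_right] at h2

theorem comm_sq {a b : G} (ha : a ∈ D) (hb : b ∈ D) :
    a⁻¹ * (b⁻¹ * a * b) ∈ C ∧ a⁻¹ * (b⁻¹ * a * b) ∈ sqSet C := by
  have key : a⁻¹ * (b⁻¹ * a * b) ∈ sqSet C := by
    by_cases hbC : b ∈ C
    · by_cases haC : a ∈ C
      · rw [k.comm (inv_mem hbC) haC, inv_mul_cancel_right, inv_mul_cancel]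
        exact ⟨1, one_mem C, one_mul 1⟩
      · refine ⟨b, hbC, ?_⟩
        rw [k.swap' ha haC (inv_mem hbC), inv_inv, mul_assoc a b b, inv_mul_cancel_left]
    · have hb2 : b⁻¹ = b := k.inv_out hb hbC
      by_cases haC : a ∈ C
      · refine ⟨a⁻¹, inv_mem haC, ?_⟩
        have h1 := k.invert hb hbC haC
        rw [hb2] at h1
        rw [hb2, h1]
      · have hc : a * b ∈ C := k.idx a ha b hb haC hbC
        exact ⟨a * b, hc, by rw [k.inv_out ha haC, hb2]; group⟩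
  exact ⟨by obtain ⟨v, hv, e⟩ := key; exact e ▸ mul_mem hv hv, key⟩

end dih

variable (h : Side (P : Subgroup G) D₁ C₁ z₁ r₁ D₂) (hs : Sec (P : Subgroup G) D₁ D₂)

include h

/-- The subgroup avoiding a class of reflections. -/
def avoidSub {x : G} (hx : x ∈ D₁) (hxC : x ∉ C₁) : Subgroup G where
  carrier := {a | a ∈ (P : Subgroup G) ∧ Avoid C₁ D₁ D₂ x a}
  one_mem' := ⟨one_mem _, Or.inl ⟨by rw [pr_self h.prd (one_mem _)]; exact one_mem _,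
    ⟨1, one_mem _, by rw [pr_self h.prd (one_mem _), one_mul]⟩⟩⟩
  mul_mem' := fun {a b} ha hb => by
    refine ⟨mul_mem ha.1 hb.1, ?_⟩
    have hd := h.dih.toDih
    set A := pr D₁ D₂ a with hA
    set B := pr D₁ D₂ b with hB
    have hAD : A ∈ D₁ := pr_mem h.prd ha.1
    have hBD : B ∈ D₁ := pr_mem h.prd hb.1
    unfold Avoid
    rw [pr_mul h.prd ha.1 hb.1]
    rcases ha.2 with ⟨a1, a2⟩ | ⟨a1, a2⟩ <;> rcases hb.2 with ⟨b1, b2⟩ | ⟨b1, b2⟩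
    · exact Or.inl ⟨mul_mem a1 b1, hd.sq_mul a2 b2⟩
    · refine Or.inr ⟨hd.notMem_mul b1 a1, fun hc => b2 ?_⟩
      have hxB : x * B ∈ C₁ := hd.idx x hx B hBD hxC b1
      rw [← mul_assoc, hd.swap hx hxC a1, mul_assoc] at hc
      have := hd.sq_mul a2 hc
      rwa [mul_inv_cancel_left] at this
    · refine Or.inr ⟨hd.mul_notMem a1 b1, fun hc => a2 ?_⟩
      rw [← mul_assoc] at hc
      have := hd.sq_mul hc (hd.sq_inv b2)
      rwa [mul_inv_cancel_right] at this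
    · refine Or.inl ⟨hd.idx A hAD B hBD a1 b1, ?_⟩
      have hAx : A * x ∈ C₁ := hd.idx A hAD x hx a1 hxC
      have hxB : x * B ∈ C₁ := hd.idx x hx B hBD hxC b1
      have hAx' : A * x ∉ sqSet C₁ := fun hq => a2 (by
        have := hd.sq_inv hq
        rwa [mul_inv_rev, hd.inv_out hx hxC, hd.inv_out hAD a1] at this)
      have := sq_of_notMem hd hAx hxB hAx' b2
      rwa [show A * x * (x * B) = A * (x * x) * B by group, hd.out x hx hxC, mul_one] at this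
  inv_mem' := fun {a} ha => by
    refine ⟨inv_mem ha.1, ?_⟩
    unfold Avoid
    rw [pr_inv h.prd ha.1]
    rcases ha.2 with ⟨a1, a2⟩ | ⟨a1, a2⟩
    · exact Or.inl ⟨inv_mem a1, h.dih.toDih.sq_inv a2⟩
    · rw [h.dih.toDih.inv_out (pr_mem h.prd ha.1) a1]
      exact Or.inr ⟨a1, a2⟩

theorem x_notMem_avoid {x : G} (hx : x ∈ D₁) (hxC : x ∉ C₁) : x ∉ avoidSub h hx hxC := by
  rintro ⟨-, ha⟩
  unfold Avoid at ha
  rw [pr_self h.prd hx] at ha
  rcases ha with ⟨a1, -⟩ | ⟨-, a2⟩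
  · exact hxC a1
  · exact a2 ⟨1, one_mem _, by rw [one_mul, h.dih.out x hx hxC]⟩

theorem avoid_of_parts {x a : G} (hx : x ∈ D₁) (hxC : x ∉ C₁) (ha : a ∈ (P : Subgroup G))
    (h1 : pr D₁ D₂ a = 1 ∨ pr D₁ D₂ a = z₁) : a ∈ avoidSub h hx hxC := by
  refine ⟨ha, Or.inl ?_⟩
  rcases h1 with e | e <;> rw [e]
  · exact ⟨one_mem _, 1, one_mem _, one_mul 1⟩
  · exact ⟨h.dih.zC, h.dih.z_mem_sq⟩

theorem cen_cases (hE : Good P E) (hw : IsWide E D₁ C₁ r₁ D₂) {x : G} (hx : x ∈ cen E) :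
    pr D₁ D₂ x = 1 ∨ pr D₁ D₂ x = z₁ := by
  obtain ⟨f, hf, hfC⟩ := hw.refl
  have hc : ∀ y ∈ E, pr D₁ D₂ x * pr D₁ D₂ y = pr D₁ D₂ y * pr D₁ D₂ x := fun y hy =>
    pr_comm h.prd (hE.1 hx.1) (hE.1 hy) (mem_centralizer_iff.1 hx.2 y hy).symm
  have hr := hc r₁ hw.rE
  rw [pr_self h.prd h.dih.rD] at hr
  have hC := h.dih.toDih.mem_of_comm (pr_mem h.prd (hE.1 hx.1)) h.dih.rC h.dih.rr_ne hr
  refine h.dih.eq_one_or_z hC ?_
  have e1 := hc f hf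
  rw [h.dih.toDih.swap (pr_mem h.prd (hE.1 hf)) hfC hC] at e1
  exact inv_eq_iff_mul_eq_one.1 (mul_right_cancel e1).symm

/-- With two dihedral coordinates operators of odd order act trivially. -/
theorem wide_wide {C₂ : Subgroup G} {z₂ r₂ : G} (h₂ : Side (P : Subgroup G) D₂ C₂ z₂ r₂ D₁) (hE : Good P E)
    (hw₁ : IsWide E D₁ C₁ r₁ D₂) (hw₂ : IsWide E D₂ C₂ r₂ D₁) {g : G} (hg : g ∈ normalizer (E : Set G))
    (hodd : Odd (orderOf g)) {e : G} (he : e ∈ E) : g * e * g⁻¹ = e := by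
  have hconj : ∀ {y}, y ∈ E → g * y * g⁻¹ ∈ E := fun {y} hy => (mem_normalizer_iff.1 hg y).1 hy
  have hcenC : ∀ {y}, y ∈ cen E → Central (P : Subgroup G) y := fun {y} hy =>
    central_of_parts h (hE.1 hy.1) (cen_cases h hE hw₁ hy) (by
      rcases cen_cases h₂ hE hw₂ hy with e | e <;> rw [e]
      · exact ⟨one_mem _, fun d _ => by rw [one_mul, mul_one]⟩
      · exact inW_z h h₂)
  have hzc : ∀ {z : G}, z ∈ (P : Subgroup G) → z ∈ E → (∀ y ∈ (P : Subgroup G), y * z = z * y) →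
      g * z * g⁻¹ ∈ cen E := fun {z} _ hzE hz =>
    (mem_normalizer_iff.1 (normalizer_le_cen E hg) z).1
      ⟨hzE, mem_centralizer_iff.2 fun y hy => hz y (hE.1 hy)⟩
  have hz1 : g * z₁ * g⁻¹ = z₁ :=
    rigid h (Or.inl ⟨C₂, z₂, r₂, h₂⟩) (hcenC (hzc h.zS (z_mem h hE) fun y hy => h.z_central hy))
  have hz2 : g * z₂ * g⁻¹ = z₂ :=
    rigid h₂ (Or.inl ⟨C₁, z₁, r₁, h⟩) (hcenC (hzc h₂.zS (z_mem h₂ hE) fun y hy => h₂.z_central hy))
  have hAcomm : ∀ {a b}, a ∈ E → b ∈ E → pr D₁ D₂ a ∈ C₁ → pr D₂ D₁ a ∈ C₂ → pr D₁ D₂ b ∈ C₁ →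
      pr D₂ D₁ b ∈ C₂ → a * b = b * a := by
    intro a b ha hb a1 a2 b1 b2
    refine prd_ext h.prd (mul_mem (hE.1 ha) (hE.1 hb)) (mul_mem (hE.1 hb) (hE.1 ha)) ?_ ?_
    · rw [pr_mul h.prd (hE.1 ha) (hE.1 hb), pr_mul h.prd (hE.1 hb) (hE.1 ha), h.dih.toDih.comm a1 b1]
    · rw [pr_mul h₂.prd (hE.1 ha) (hE.1 hb), pr_mul h₂.prd (hE.1 hb) (hE.1 ha), h₂.dih.toDih.comm a2 b2]
  have hA : ∀ {a}, a ∈ E → pr D₁ D₂ a ∈ C₁ → pr D₂ D₁ a ∈ C₂ →
      pr D₁ D₂ (g * a * g⁻¹) ∈ C₁ ∧ pr D₂ D₁ (g * a * g⁻¹) ∈ C₂ := by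
    intro a ha a1 a2
    have main : ∀ {D C D' : Subgroup G} {z r : G} (k : Side (P : Subgroup G) D C z r D'), r ∈ E →
        g * z * g⁻¹ = z → a * r = r * a → pr D D' (g * a * g⁻¹) ∈ C := by
      intro D C D' z r k hrE hzfix hcomm
      have hsq : pr D D' (g * r * g⁻¹) * pr D D' (g * r * g⁻¹) ≠ 1 := by
        rw [← pr_mul k.prd (hE.1 (hconj hrE)) (hE.1 (hconj hrE)),
          show g * r * g⁻¹ * (g * r * g⁻¹) = g * (r * r) * g⁻¹ by group, k.dih.rr, hzfix,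
          pr_self k.prd k.dih.zD]
        exact k.dih.z1
      refine k.dih.toDih.mem_of_comm (pr_mem k.prd (hE.1 (hconj ha)))
        (k.dih.toDih.mem_of_sq (pr_mem k.prd (hE.1 (hconj hrE))) hsq) hsq
        (pr_comm k.prd (hE.1 (hconj ha)) (hE.1 (hconj hrE)) ?_)
      rw [show g * a * g⁻¹ * (g * r * g⁻¹) = g * (a * r) * g⁻¹ by group, hcomm]
      group
    exact ⟨main h hw₁.rE hz1 (hAcomm ha hw₁.rE a1 a2 (by rw [pr_self h.prd h.dih.rD]; exact h.dih.rC)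
        (by rw [pr_other h₂.prd h.dih.rD]; exact one_mem _)),
      main h₂ hw₂.rE hz2 (hAcomm ha hw₂.rE a1 a2 (by rw [pr_other h.prd h₂.dih.rD]; exact one_mem _)
        (by rw [pr_self h₂.prd h₂.dih.rD]; exact h₂.dih.rC))⟩
  have hEp : IsPGroup 2 E := P.2.to_le hE.1
  have hfixA : ∀ n : ℕ, ∀ a ∈ E, pr D₁ D₂ a ∈ C₁ → pr D₂ D₁ a ∈ C₂ → a ^ (2 ^ n) = 1 → g * a * g⁻¹ = a := by
    intro n
    induction n with
    | zero => intro a _ _ _ ha1; rw [pow_zero, pow_one] at ha1; subst ha1; group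
    | succ m ih =>
      intro a ha a1 a2 hapow
      have hsq := ih (a * a) (mul_mem ha ha) (by rw [pr_mul h.prd (hE.1 ha) (hE.1 ha)]; exact mul_mem a1 a1)
        (by rw [pr_mul h₂.prd (hE.1 ha) (hE.1 ha)]; exact mul_mem a2 a2)
        (by rw [← pow_two, ← pow_mul, ← pow_succ', hapow])
      obtain ⟨b1, b2⟩ := hA ha a1 a2
      set d := g * a * g⁻¹ * a⁻¹ with hd
      have hdE : d ∈ E := mul_mem (hconj ha) (inv_mem ha)
      have d1 : pr D₁ D₂ d ∈ C₁ := by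
        rw [pr_mul h.prd (hE.1 (hconj ha)) (inv_mem (hE.1 ha)), pr_inv h.prd (hE.1 ha)]
        exact mul_mem b1 (inv_mem a1)
      have d2 : pr D₂ D₁ d ∈ C₂ := by
        rw [pr_mul h₂.prd (hE.1 (hconj ha)) (inv_mem (hE.1 ha)), pr_inv h₂.prd (hE.1 ha)]
        exact mul_mem b2 (inv_mem a2)
      have hdd : d * d = 1 := by
        have e1 : g * a * g⁻¹ = d * a := by rw [hd]; group
        have e2 : d * a * (d * a) = a * a := by
          rw [← e1, show g * a * g⁻¹ * (g * a * g⁻¹) = g * (a * a) * g⁻¹ by group, hsq]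
        rw [(show Commute a d from hAcomm ha hdE a1 a2 d1 d2).mul_mul_mul_comm] at e2
        exact mul_eq_right.1 e2
      have hdfix : g * d * g⁻¹ = d := by
        have p1 : pr D₁ D₂ d = 1 ∨ pr D₁ D₂ d = z₁ := h.dih.eq_one_or_z d1 (by
          rw [← pr_mul h.prd (hE.1 hdE) (hE.1 hdE), hdd, pr_self h.prd (one_mem _)])
        have p2 : pr D₂ D₁ d = 1 ∨ pr D₂ D₁ d = z₂ := h₂.dih.eq_one_or_z d2 (by
          rw [← pr_mul h₂.prd (hE.1 hdE) (hE.1 hdE), hdd, pr_self h₂.prd (one_mem _)])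
        rw [← pr_split h.prd (hE.1 hdE), show g * (pr D₁ D₂ d * pr D₂ D₁ d) * g⁻¹ =
          (g * pr D₁ D₂ d * g⁻¹) * (g * pr D₂ D₁ d * g⁻¹) by group]
        rcases p1 with e1 | e1 <;> rcases p2 with e2 | e2 <;> rw [e1, e2] <;> simp [hz1, hz2]
      obtain ⟨j, hj⟩ := exists_two_pow hEp hdE
      exact eq_of_two_step hodd hdfix hj
  have hfixA' : ∀ {a}, a ∈ E → pr D₁ D₂ a ∈ C₁ → pr D₂ D₁ a ∈ C₂ → g * a * g⁻¹ = a := fun {a} ha a1 a2 => by
    obtain ⟨j, hj⟩ := exists_two_pow hEp ha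
    exact hfixA j a ha a1 a2 hj
  set d := g * e * g⁻¹ * e⁻¹ with hd
  have hdE : d ∈ E := mul_mem (hconj he) (inv_mem he)
  have hdcomm : ∀ {a}, a ∈ E → pr D₁ D₂ a ∈ C₁ → pr D₂ D₁ a ∈ C₂ → d * a = a * d := by
    intro a ha a1 a2
    have hb : e⁻¹ * a * e ∈ E := mul_mem (mul_mem (inv_mem he) ha) he
    have b1 : pr D₁ D₂ (e⁻¹ * a * e) ∈ C₁ := by
      have := h.dih.toDih.conj_mem (inv_mem (pr_mem h.prd (hE.1 he))) a1
      rwa [inv_inv, ← pr_inv h.prd (hE.1 he), ← pr_mul h.prd (inv_mem (hE.1 he)) (hE.1 ha),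
        ← pr_mul h.prd (mul_mem (inv_mem (hE.1 he)) (hE.1 ha)) (hE.1 he)] at this
    have b2 : pr D₂ D₁ (e⁻¹ * a * e) ∈ C₂ := by
      have := h₂.dih.toDih.conj_mem (inv_mem (pr_mem h₂.prd (hE.1 he))) a2
      rwa [inv_inv, ← pr_inv h₂.prd (hE.1 he), ← pr_mul h₂.prd (inv_mem (hE.1 he)) (hE.1 ha),
        ← pr_mul h₂.prd (mul_mem (inv_mem (hE.1 he)) (hE.1 ha)) (hE.1 he)] at this
    have k1 := hfixA' hb b1 b2
    have k2 := hfixA' ha a1 a2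
    calc d * a = g * e * g⁻¹ * (e⁻¹ * a * e) * e⁻¹ := by rw [hd]; group
      _ = g * e * g⁻¹ * (g * (e⁻¹ * a * e) * g⁻¹) * e⁻¹ := by rw [k1]
      _ = g * a * g⁻¹ * (g * e * g⁻¹) * e⁻¹ := by group
      _ = a * d := by rw [k2, hd]; group
  have d1 : pr D₁ D₂ d ∈ C₁ := by
    refine h.dih.toDih.mem_of_comm (pr_mem h.prd (hE.1 hdE)) h.dih.rC h.dih.rr_ne ?_
    have := pr_comm h.prd (hE.1 hdE) h.rS (hdcomm hw₁.rE (by rw [pr_self h.prd h.dih.rD]; exact h.dih.rC)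
      (by rw [pr_other h₂.prd h.dih.rD]; exact one_mem _))
    rwa [pr_self h.prd h.dih.rD] at this
  have d2 : pr D₂ D₁ d ∈ C₂ := by
    refine h₂.dih.toDih.mem_of_comm (pr_mem h₂.prd (hE.1 hdE)) h₂.dih.rC h₂.dih.rr_ne ?_
    have := pr_comm h₂.prd (hE.1 hdE) h₂.rS (hdcomm hw₂.rE (by rw [pr_other h.prd h₂.dih.rD]; exact one_mem _)
      (by rw [pr_self h₂.prd h₂.dih.rD]; exact h₂.dih.rC))
    rwa [pr_self h₂.prd h₂.dih.rD] at this
  obtain ⟨j, hj⟩ := exists_two_pow hEp hdE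
  exact eq_of_two_step hodd (hfixA' hdE d1 d2) hj

include hs

/-- A dihedral coordinate of a good subgroup: the partner is elementary or both are dihedral. -/
theorem wide_cases (hE : Good P E) (hw : IsWide E D₁ C₁ r₁ D₂) :
    PartFour E D₁ D₂ ∨ ∃ C₂ z₂ r₂, Side (P : Subgroup G) D₂ C₂ z₂ r₂ D₁ ∧ IsWide E D₂ C₂ r₂ D₁ := by
  rcases hs with ⟨C₂, z₂, r₂, h₂⟩ | hD
  · rcases four_or_wide h₂ hE with ⟨t, ht⟩ | hw₂
    · exact Or.inl (partFour_of_box h₂ h (box_of_good h₂ (Or.inl ⟨C₁, z₁, r₁, h⟩) hE ht))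
    · exact Or.inr ⟨C₂, z₂, r₂, h₂, hw₂⟩
  · refine Or.inl fun e he => ?_
    have he2 := pr_mem (prd_symm h.prd) (hE.1 he)
    have hW : InW D₂ (pr D₂ D₁ e) := ⟨he2, fun d hd => comm_of_exp_two_mem hD hd he2⟩
    exact ⟨good_centralizer hE (h.prd.2.1 he2) fun y hy => ((central_of_inW h hW).2 y (hE.1 hy)).symm,
      hD _ he2⟩

/-- Without essential four groups of the class the avoiding subgroup is respected by fusion. -/
theorem step_avoid {x : G} (hx : x ∈ D₁) (hxC : x ∉ C₁)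
    (hno : ∀ E, Good P E → ∀ s, IsFour E D₁ C₁ z₁ D₂ s → x * s ∉ sqSet C₁) :
    ∀ E, Good P E → ∀ n ∈ normalizer (E : Set G), ∀ a ∈ E, a⁻¹ * (n⁻¹ * a * n) ∈ avoidSub h hx hxC := by
  intro E hE
  set X := avoidSub h hx hxC
  let L : Subgroup G :=
    { carrier := {n | n ∈ normalizer (E : Set G) ∧ ∀ a ∈ E, a⁻¹ * (n⁻¹ * a * n) ∈ X}
      one_mem' := ⟨one_mem _, fun a _ => by simp⟩
      mul_mem' := fun {m n} hm hn => ⟨mul_mem hm.1 hn.1, fun a ha => by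
        have ha' : m⁻¹ * a * m ∈ E := by
          have := (mem_normalizer_iff.1 (inv_mem hm.1) a).1 ha
          rwa [inv_inv] at this
        have := mul_mem (hm.2 a ha) (hn.2 _ ha')
        rwa [show a⁻¹ * (m⁻¹ * a * m) * ((m⁻¹ * a * m)⁻¹ * (n⁻¹ * (m⁻¹ * a * m) * n)) =
          a⁻¹ * ((m * n)⁻¹ * a * (m * n)) by group] at this⟩
      inv_mem' := fun {n} hn => ⟨inv_mem hn.1, fun a ha => by
        have := inv_mem (hn.2 _ ((mem_normalizer_iff.1 hn.1 a).1 ha))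
        rwa [show ((n * a * n⁻¹)⁻¹ * (n⁻¹ * (n * a * n⁻¹) * n))⁻¹ = a⁻¹ * (n⁻¹⁻¹ * a * n⁻¹) by group] at this⟩ }
  suffices normalizer (E : Set G) ≤ L from fun n hn => (this hn).2
  refine good_le P hE (fun n hn hodd => ⟨hn, fun a ha => ?_⟩) fun n hn => ⟨hn.2, fun a ha => ?_⟩
  swap
  · have ha' := hE.1 ha
    refine ⟨mul_mem (inv_mem ha') (mul_mem (mul_mem (inv_mem hn.1) ha') hn.1), Or.inl ?_⟩
    rw [pr_mul h.prd (inv_mem ha') (mul_mem (mul_mem (inv_mem hn.1) ha') hn.1),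
      pr_mul h.prd (mul_mem (inv_mem hn.1) ha') hn.1, pr_mul h.prd (inv_mem hn.1) ha', pr_inv h.prd ha',
      pr_inv h.prd hn.1]
    exact comm_sq h.dih.toDih (pr_mem h.prd ha') (pr_mem h.prd hn.1)
  have hb : n⁻¹ * a * n ∈ E := by
    have := (mem_normalizer_iff.1 (inv_mem hn) a).1 ha
    rwa [inv_inv] at this
  rcases four_or_wide h hE with ⟨s, hsf⟩ | hw
  · have hmem : ∀ y ∈ E, y ∈ X := by
      intro y hy
      have hxs : x * s ∈ C₁ := h.dih.idx x hx s hsf.sD hxC hsf.sC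
      rcases hsf.cases y hy with e | e | e | e
      · exact avoid_of_parts h hx hxC (hE.1 hy) (Or.inl e)
      · exact avoid_of_parts h hx hxC (hE.1 hy) (Or.inr e)
      · exact ⟨hE.1 hy, Or.inr ⟨e ▸ hsf.sC, e ▸ hno E hE s hsf⟩⟩
      · refine ⟨hE.1 hy, Or.inr ⟨e ▸ h.dih.toDih.mul_notMem hsf.sC h.dih.zC, fun hq => hno E hE s hsf ?_⟩⟩
        rw [e, ← mul_assoc] at hq
        have := h.dih.toDih.sq_mul hq (h.dih.toDih.sq_inv h.dih.z_mem_sq)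
        rwa [mul_inv_cancel_right] at this
    exact mul_mem (inv_mem (hmem a ha)) (hmem _ hb)
  rcases wide_cases h hs hE hw with hpart | ⟨C₂, z₂, r₂, h₂, hw₂⟩
  · have hd := comm_mem_cen h hE hw hpart (inv_mem hn) (by rwa [orderOf_inv]) (inv_mem ha)
    have hd' := inv_mem hd
    rw [show (n⁻¹ * a⁻¹ * n⁻¹⁻¹ * a⁻¹⁻¹)⁻¹ = a⁻¹ * (n⁻¹ * a * n) by group] at hd'
    exact avoid_of_parts h hx hxC (hE.1 hd'.1) ((mem_cen_iff h hE hw hpart).1 hd').2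
  · have := wide_wide h h₂ hE hw hw₂ (inv_mem hn) (by rwa [orderOf_inv]) ha
    rw [inv_inv] at this
    rw [this, inv_mul_cancel]
    exact one_mem X

/-- A class fused out of its avoiding subgroup has an essential four group. -/
theorem exists_four_of_fused {x : G} (hx : x ∈ D₁) (hxC : x ∉ C₁) {a g : G} (ha : a ∈ (P : Subgroup G))
    (hg : g⁻¹ * a * g ∈ (P : Subgroup G)) (hne : a⁻¹ * (g⁻¹ * a * g) ∉ avoidSub h hx hxC) :
    ∃ E, Good P E ∧ ∃ s, IsFour E D₁ C₁ z₁ D₂ s ∧ x * s ∈ sqSet C₁ := by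
  by_contra hall
  push Not at hall
  refine hne (rel_of_good P (fun a b => a⁻¹ * b ∈ avoidSub h hx hxC) (fun a _ => by simp)
    (fun a b c h1 h2 => ?_) (step_avoid h hs hx hxC fun E hE s hf => hall E hE s hf) ha hg)
  have := mul_mem h1 h2
  rwa [mul_assoc, mul_inv_cancel_left] at this

/-- Without normal subgroups of index two every class has an essential four group. -/
theorem exists_four_of_perfect (hperf : _root_.commutator G = ⊤) {x : G} (hx : x ∈ D₁) (hxC : x ∉ C₁) :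
    ∃ E, Good P E ∧ ∃ s, IsFour E D₁ C₁ z₁ D₂ s ∧ x * s ∈ sqSet C₁ := by
  by_contra hall
  push Not at hall
  have h1 := commutator_inf_le P (avoidSub h hx hxC) (step_avoid h hs hx hxC fun E hE s hf => hall E hE s hf)
  rw [hperf, top_inf_eq] at h1
  exact x_notMem_avoid h hx hxC (h1 (h.prd.1 hx))

omit hs in
/-- The twist of a class. -/
theorem twist_of_four (hs : Sec (P : Subgroup G) D₁ D₂) {E : Subgroup G} (hE : Good P E) {s x : G}
    (hf : IsFour E D₁ C₁ z₁ D₂ s) (hx : x ∈ D₁) (hxC : x ∉ C₁) (hsq : x * s ∈ sqSet C₁) :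
    ∃ w, InW D₂ w ∧ (∃ g, g * z₁ * g⁻¹ = x * w) ∧
      ∀ w', InW D₂ w' → (∃ g, g * z₁ * g⁻¹ = x * w') → w' = w := by
  obtain ⟨w, hw, ⟨g, hg⟩, huniq⟩ := exists_unique_twist h hE hs hf
  obtain ⟨v, hv, e⟩ := h.dih.toDih.sq_inv hsq
  have hconj : v⁻¹ * s * v = x := by
    rw [h.dih.toDih.exists_conj hf.sD hf.sC hv, e, mul_inv_rev, h.dih.toDih.inv_out hx hxC,
      h.dih.toDih.inv_out hf.sD hf.sC, ← mul_assoc, h.dih.out s hf.sD hf.sC, one_mul]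
  have hvW : ∀ {w'}, InW D₂ w' → v⁻¹ * w' * v = w' := fun {w'} hw' => by
    rw [(central_of_inW h hw').2 v⁻¹ (inv_mem (h.prd.1 (h.dih.le hv))), inv_mul_cancel_right]
  refine ⟨w, hw, ⟨v⁻¹ * g, ?_⟩, fun w' hw' ⟨g', hg'⟩ => huniq w' hw' ⟨v * g', ?_⟩⟩
  · rw [show v⁻¹ * g * z₁ * (v⁻¹ * g)⁻¹ = v⁻¹ * (g * z₁ * g⁻¹) * v by group, hg,
      show v⁻¹ * (s * w) * v = (v⁻¹ * s * v) * (v⁻¹ * w * v) by group, hconj, hvW hw]
  · rw [show v * g' * z₁ * (v * g')⁻¹ = v * (g' * z₁ * g'⁻¹) * v⁻¹ by group, hg', ← hconj]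
    conv_lhs => rw [← hvW hw']
    group

end CfsgLib.DDProd
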