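import Cfsg.Agent.Lib.DDProd.Closed

/-!
# The elementary factor is strongly closed
-/

set_option autoImplicit false
set_option linter.unusedSectionVars false
set_option linter.style.haveILetI false

open Subgroup

namespace CfsgLib.DDProd

open CfsgLib.Fusion.Goldschmidt

universe u

variable {G : Type u} [Group G] [Finite G] {P : Sylow 2 G} {D₁ C₁ V : Subgroup G} {z₁ r₁ : G}
  (h : Side (P : Subgroup G) D₁ C₁ z₁ r₁ V) (hV : ∀ d ∈ V, d * d = 1)
  (hcl : Cfsg.IsStronglyClosed D₁ (P : Subgroup G))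

include h hV hcl

theorem norm_rot {m : G} (hm : m ∈ normalizer ((P : Subgroup G) : Set G)) :
    (∀ a ∈ D₁, m * a * m⁻¹ ∈ D₁) ∧ (∀ a ∈ C₁, m * a * m⁻¹ ∈ C₁) := by
  have h1 : ∀ a ∈ D₁, m * a * m⁻¹ ∈ D₁ := fun a ha =>
    hcl.2 a ha m ((mem_normalizer_iff.1 hm a).1 (h.prd.1 ha))
  refine ⟨h1, fun a ha => ?_⟩
  by_cases h2 : a * a = 1
  · rcases h.dih.eq_one_or_z ha h2 with e | e <;> rw [e]
    · rw [mul_one, mul_inv_cancel]; exact one_mem _
    · rw [odd_fix_four h hV hm]; exact h.dih.zC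
  · refine h.dih.toDih.mem_of_sq (h1 a (h.dih.le ha)) fun e => h2 ?_
    rw [show m * a * m⁻¹ * (m * a * m⁻¹) = m * (a * a) * m⁻¹ by group] at e
    exact conj_eq_one_iff.1 e

theorem norm_refl {m x : G} (hm : m ∈ normalizer ((P : Subgroup G) : Set G)) (hx : x ∈ D₁) (hxC : x ∉ C₁) :
    m * x * m⁻¹ ∈ D₁ ∧ m * x * m⁻¹ ∉ C₁ := by
  refine ⟨(norm_rot h hV hcl hm).1 x hx, fun hC => hxC ?_⟩
  have := (norm_rot h hV hcl (inv_mem hm)).2 _ hC
  rwa [show m⁻¹ * (m * x * m⁻¹) * m⁻¹⁻¹ = x by group] at this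

/-- The square of an element of the normaliser keeps each class of reflections. -/
theorem norm_sq_class {y x : G} (hy : y ∈ normalizer ((P : Subgroup G) : Set G)) (hx : x ∈ D₁) (hxC : x ∉ C₁) :
    ∃ q ∈ C₁, q⁻¹ * x * q = y * y * x * (y * y)⁻¹ := by
  obtain ⟨h1, h1C⟩ := norm_refl h hV hcl hy hx hxC
  obtain ⟨h2, h2C⟩ := norm_refl h hV hcl hy h1 h1C
  set x' := y * x * y⁻¹ with hx'
  set x'' := y * x' * y⁻¹ with hx''
  have hd := h.dih.toDih
  have hmap : ∀ {m a}, m ∈ normalizer ((P : Subgroup G) : Set G) → a ∈ sqSet C₁ → m * a * m⁻¹ ∈ sqSet C₁ := by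
    rintro m a hm ⟨v, hv, rfl⟩
    exact ⟨m * v * m⁻¹, (norm_rot h hV hcl hm).2 v hv, by group⟩
  have hiff : x' * x'' ∈ sqSet C₁ ↔ x * x' ∈ sqSet C₁ := by
    have e : x' * x'' = y * (x * x') * y⁻¹ := by rw [hx'', hx']; group
    constructor
    · intro hq
      have := hmap (inv_mem hy) hq
      rwa [e, show y⁻¹ * (y * (x * x') * y⁻¹) * y⁻¹⁻¹ = x * x' by group] at this
    · intro hq
      rw [e]
      exact hmap hy hq
  have hq : x * x'' ∈ sqSet C₁ := by
    rw [show x * x'' = x * (x' * x') * x'' by rw [hd.out x' h1 h1C, mul_one],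
      show x * (x' * x') * x'' = x * x' * (x' * x'') by group]
    by_cases hxx : x * x' ∈ sqSet C₁
    · exact hd.sq_mul hxx (hiff.2 hxx)
    · exact sq_of_notMem hd (hd.idx x hx x' h1 hxC h1C) (hd.idx x' h1 x'' h2 h1C h2C) hxx
        (fun e => hxx (hiff.1 e))
  obtain ⟨q, hqC, e⟩ := hq
  refine ⟨q, hqC, ?_⟩
  rw [hd.exists_conj hx hxC hqC, e, ← mul_assoc, hd.out x hx hxC, one_mul, hx'', hx']
  group

/-- Conjugation in the dihedral factor fixes the elementary factor. -/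
theorem conj_fix {q w : G} (hq : q ∈ D₁) (hw : w ∈ V) : q * w * q⁻¹ = w := by
  rw [prd_comm h.prd hq hw, mul_inv_cancel_right]

/-- The elementary factor is strongly closed. -/
theorem strongly_closed_four (hperf : _root_.commutator G = ⊤) (hn : Normed D₁ C₁ z₁) {y : G}
    (hy : y ∈ normalizer ((P : Subgroup G) : Set G)) {v₁ v₂ : G} (hv1 : v₁ ≠ 1) (hv2 : v₂ ≠ 1) (hne : v₁ ≠ v₂)
    (hVm : ∀ x, x ∈ V ↔ x = 1 ∨ x = v₁ ∨ x = v₂ ∨ x = v₁ * v₂) (hy1 : y * v₁ * y⁻¹ = v₂)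
    (hy2 : y * v₂ * y⁻¹ = v₁ * v₂) (hy3 : y * (v₁ * v₂) * y⁻¹ = v₁) :
    Cfsg.IsStronglyClosed V (P : Subgroup G) := by
  have hs : Sec (P : Subgroup G) D₁ V := Or.inr hV
  have hW : ∀ {w}, w ∈ V → InW V w := fun {w} hw => ⟨hw, fun d hd => comm_of_exp_two_mem hV hd hw⟩
  have hdisj : z₁ ∉ V := fun hz => h.dih.z1 (by
    have := pr_other h.prd hz
    rwa [pr_self h.prd h.dih.zD] at this)
  have htrans : ∀ {v w}, v ∈ V → v ≠ 1 → w ∈ V → w ≠ 1 →
      w = v ∨ w = y * y * v * (y * y)⁻¹ ∨ w = y * y * (y * y * v * (y * y)⁻¹) * (y * y)⁻¹ := by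
    intro v w hv hv' hw hw'
    have h21 : y * y * v₁ * (y * y)⁻¹ = v₁ * v₂ := by
      rw [show y * y * v₁ * (y * y)⁻¹ = y * (y * v₁ * y⁻¹) * y⁻¹ by group, hy1, hy2]
    have h22 : y * y * v₂ * (y * y)⁻¹ = v₁ := by
      rw [show y * y * v₂ * (y * y)⁻¹ = y * (y * v₂ * y⁻¹) * y⁻¹ by group, hy2, hy3]
    have h23 : y * y * (v₁ * v₂) * (y * y)⁻¹ = v₂ := by
      rw [show y * y * (v₁ * v₂) * (y * y)⁻¹ = y * (y * (v₁ * v₂) * y⁻¹) * y⁻¹ by group, hy3, hy1]
    rcases (hVm v).1 hv with e | e | e | e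
    · exact absurd e hv'
    all_goals rw [e]
    · rw [h21, h23]
      rcases (hVm w).1 hw with e' | e' | e' | e'
      · exact absurd e' hw'
      exacts [Or.inl e', Or.inr (Or.inr e'), Or.inr (Or.inl e')]
    · rw [h22, h21]
      rcases (hVm w).1 hw with e' | e' | e' | e'
      · exact absurd e' hw'
      exacts [Or.inr (Or.inl e'), Or.inl e', Or.inr (Or.inr e')]
    · rw [h23, h22]
      rcases (hVm w).1 hw with e' | e' | e' | e'
      · exact absurd e' hw'
      exacts [Or.inr (Or.inr e'), Or.inr (Or.inl e'), Or.inl e']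
  -- the normaliser of the Sylow group preserves `V`
  have hnorm : ∀ {n v}, n ∈ normalizer ((P : Subgroup G) : Set G) → v ∈ V → n * v * n⁻¹ ∈ V := by
    intro n v hn' hv
    by_cases hv' : v = 1
    · rw [hv', mul_one, mul_inv_cancel]; exact one_mem _
    have hvc := central_of_inW h (hW hv)
    have hc := conj_central h hn' hvc
    set w := pr V D₁ (n * v * n⁻¹) with hw
    have hwV : w ∈ V := pr_mem (prd_symm h.prd) hc.1
    rcases central_four_parts h hV hc with e | e <;> rw [← hw] at e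
    · rw [e]; exact hwV
    exfalso
    by_cases hw1 : w = 1
    · rw [hw1, one_mul] at e
      have e2 : v = z₁ := mul_left_cancel (mul_right_cancel (e.trans (odd_fix_four h hV hn').symm))
      exact hdisj (e2 ▸ hv)
    obtain ⟨m, hm, hmw⟩ : ∃ m ∈ normalizer ((P : Subgroup G) : Set G), m * w * m⁻¹ = v := by
      rcases htrans hwV hw1 hv hv' with e' | e' | e'
      · exact ⟨1, one_mem _, by rw [e', one_mul, inv_one, mul_one]⟩
      · exact ⟨y * y, mul_mem hy hy, e'.symm⟩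
      · exact ⟨y * y * (y * y), mul_mem (mul_mem hy hy) (mul_mem hy hy), by rw [e']; group⟩
    have hmn : m * n * v * (m * n)⁻¹ = v * z₁ := by
      rw [show m * n * v * (m * n)⁻¹ = m * (n * v * n⁻¹) * m⁻¹ by group, e,
        show m * (w * z₁) * m⁻¹ = m * w * m⁻¹ * (m * z₁ * m⁻¹) by group, hmw, odd_fix_four h hV hm]
    have hfix := fix_of_sq h (mul_mem hm hn') hvc (by
      rw [show m * n * (m * n) * v * (m * n * (m * n))⁻¹ = m * n * (m * n * v * (m * n)⁻¹) * (m * n)⁻¹ by group,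
        hmn, show m * n * (v * z₁) * (m * n)⁻¹ = m * n * v * (m * n)⁻¹ * (m * n * z₁ * (m * n)⁻¹) by group, hmn,
        odd_fix_four h hV (mul_mem hm hn'), mul_assoc, h.dih.z2, mul_one])
    rw [hmn] at hfix
    exact h.dih.z1 (mul_eq_left.1 hfix)
  have hcentral : ∀ {g v}, v ∈ V → Central (P : Subgroup G) (g * v * g⁻¹) → g * v * g⁻¹ ∈ V := by
    intro g v hv hc
    haveI : Fact (Nat.Prime 2) := ⟨Nat.prime_two⟩
    have hvc := central_of_inW h (hW hv)
    obtain ⟨n, hn', e⟩ := CfsgLib.Fusion.exists_normalizer_conj_eq_of_central P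
      (fun a ha => mem_centralizer_singleton_iff.2 (hvc.2 a ha)) g
      (fun a ha => mem_centralizer_singleton_iff.2 (hc.2 a ha))
    rw [← e]
    exact hnorm hn' hv
  have hzw : ∀ {w}, w ∈ V → Central (P : Subgroup G) (z₁ * w) := fun {w} hw =>
    ⟨mul_mem h.zS (central_of_inW h (hW hw)).1, fun a ha => by
      rw [← mul_assoc, h.z_central ha, mul_assoc, (central_of_inW h (hW hw)).2 a ha, ← mul_assoc]⟩
  -- twisted reflections are conjugate to twisted `z₁`
  have hrefl : ∀ {x w}, x ∈ D₁ → x ∉ C₁ → w ∈ V → ∃ g, g * (z₁ * w) * g⁻¹ = x * w := by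
    intro x w hx hxC hw
    obtain ⟨E, hE, s, hf, hsq⟩ := exists_four_of_perfect h hs hperf hx hxC
    obtain ⟨g, hg, hmove⟩ := exists_move h hs hE hf
    obtain ⟨k, hl⟩ := exists_lift h hs hE.1 (box_of_good h hs hE hf) (kind_of_good h hE hs hf) hg hmove
    set c := g * z₁ * g⁻¹ with hc
    have hcD : c ∈ D₁ := mem_of_conj h hs hperf hn hc.symm (hE.1 hl.cE) hl.cW
    have hcC : c ∉ C₁ := by
      have := hl.cC
      rwa [pr_self h.prd hcD] at this
    have hxc : x * c ∈ sqSet C₁ := by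
      have hca := hf.cases c hl.cE
      rw [pr_self h.prd hcD] at hca
      rcases hca with e | e | e | e
      · exact absurd (e ▸ one_mem C₁) hcC
      · exact absurd (e ▸ h.dih.zC) hcC
      · rwa [e]
      · rw [e, ← mul_assoc]; exact h.dih.toDih.sq_mul hsq h.dih.z_mem_sq
    set s' := c * z₁ with hs'
    have hs'D : s' ∈ D₁ := mul_mem hcD h.dih.zD
    have hs'C : s' ∉ C₁ := h.dih.toDih.mul_notMem hcC h.dih.zC
    have hkall : ∀ v ∈ V, k * v * k⁻¹ = v := by
      intro v hv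
      by_contra hkv
      have hv' : v ≠ 1 := fun e => hkv (by rw [e, mul_one, mul_inv_cancel])
      have hbad : ∀ {u}, u ∈ V → k * u * k⁻¹ ≠ u → k * u * k⁻¹ = s' * u := by
        intro u hu hne'
        have e := (hl.kfix u (hW hu)).resolve_left hne'
        calc k * u * k⁻¹ = k * (u * z₁) * k⁻¹ * (k * z₁ * k⁻¹)⁻¹ := by group
          _ = u * z₁ * c := by
            rw [e, hl.kz, h.dih.toDih.inv_out hcD hcC]
          _ = s' * u := by
            rw [hs', mul_assoc u, ← prd_comm h.prd (mul_mem h.dih.zD hcD) hu, h.dih.central hcD]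
      have hnot : ∀ u ∈ V, u ≠ 1 → k * u * k⁻¹ ≠ u := by
        intro u hu hu' hku
        obtain ⟨q, hq⟩ : ∃ q, q * v * q⁻¹ = s' * u := by
          rcases htrans hv hv' hu hu' with e' | e' | e'
          · exact ⟨k, by rw [e', hbad hv hkv]⟩
          · obtain ⟨q, hqC, eq⟩ := norm_sq_class h hV hcl hy hs'D hs'C
            refine ⟨q * (y * y * k), ?_⟩
            rw [show q * (y * y * k) * v * (q * (y * y * k))⁻¹ =
              q * (y * y * (k * v * k⁻¹) * (y * y)⁻¹) * q⁻¹ by group, hbad hv hkv,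
              show q * (y * y * (s' * v) * (y * y)⁻¹) * q⁻¹ =
                q * (y * y * s' * (y * y)⁻¹) * q⁻¹ * (q * (y * y * v * (y * y)⁻¹) * q⁻¹) by group, ← e',
              conj_fix h hV hcl (h.dih.le hqC) hu, ← eq]
            group
          · obtain ⟨q, hqC, eq⟩ := norm_sq_class h hV hcl (mul_mem hy hy) hs'D hs'C
            refine ⟨q * (y * y * (y * y) * k), ?_⟩
            rw [show q * (y * y * (y * y) * k) * v * (q * (y * y * (y * y) * k))⁻¹ =
              q * (y * y * (y * y * (k * v * k⁻¹) * (y * y)⁻¹) * (y * y)⁻¹) * q⁻¹ by group, hbad hv hkv,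
              show q * (y * y * (y * y * (s' * v) * (y * y)⁻¹) * (y * y)⁻¹) * q⁻¹ =
                q * (y * y * (y * y) * s' * (y * y * (y * y))⁻¹) * q⁻¹ *
                  (q * (y * y * (y * y * v * (y * y)⁻¹) * (y * y)⁻¹) * q⁻¹) by group, ← e',
              conj_fix h hV hcl (h.dih.le hqC) hu, ← eq]
            group
        have e1 : r₁ * (k * (z₁ * u) * k⁻¹) * r₁⁻¹ = s' * u := by
          rw [show k * (z₁ * u) * k⁻¹ = k * z₁ * k⁻¹ * (k * u * k⁻¹) by group, hl.kz, hku,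
            show r₁ * (c * u) * r₁⁻¹ = r₁ * c * r₁⁻¹ * (r₁ * u * r₁⁻¹) by group, h.dih.conj_r hcD hcC,
            conj_fix h hV hcl h.dih.rD hu]
        have e2 : (r₁ * k)⁻¹ * q * v * ((r₁ * k)⁻¹ * q)⁻¹ = z₁ * u := by
          rw [show (r₁ * k)⁻¹ * q * v * ((r₁ * k)⁻¹ * q)⁻¹ = (r₁ * k)⁻¹ * (q * v * q⁻¹) * (r₁ * k) by group,
            hq, ← e1]
          group
        have e3 := hcentral (g := (r₁ * k)⁻¹ * q) hv (by rw [e2]; exact hzw hu)
        rw [e2] at e3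
        exact hdisj (by simpa using mul_mem e3 (inv_mem hu))
      obtain ⟨u, hu, hu', huv⟩ : ∃ u ∈ V, u ≠ 1 ∧ u ≠ v := by
        by_cases e : v = v₁
        · exact ⟨v₂, (hVm _).2 (Or.inr (Or.inr (Or.inl rfl))), hv2, fun e' => hne (e.symm.trans e'.symm)⟩
        · exact ⟨v₁, (hVm _).2 (Or.inr (Or.inl rfl)), hv1, fun e' => e e'.symm⟩
      have e1 := hbad hu (hnot u hu hu')
      have e2 : k * (v * u) * k⁻¹ = v * u := by
        rw [show k * (v * u) * k⁻¹ = k * v * k⁻¹ * (k * u * k⁻¹) by group, hbad hv hkv, e1,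
          (show Commute v s' from (prd_comm h.prd hs'D hv).symm).mul_mul_mul_comm,
          h.dih.out s' hs'D hs'C, one_mul]
      refine hnot _ (mul_mem hv hu) (fun e => huv ?_) e2
      rw [← inv_eq_of_mul_eq_one_right e, inv_eq_of_mul_eq_one_right (hV v hv)]
    obtain ⟨q, hq, e⟩ := h.dih.toDih.sq_inv hxc
    refine ⟨q⁻¹ * k, ?_⟩
    have hqD := h.dih.le hq
    rw [show q⁻¹ * k * (z₁ * w) * (q⁻¹ * k)⁻¹ = q⁻¹ * (k * z₁ * k⁻¹) * q * (q⁻¹ * (k * w * k⁻¹) * q⁻¹⁻¹) by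
      group, hl.kz, hkall w hw, conj_fix h hV hcl (inv_mem hqD) hw, h.dih.toDih.exists_conj hcD hcC hq, e,
      mul_inv_rev, h.dih.toDih.inv_out hcD hcC, h.dih.toDih.inv_out hx hxC, ← mul_assoc c c x,
      h.dih.out c hcD hcC, one_mul]
  refine ⟨h.prd.2.1, fun v hv g hgv => ?_⟩
  set c := g * v * g⁻¹ with hc
  by_cases hC : pr D₁ V c ∈ C₁
  · refine hcentral hv (central_of_parts h hgv (h.dih.eq_one_or_z hC ?_) (hW (pr_mem (prd_symm h.prd) hgv)))
    rw [← pr_mul h.prd hgv hgv, show c * c = 1 by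
      rw [hc, show g * v * g⁻¹ * (g * v * g⁻¹) = g * (v * v) * g⁻¹ by group, hV v hv, mul_one, mul_inv_cancel]]
    exact pr_self h.prd (one_mem _)
  exfalso
  have hxD := pr_mem h.prd hgv
  have hwV := pr_mem (prd_symm h.prd) hgv
  obtain ⟨q, hq⟩ := hrefl hxD hC hwV
  rw [pr_split h.prd hgv] at hq
  have e2 : q⁻¹ * g * v * (q⁻¹ * g)⁻¹ = z₁ * pr V D₁ c := by
    rw [show q⁻¹ * g * v * (q⁻¹ * g)⁻¹ = q⁻¹ * (g * v * g⁻¹) * q by group, ← hc]
    nth_rewrite 1 [← hq]
    group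
  have e3 := hcentral (g := q⁻¹ * g) hv (by rw [e2]; exact hzw hwV)
  rw [e2] at e3
  exact hdisj (by simpa using mul_mem e3 (inv_mem hwV))

end CfsgLib.DDProd
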