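import Cfsg.Agent.Lib.DDProd.Closed

/-!
# Passing the factorisation to a subgroup containing the Sylow group
-/

set_option autoImplicit false
set_option linter.unusedSectionVars false
set_option linter.style.haveILetI false

open Subgroup

namespace CfsgLib.DDProd

universe u

variable {G : Type u} [Group G]

theorem Dih.restrict {D C : Subgroup G} (h : Dih D C) {K : Subgroup G} (hDK : D ≤ K) :
    Dih (D.subgroupOf K) (C.subgroupOf K) where
  le := fun x hx => mem_subgroupOf.2 (h.le (mem_subgroupOf.1 hx))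
  cyc := (subgroupOfEquivOfLe (h.le.trans hDK)).isCyclic.2 h.cyc
  four := by rw [Nat.card_congr (subgroupOfEquivOfLe (h.le.trans hDK)).toEquiv]; exact h.four
  pow := h.pow.of_equiv (subgroupOfEquivOfLe (h.le.trans hDK)).symm
  idx := fun x hx y hy hxC hyC => mem_subgroupOf.2 (h.idx _ (mem_subgroupOf.1 hx) _ (mem_subgroupOf.1 hy)
    (fun e => hxC (mem_subgroupOf.2 e)) (fun e => hyC (mem_subgroupOf.2 e)))
  ne := by
    obtain ⟨x, hx, hxC⟩ := h.ne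
    exact ⟨⟨x, hDK hx⟩, mem_subgroupOf.2 hx, fun e => hxC (mem_subgroupOf.1 e)⟩
  out := fun x hx hxC => Subtype.ext (h.out _ (mem_subgroupOf.1 hx) fun e => hxC (mem_subgroupOf.2 e))

theorem DihZ.restrict {D C : Subgroup G} {z r : G} (h : DihZ D C z r) {K : Subgroup G} (hDK : D ≤ K) :
    DihZ (D.subgroupOf K) (C.subgroupOf K) ⟨z, hDK h.zD⟩ ⟨r, hDK h.rD⟩ where
  toDih := h.toDih.restrict hDK
  rC := mem_subgroupOf.2 h.rC
  rr := Subtype.ext h.rr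
  zC := mem_subgroupOf.2 h.zC
  z2 := Subtype.ext h.z2
  z1 := fun e => h.z1 (congrArg Subtype.val e)

theorem prd_restrict {S D₁ D₂ : Subgroup G} (hp : Cfsg.IsInternalDirectProduct D₁ D₂ S) {K : Subgroup G}
    (hSK : S ≤ K) :
    Cfsg.IsInternalDirectProduct (D₁.subgroupOf K) (D₂.subgroupOf K) (S.subgroupOf K) := by
  refine ⟨fun x hx => mem_subgroupOf.2 (hp.1 (mem_subgroupOf.1 hx)),
    fun x hx => mem_subgroupOf.2 (hp.2.1 (mem_subgroupOf.1 hx)),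
    fun a ha b hb => Subtype.ext (hp.2.2.1 _ (mem_subgroupOf.1 ha) _ (mem_subgroupOf.1 hb)),
    eq_bot_iff.2 fun x ⟨h1, h2⟩ => ?_, ?_⟩
  · have h3 : (x : G) ∈ D₁ ⊓ D₂ := ⟨mem_subgroupOf.1 h1, mem_subgroupOf.1 h2⟩
    rw [hp.2.2.2.1, mem_bot] at h3
    exact mem_bot.2 (Subtype.ext h3)
  · rw [← Subgroup.subgroupOf_sup (hp.1.trans hSK) (hp.2.1.trans hSK), hp.2.2.2.2]

theorem pr_restrict {S D₁ D₂ : Subgroup G} (hp : Cfsg.IsInternalDirectProduct D₁ D₂ S) {K : Subgroup G}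
    (hSK : S ≤ K) {x : K} (hx : (x : G) ∈ S) :
    ((pr (D₁.subgroupOf K) (D₂.subgroupOf K) x : K) : G) = pr D₁ D₂ (x : G) := by
  have hp' := prd_restrict hp hSK
  obtain ⟨a, ha, b, hb, e⟩ := prd_exists hp' (mem_subgroupOf.2 hx)
  rw [e, pr_mul_eq hp' ha hb, coe_mul, pr_mul_eq hp (mem_subgroupOf.1 ha) (mem_subgroupOf.1 hb)]

theorem Side.restrict {S D₁ C₁ D₂ : Subgroup G} {z₁ r₁ : G} (h : Side S D₁ C₁ z₁ r₁ D₂) {K : Subgroup G}
    (hSK : S ≤ K) :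
    Side (S.subgroupOf K) (D₁.subgroupOf K) (C₁.subgroupOf K) ⟨z₁, hSK h.zS⟩ ⟨r₁, hSK h.rS⟩
      (D₂.subgroupOf K) :=
  ⟨prd_restrict h.prd hSK, h.dih.restrict (h.prd.1.trans hSK)⟩

theorem InFour.conj {z s a : G} (q : G) (h : InFour z s a) :
    InFour (q * z * q⁻¹) (q * s * q⁻¹) (q * a * q⁻¹) := by
  rcases h with rfl | rfl | rfl | rfl
  · exact Or.inl (by group)
  · exact Or.inr (Or.inl rfl)
  · exact Or.inr (Or.inr (Or.inl rfl))
  · exact Or.inr (Or.inr (Or.inr (by group)))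

theorem InFour.mul {z s a b : G} (hz : z * z = 1) (hs : s * s = 1) (hc : s * z = z * s) (ha : InFour z s a)
    (hb : InFour z s b) : InFour z s (a * b) := by
  have e1 : ∀ x, z * (z * x) = x := fun x => by rw [← mul_assoc, hz, one_mul]
  have e2 : ∀ x, s * (s * x) = x := fun x => by rw [← mul_assoc, hs, one_mul]
  have e3 : ∀ x, z * (s * x) = s * (z * x) := fun x => by rw [← mul_assoc, ← hc, mul_assoc]
  unfold InFour at *
  rcases ha with rfl | rfl | rfl | rfl <;> rcases hb with rfl | rfl | rfl | rfl <;>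
    simp only [one_mul, mul_one, mul_assoc, hz, hs, e1, e2, e3, hc.symm, true_or, or_true]

theorem InFour.inv {z s a : G} (hz : z * z = 1) (hs : s * s = 1) (hc : s * z = z * s) (ha : InFour z s a) :
    a⁻¹ = a := by
  rcases ha with rfl | rfl | rfl | rfl
  · exact inv_one
  · exact inv_eq_of_mul_eq_one_right hz
  · exact inv_eq_of_mul_eq_one_right hs
  · rw [mul_inv_rev, inv_eq_of_mul_eq_one_right hz, inv_eq_of_mul_eq_one_right hs, hc]

/-- The elements of `F(s) × F(t)`. -/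
def MemFour (S D₁ D₂ : Subgroup G) (z₁ z₂ s t x : G) : Prop :=
  x ∈ S ∧ InFour z₁ s (pr D₁ D₂ x) ∧ InFour z₂ t (pr D₂ D₁ x)

section
variable {S D₁ C₁ D₂ C₂ : Subgroup G} {z₁ r₁ z₂ r₂ : G}
  (h : Side S D₁ C₁ z₁ r₁ D₂) (h₂ : Side S D₂ C₂ z₂ r₂ D₁)

include h h₂

theorem memFour_mul {s t x y : G} (hs : s ∈ D₁) (hsC : s ∉ C₁) (ht : t ∈ D₂) (htC : t ∉ C₂)
    (hx : MemFour S D₁ D₂ z₁ z₂ s t x) (hy : MemFour S D₁ D₂ z₁ z₂ s t y) :
    MemFour S D₁ D₂ z₁ z₂ s t (x * y) := by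
  refine ⟨mul_mem hx.1 hy.1, ?_, ?_⟩
  · rw [pr_mul h.prd hx.1 hy.1]
    exact hx.2.1.mul h.dih.z2 (h.dih.out s hs hsC) (h.dih.central hs) hy.2.1
  · rw [pr_mul h₂.prd hx.1 hy.1]
    exact hx.2.2.mul h₂.dih.z2 (h₂.dih.out t ht htC) (h₂.dih.central ht) hy.2.2

/-- The subgroup `F(s) × F(t)`. -/
def fourSub {s t : G} (hs : s ∈ D₁) (hsC : s ∉ C₁) (ht : t ∈ D₂) (htC : t ∉ C₂) : Subgroup G where
  carrier := {x | MemFour S D₁ D₂ z₁ z₂ s t x}
  one_mem' := ⟨one_mem S, Or.inl (pr_self h.prd (one_mem _)), Or.inl (pr_self h₂.prd (one_mem _))⟩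
  mul_mem' := fun hx hy => memFour_mul h h₂ hs hsC ht htC hx hy
  inv_mem' := fun {x} hx => by
    refine ⟨inv_mem hx.1, ?_, ?_⟩
    · rw [pr_inv h.prd hx.1, hx.2.1.inv h.dih.z2 (h.dih.out s hs hsC) (h.dih.central hs)]
      exact hx.2.1
    · rw [pr_inv h₂.prd hx.1, hx.2.2.inv h₂.dih.z2 (h₂.dih.out t ht htC) (h₂.dih.central ht)]
      exact hx.2.2

theorem memFour_of_left {s t b : G} (hb : b ∈ D₁) (hf : InFour z₁ s b) : MemFour S D₁ D₂ z₁ z₂ s t b :=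
  ⟨h.prd.1 hb, by rwa [pr_self h.prd hb], Or.inl (pr_other h₂.prd hb)⟩

theorem memFour_of_right {s t b : G} (hb : b ∈ D₂) (hf : InFour z₂ t b) : MemFour S D₁ D₂ z₁ z₂ s t b :=
  ⟨h₂.prd.1 hb, Or.inl (pr_other h.prd hb), by rwa [pr_self h₂.prd hb]⟩

end

end CfsgLib.DDProd
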