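import Cfsg.Agent.Lib.DDProd.Two
import Cfsg.Agent.Lib.DDProd.FourFactor
import Mathlib.GroupTheory.SpecificGroups.Dihedral

/-!
# A factorisation with product fusion
-/

set_option autoImplicit false
set_option linter.unusedSectionVars false
set_option linter.style.haveILetI false

open Subgroup

namespace CfsgLib.DDProd

universe u

variable {G : Type u} [Group G]

/-- Complements of a common factor are isomorphic. -/
theorem nonempty_equiv_of_common {S D D' X : Subgroup G} (hp : Cfsg.IsInternalDirectProduct D X S)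
    (hp' : Cfsg.IsInternalDirectProduct D' X S) : Nonempty (D' ≃* D) := by
  let f : D' →* D := MonoidHom.mk' (fun a => ⟨pr D X a, pr_mem hp (hp'.1 a.2)⟩)
    (fun a b => Subtype.ext (pr_mul hp (hp'.1 a.2) (hp'.1 b.2)))
  refine ⟨MulEquiv.ofBijective f ⟨(injective_iff_map_eq_one f).2 fun a ha => ?_, fun d => ?_⟩⟩
  · have h1 : pr D X (a : G) = 1 := congrArg Subtype.val ha
    have h2 := pr_split hp (hp'.1 a.2)
    rw [h1, one_mul] at h2
    have h3 : (a : G) ∈ D' ⊓ X := ⟨a.2, h2 ▸ pr_mem (prd_symm hp) (hp'.1 a.2)⟩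
    rw [hp'.2.2.2.1, mem_bot] at h3
    exact Subtype.ext h3
  · obtain ⟨a, ha, b, hb, e⟩ := prd_exists hp' (hp.1 d.2)
    refine ⟨⟨a, ha⟩, Subtype.ext ?_⟩
    show pr D X a = d
    have h1 := pr_mul hp (hp'.1 ha) (hp'.2.1 hb)
    rw [← e, pr_self hp d.2, pr_other hp hb, mul_one] at h1
    exact h1.symm

theorem exp_two_of_four {D : Subgroup G} (e : D ≃* DihedralGroup 2) :
    (∀ d ∈ D, d * d = 1) ∧ Nat.card D = 4 := by
  refine ⟨fun d hd => ?_, by rw [Nat.card_congr e.toEquiv, DihedralGroup.nat_card]⟩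
  have h : ∀ x : DihedralGroup 2, x * x = 1 := by decide
  have h1 : (⟨d, hd⟩ : D) * ⟨d, hd⟩ = 1 := e.injective (by rw [map_mul, map_one, h])
  exact congrArg Subtype.val h1

open DihedralGroup in
theorem exists_dihZ [Finite G] {S D : Subgroup G} (hS : IsPGroup 2 S) (hD : D ≤ S) {m : ℕ} (hm : 2 ≤ m)
    (hm2 : m ≠ 2) (e : D ≃* DihedralGroup m) : ∃ C z r, DihZ D C z r := by
  haveI : Fact (Nat.Prime 2) := ⟨Nat.prime_two⟩
  haveI : NeZero m := ⟨by omega⟩
  set u : G := (e.symm (r 1) : G) with hu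
  have hC : ∀ x (hx : x ∈ D), x ∈ zpowers u ↔ ∃ i, e ⟨x, hx⟩ = r i := by
    intro x hx
    constructor
    · intro h
      obtain ⟨k, hk⟩ := mem_zpowers_iff.1 h
      refine ⟨(k : ZMod m), ?_⟩
      rw [← r_one_zpow, ← e.apply_symm_apply (r 1), ← map_zpow]
      congr 1
      exact Subtype.ext (by rw [SubgroupClass.coe_zpow]; exact hk.symm)
    · rintro ⟨i, hi⟩
      refine mem_zpowers_iff.2 ⟨(i.val : ℤ), ?_⟩
      have h1 : (e.symm (r 1)) ^ i.val = ⟨x, hx⟩ := e.injective (by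
        rw [map_pow, e.apply_symm_apply, r_one_pow, ZMod.natCast_zmod_val, hi])
      rw [zpow_natCast, hu, ← SubgroupClass.coe_pow, h1]
  have hle : zpowers u ≤ D := zpowers_le.2 (e.symm (r 1)).2
  have hout : ∀ x (hx : x ∈ D), x ∉ zpowers u → ∃ i, e ⟨x, hx⟩ = sr i := by
    intro x hx hxC
    cases hc : e ⟨x, hx⟩ with
    | r i => exact absurd ((hC x hx).2 ⟨i, hc⟩) hxC
    | sr i => exact ⟨i, rfl⟩
  have hord : orderOf u = m := by
    rw [hu, orderOf_submonoid, MulEquiv.orderOf_eq e.symm, orderOf_r_one]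
  have hp : IsPGroup 2 (zpowers u) := hS.to_le (hle.trans hD)
  obtain ⟨k, hk⟩ := IsPGroup.iff_card.1 hp
  rw [Nat.card_zpowers, hord] at hk
  obtain ⟨z, r', hz⟩ := Dih.exists_dihZ (G := G) (D := D) (C := zpowers u)
    { le := hle
      cyc := inferInstance
      four := by
        rw [Nat.card_zpowers, hord, hk]
        have hk2 : 2 ≤ k := by
          rcases k with _ | _ | k
          · rw [pow_zero] at hk; omega
          · rw [pow_one] at hk; omega
          · omega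
        exact (show 4 = 2 ^ 2 from rfl) ▸ Nat.pow_le_pow_right (by norm_num) hk2
      pow := hp
      idx := fun x hx y hy hxC hyC => by
        obtain ⟨i, hi⟩ := hout x hx hxC
        obtain ⟨j, hj⟩ := hout y hy hyC
        refine (hC _ (mul_mem hx hy)).2 ⟨j - i, ?_⟩
        rw [show (⟨x * y, mul_mem hx hy⟩ : D) = ⟨x, hx⟩ * ⟨y, hy⟩ from rfl, map_mul, hi, hj, sr_mul_sr]
      ne := by
        refine ⟨(e.symm (sr 0) : G), (e.symm (sr 0)).2, fun h => ?_⟩
        obtain ⟨i, hi⟩ := (hC _ (e.symm (sr 0)).2).1 h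
        rw [Subtype.coe_eta, e.apply_symm_apply] at hi
        cases hi
      out := fun x hx hxC => by
        obtain ⟨i, hi⟩ := hout x hx hxC
        have h1 : (⟨x, hx⟩ : D) * ⟨x, hx⟩ = 1 := e.injective (by rw [map_mul, hi, sr_mul_self, map_one])
        exact congrArg Subtype.val h1 }
  exact ⟨zpowers u, z, r', hz⟩

variable [Finite G]

theorem commutator_eq_top (hidx : ∀ N : Subgroup G, N.Normal → Odd N.index → N = ⊤)
    (h2 : ∀ N : Subgroup G, N.Normal → N.index ≠ 2) : _root_.commutator G = ⊤ := by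
  by_contra hne
  obtain ⟨N, hN, hle⟩ := (eq_top_or_exists_le_coatom (_root_.commutator G)).resolve_left hne
  haveI hn : N.Normal := ⟨fun n hn g => by
    have h1 : g * n * g⁻¹ * n⁻¹ ∈ N := hle (commutator_mem_commutator (mem_top g) (mem_top n))
    simpa using mul_mem h1 hn⟩
  have hi : N.index ≠ 1 := fun e => hN.1 (index_eq_one.1 e)
  obtain ⟨p, hp, hpd⟩ := Nat.exists_prime_and_dvd hi
  haveI : Fact p.Prime := ⟨hp⟩
  obtain ⟨x, hx⟩ := exists_prime_orderOf_dvd_card' (G := G ⧸ N) p (by rwa [← index_eq_card])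
  have htop : zpowers x = ⊤ := by
    have hNM : N < (zpowers x).comap (QuotientGroup.mk' N) := by
      refine lt_of_le_of_ne (fun n hn' => ?_) fun e => ?_
      · rw [mem_comap, QuotientGroup.mk'_apply, (QuotientGroup.eq_one_iff n).2 hn']; exact one_mem _
      · obtain ⟨g, rfl⟩ := QuotientGroup.mk'_surjective N x
        have hg : g ∈ N := by rw [e, mem_comap]; exact mem_zpowers _
        rw [show QuotientGroup.mk' N g = 1 from (QuotientGroup.eq_one_iff g).2 hg, orderOf_one] at hx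
        exact hp.ne_one hx.symm
    have := congrArg (Subgroup.map (QuotientGroup.mk' N)) (hN.2 _ hNM)
    rwa [map_comap_eq_self_of_surjective (QuotientGroup.mk'_surjective N),
      map_top_of_surjective _ (QuotientGroup.mk'_surjective N)] at this
  have hcard : N.index = p := by
    rw [index_eq_card, ← Nat.card_congr (Subgroup.topEquiv (G := G ⧸ N)).toEquiv, ← htop, Nat.card_zpowers, hx]
  rcases hp.eq_two_or_odd' with e | e
  · exact h2 N hn (hcard.trans e)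
  · exact hN.1 (hidx N hn (hcard ▸ e))

variable {P : Sylow 2 G} {D₁ C₁ D₂ : Subgroup G} {z₁ r₁ : G}

/-- Two factors of order at least eight. -/
theorem exists_closed_two (hperf : _root_.commutator G = ⊤) {C₂ : Subgroup G} {z₂ r₂ : G}
    (h : Side (P : Subgroup G) D₁ C₁ z₁ r₁ D₂) (h₂ : Side (P : Subgroup G) D₂ C₂ z₂ r₂ D₁) :
    ∃ S₁ S₂ : Subgroup G, Cfsg.IsInternalDirectProduct S₁ S₂ (P : Subgroup G) ∧ Nonempty (S₁ ≃* D₁) ∧
      Nonempty (S₂ ≃* D₂) ∧ Cfsg.IsStronglyClosed S₁ (P : Subgroup G) ∧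
      Cfsg.IsStronglyClosed S₂ (P : Subgroup G) := by
  obtain ⟨D, C, r, hD, -, hn⟩ := exists_normed h (Or.inl ⟨C₂, z₂, r₂, h₂⟩) hperf
  have h₂' : Side (P : Subgroup G) D₂ C₂ z₂ r₂ D := ⟨prd_symm hD.prd, h₂.dih⟩
  obtain ⟨D', C', r', hD', -, hn'⟩ := exists_normed h₂' (Or.inl ⟨C, z₁, r, hD⟩) hperf
  have hD1 : Side (P : Subgroup G) D C z₁ r D' := ⟨prd_symm hD'.prd, hD.dih⟩
  exact ⟨D, D', hD1.prd, nonempty_equiv_of_common h.prd hD.prd, nonempty_equiv_of_common h₂'.prd hD'.prd,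
    strongly_closed_of_inW hD1 (Or.inl ⟨C', z₂, r', hD'⟩) hperf hn (inW_two hD1 hD' hperf hn),
    strongly_closed_of_inW hD' (Or.inl ⟨C, z₁, r, hD1⟩) hperf hn' (inW_two hD' hD1 hperf hn')⟩

/-- One factor is a four group. -/
theorem exists_closed_four (hperf : _root_.commutator G = ⊤) (h : Side (P : Subgroup G) D₁ C₁ z₁ r₁ D₂)
    (hD : ∀ d ∈ D₂, d * d = 1) (hc4 : Nat.card D₂ = 4) :
    ∃ S₁ S₂ : Subgroup G, Cfsg.IsInternalDirectProduct S₁ S₂ (P : Subgroup G) ∧ Nonempty (S₁ ≃* D₁) ∧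
      Nonempty (S₂ ≃* D₂) ∧ Cfsg.IsStronglyClosed S₁ (P : Subgroup G) ∧
      Cfsg.IsStronglyClosed S₂ (P : Subgroup G) := by
  obtain ⟨D, C, r, hD', -, hn⟩ := exists_normed h (Or.inr hD) hperf
  obtain ⟨V, hV, hV2, y, hy, -, v₁, v₂, hv1, hv2, hne, hVm, hy1, hy2, hy3⟩ :=
    exists_tri hD' hD hc4 hn hperf
  have hcl : Cfsg.IsStronglyClosed D (P : Subgroup G) := strongly_closed_of_inW hV (Or.inr hV2) hperf hn
    fun E hE g hg _ a haE _ _ => by
      have hmem := pr_mem (prd_symm hV.prd) (hE.1 ((mem_normalizer_iff.1 hg a).1 haE))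
      exact ⟨hmem, fun d hd => comm_of_exp_two_mem hV2 hd hmem⟩
  exact ⟨D, V, hV.prd, nonempty_equiv_of_common h.prd hD'.prd,
    nonempty_equiv_of_common (prd_symm hD'.prd) (prd_symm hV.prd), hcl,
    strongly_closed_four hV hV2 hcl hperf hn hy hv1 hv2 hne hVm hy1 hy2 hy3⟩

omit [Finite G] in
theorem not_nonabelian {S A B : Subgroup G} (hp : Cfsg.IsInternalDirectProduct A B S)
    (hA : ∀ d ∈ A, d * d = 1) (hB : ∀ d ∈ B, d * d = 1) : IsMulCommutative S := by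
  refine ⟨⟨fun ⟨a, ha⟩ ⟨b, hb⟩ => Subtype.ext ?_⟩⟩
  show a * b = b * a
  refine prd_ext hp (mul_mem ha hb) (mul_mem hb ha) ?_ ?_
  · rw [pr_mul hp ha hb, pr_mul hp hb ha, comm_of_exp_two_mem hA (pr_mem hp ha) (pr_mem hp hb)]
  · rw [pr_mul (prd_symm hp) ha hb, pr_mul (prd_symm hp) hb ha,
      comm_of_exp_two_mem hB (pr_mem (prd_symm hp) ha) (pr_mem (prd_symm hp) hb)]

/-- Some factorisation of the Sylow group into dihedral groups has product fusion. -/
theorem exists_closed (hperf : _root_.commutator G = ⊤) (hP : ¬ IsMulCommutative (P : Subgroup G))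
    (hp : Cfsg.IsInternalDirectProduct D₁ D₂ (P : Subgroup G)) {m₁ m₂ : ℕ} (hm₁ : 2 ≤ m₁) (hm₂ : 2 ≤ m₂)
    (e₁ : D₁ ≃* DihedralGroup m₁) (e₂ : D₂ ≃* DihedralGroup m₂) :
    ∃ S₁ S₂ : Subgroup G, Cfsg.IsInternalDirectProduct S₁ S₂ (P : Subgroup G) ∧ Nonempty (S₁ ≃* D₁) ∧
      Nonempty (S₂ ≃* D₂) ∧ Cfsg.IsStronglyClosed S₁ (P : Subgroup G) ∧
      Cfsg.IsStronglyClosed S₂ (P : Subgroup G) := by
  by_cases h1 : m₁ = 2 <;> by_cases h2 : m₂ = 2
  · subst h1; subst h2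
    exact absurd (not_nonabelian hp (exp_two_of_four e₁).1 (exp_two_of_four e₂).1) hP
  · subst h1
    obtain ⟨C, z, r, hd⟩ := exists_dihZ P.2 hp.2.1 hm₂ h2 e₂
    obtain ⟨a, b, hab, ea, eb, ha, hb⟩ :=
      exists_closed_four hperf ⟨prd_symm hp, hd⟩ (exp_two_of_four e₁).1 (exp_two_of_four e₁).2
    exact ⟨b, a, prd_symm hab, eb, ea, hb, ha⟩
  · subst h2
    obtain ⟨C, z, r, hd⟩ := exists_dihZ P.2 hp.1 hm₁ h1 e₁
    exact exists_closed_four hperf ⟨hp, hd⟩ (exp_two_of_four e₂).1 (exp_two_of_four e₂).2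
  · obtain ⟨C, z, r, hd⟩ := exists_dihZ P.2 hp.1 hm₁ h1 e₁
    obtain ⟨C', z', r', hd'⟩ := exists_dihZ P.2 hp.2.1 hm₂ h2 e₂
    exact exists_closed_two hperf ⟨hp, hd⟩ ⟨prd_symm hp, hd'⟩

end CfsgLib.DDProd
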