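import Cfsg.Agent.Lib.DDProd.Center

/-!
# Moving the central involution inside a good subgroup
-/

set_option autoImplicit false
set_option linter.unusedSectionVars false
set_option linter.style.haveILetI false

open Subgroup

namespace CfsgLib.DDProd

open CfsgLib.Fusion.Goldschmidt

universe u

variable {G : Type u} [Group G]

/-- A central element of the second factor. -/
def InW (D₂ : Subgroup G) (w : G) : Prop := w ∈ D₂ ∧ ∀ d ∈ D₂, d * w = w * d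

/-- The second factor is dihedral of order at least eight, or elementary. -/
def Sec (P D₁ D₂ : Subgroup G) : Prop :=
  (∃ C₂ z₂ r₂, Side P D₂ C₂ z₂ r₂ D₁) ∨ ∀ d ∈ D₂, d * d = 1

theorem inFour_comm {z s a b : G} (hsz : Commute s z) (ha : InFour z s a) (hb : InFour z s b) :
    a * b = b * a := by
  show Commute a b
  have hz : Commute z (s * z) := hsz.symm.mul_right (Commute.refl z)
  have hs' : Commute s (s * z) := (Commute.refl s).mul_right hsz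
  rcases ha with rfl | rfl | rfl | rfl <;> rcases hb with rfl | rfl | rfl | rfl <;>
    first
      | exact Commute.one_left _
      | exact Commute.one_right _
      | exact Commute.refl _
      | exact hsz
      | exact hsz.symm
      | exact hz
      | exact hz.symm
      | exact hs'
      | exact hs'.symm

theorem comm_of_exp_two_mem {D : Subgroup G} (hD : ∀ d ∈ D, d * d = 1) {a b : G} (ha : a ∈ D) (hb : b ∈ D) :
    a * b = b * a := by
  have h1 := inv_eq_of_mul_eq_one_right (hD _ (mul_mem ha hb))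
  rw [mul_inv_rev, inv_eq_of_mul_eq_one_right (hD a ha), inv_eq_of_mul_eq_one_right (hD b hb)] at h1
  exact h1.symm

/-- `E` has four group coordinate with reflection `s`; the partner is a four group or full. -/
structure Box (E D₁ C₁ : Subgroup G) (z₁ : G) (D₂ : Subgroup G) (s : G) : Prop extends IsFour E D₁ C₁ z₁ D₂ s where
  zE : z₁ ∈ E
  wE : ∀ w, InW D₂ w → w ∈ E

variable [Finite G] {P : Sylow 2 G} {E D₁ C₁ D₂ : Subgroup G} {z₁ r₁ : G}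
  (h : Side (P : Subgroup G) D₁ C₁ z₁ r₁ D₂) (hs : Sec (P : Subgroup G) D₁ D₂)

include h in
theorem central_of_parts {x : G} (hx : x ∈ (P : Subgroup G)) (h1 : pr D₁ D₂ x = 1 ∨ pr D₁ D₂ x = z₁)
    (h2 : InW D₂ (pr D₂ D₁ x)) : Central (P : Subgroup G) x := by
  refine ⟨hx, fun y hy => prd_ext h.prd (mul_mem hy hx) (mul_mem hx hy) ?_ ?_⟩
  · rw [pr_mul h.prd hy hx, pr_mul h.prd hx hy]
    rcases h1 with e | e <;> rw [e]
    · rw [one_mul, mul_one]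
    · exact h.dih.central (pr_mem h.prd hy)
  · rw [pr_mul (prd_symm h.prd) hy hx, pr_mul (prd_symm h.prd) hx hy, h2.2 _ (pr_mem (prd_symm h.prd) hy)]

include h in
theorem central_of_inW {w : G} (hw : InW D₂ w) : Central (P : Subgroup G) w :=
  central_of_parts h (h.prd.2.1 hw.1) (Or.inl (pr_other h.prd hw.1))
    (by rw [pr_self (prd_symm h.prd) hw.1]; exact hw)

include h hs

theorem rigid {g : G} (hc : Central (P : Subgroup G) (g * z₁ * g⁻¹)) : g * z₁ * g⁻¹ = z₁ := by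
  rcases hs with ⟨C₂, z₂, r₂, h₂⟩ | hD
  · exact conj_eq_one_side h h₂ hc
  · exact eq_of_conj_central P ⟨h.zS, fun _ hy => h.z_central hy⟩ (fun _ hn _ => odd_fix_four h hD hn) hc

theorem box_of_good (hE : Good P E) {s : G} (hf : IsFour E D₁ C₁ z₁ D₂ s) : Box E D₁ C₁ z₁ D₂ s :=
  { toIsFour := hf, zE := z_mem h hE,
    wE := fun _ hw => good_centralizer hE (central_of_inW h hw).1
      fun _ he => ((central_of_inW h hw).2 _ (hE.1 he)).symm }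

theorem r_mem_normalizer (hEP : E ≤ (P : Subgroup G)) (hzE : z₁ ∈ E) : r₁ ∈ normalizer (E : Set G) :=
  mem_normalizer_of_conj fun e he => by
    rcases h.conj_r (hEP he) with ⟨-, e1⟩ | ⟨-, e1⟩ <;> rw [e1]
    · exact he
    · exact mul_mem he hzE

/-- Squares of 2-elements normalising an abelian subgroup of the Sylow group centralise it. -/
theorem sq_centralizes (hEP : E ≤ (P : Subgroup G)) (hEc : ∀ a ∈ E, ∀ b ∈ E, a * b = b * a) {t : G}
    (ht : t ∈ normalizer (E : Set G)) {k : ℕ} (hk : t ^ (2 ^ k) = 1) {e : G} (he : e ∈ E) :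
    t * t * e * (t * t)⁻¹ = e := by
  haveI : Fact (Nat.Prime 2) := ⟨Nat.prime_two⟩
  haveI : (E.subgroupOf (E ⊔ zpowers t)).Normal :=
    normal_subgroupOf_of_le_normalizer (sup_le le_normalizer (zpowers_le.2 ht))
  have hT : IsPGroup 2 (E ⊔ zpowers t : Subgroup G) := by
    rintro ⟨x, hx⟩
    rw [← SetLike.mem_coe, coe_mul_of_right_le_normalizer_left _ _ (zpowers_le.2 ht)] at hx
    obtain ⟨a, ha, b, hb, rfl⟩ := hx
    obtain ⟨m, hm⟩ := mem_zpowers_iff.1 hb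
    have hb2 : b ^ (2 ^ k) = 1 := by
      rw [← hm, ← zpow_natCast, ← zpow_mul, mul_comm, zpow_mul, zpow_natCast, hk, one_zpow]
    set mk := QuotientGroup.mk' (E.subgroupOf (E ⊔ zpowers t)) with hmk
    set x' : (E ⊔ zpowers t : Subgroup G) := ⟨a * b, mul_mem (mem_sup_left ha) (mem_sup_right hb)⟩
    set a' : (E ⊔ zpowers t : Subgroup G) := ⟨a, mem_sup_left ha⟩
    set b' : (E ⊔ zpowers t : Subgroup G) := ⟨b, mem_sup_right hb⟩
    have h1 : mk (x' ^ (2 ^ k)) = 1 := by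
      rw [map_pow, show x' = a' * b' from rfl, map_mul,
        show mk a' = 1 from (QuotientGroup.eq_one_iff _).2 (mem_subgroupOf.2 ha), one_mul, ← map_pow,
        show b' ^ (2 ^ k) = 1 from Subtype.ext hb2, map_one]
    have h2 := mem_subgroupOf.1 ((QuotientGroup.eq_one_iff _).1 h1)
    obtain ⟨l, hl⟩ := exists_two_pow (P.2.to_le hEP) h2
    exact ⟨k + l, Subtype.ext (by rw [pow_add, pow_mul]; simpa using hl)⟩
  obtain ⟨T, hT'⟩ := hT.exists_le_sylow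
  obtain ⟨q, hq⟩ := MulAction.exists_smul_eq G T P
  have hmem : ∀ {x}, x ∈ (E ⊔ zpowers t : Subgroup G) → q * x * q⁻¹ ∈ (P : Subgroup G) := fun {x} hx => by
    rw [← hq]
    exact Subgroup.smul_mem_pointwise_smul x (MulAut.conj q) _ (hT' hx)
  have hc : ∀ {D C D' : Subgroup G} {z r : G}, (Side (P : Subgroup G) D C z r D' ∨
      (Cfsg.IsInternalDirectProduct D D' (P : Subgroup G) ∧ ∀ d ∈ D, d * d = 1)) →
      pr D D' (q * (t * t) * q⁻¹) * pr D D' (q * e * q⁻¹) =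
        pr D D' (q * e * q⁻¹) * pr D D' (q * (t * t) * q⁻¹) := by
    intro D C D' z r hk
    have htP := hmem (mem_sup_right (mem_zpowers t))
    have heP := hmem (mem_sup_left he)
    rcases hk with k | ⟨hp, hD⟩
    swap
    · exact comm_of_exp_two_mem hD (pr_mem hp (by
        rw [show q * (t * t) * q⁻¹ = q * t * q⁻¹ * (q * t * q⁻¹) by group]; exact mul_mem htP htP))
        (pr_mem hp heP)
    set s := pr D D' (q * t * q⁻¹) with hs'
    set a := pr D D' (q * e * q⁻¹) with ha'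
    have hsD : s ∈ D := pr_mem k.prd htP
    have haD : a ∈ D := pr_mem k.prd heP
    have e2 : pr D D' (q * (t * t) * q⁻¹) = s * s := by
      rw [show q * (t * t) * q⁻¹ = q * t * q⁻¹ * (q * t * q⁻¹) by group, pr_mul k.prd htP htP]
    rw [e2]
    by_cases hsC : s ∈ C
    swap
    · rw [k.dih.out s hsD hsC, one_mul, mul_one]
    by_cases haC : a ∈ C
    · exact k.dih.toDih.comm (mul_mem hsC hsC) haC
    have hte : t * e * t⁻¹ ∈ E := (mem_normalizer_iff.1 ht e).1 he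
    have hcomm : s * a * s⁻¹ * a = a * (s * a * s⁻¹) := by
      have := pr_comm k.prd (hmem (mem_sup_left hte)) heP (by
        rw [show q * (t * e * t⁻¹) * q⁻¹ * (q * e * q⁻¹) = q * (t * e * t⁻¹ * e) * q⁻¹ by group,
          hEc _ hte e he]
        group)
      rwa [show q * (t * e * t⁻¹) * q⁻¹ = q * t * q⁻¹ * (q * e * q⁻¹) * (q * t * q⁻¹)⁻¹ by group,
        pr_conj k.prd htP heP] at this
    have hsa : s * a * s⁻¹ = a * (s⁻¹ * s⁻¹) := by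
      rw [k.dih.toDih.swap' haD haC hsC, mul_assoc]
    rw [hsa] at hcomm
    have hm : s⁻¹ * s⁻¹ ∈ C := mul_mem (inv_mem hsC) (inv_mem hsC)
    have h3 : (s⁻¹ * s⁻¹) * a = a * (s⁻¹ * s⁻¹) := mul_left_cancel (a := a) (by
      rw [← mul_assoc, hcomm])
    have h4 : Commute (s * s) a := by
      have := (show Commute (s⁻¹ * s⁻¹) a from h3).inv_left
      rwa [mul_inv_rev, inv_inv] at this
    exact h4.eq
  have e1 := hc (Or.inl h)
  have e2 : pr D₂ D₁ (q * (t * t) * q⁻¹) * pr D₂ D₁ (q * e * q⁻¹) =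
      pr D₂ D₁ (q * e * q⁻¹) * pr D₂ D₁ (q * (t * t) * q⁻¹) := by
    rcases hs with ⟨C₂, z₂, r₂, h₂⟩ | hD
    · exact hc (Or.inl h₂)
    · exact hc (C := C₁) (z := z₁) (r := r₁) (Or.inr ⟨prd_symm h.prd, hD⟩)
  have h1 := hmem (mem_sup_right (mul_mem (mem_zpowers t) (mem_zpowers t)))
  have h2 := hmem (mem_sup_left he)
  have h3 : q * (t * t) * q⁻¹ * (q * e * q⁻¹) = q * e * q⁻¹ * (q * (t * t) * q⁻¹) :=
    prd_ext h.prd (mul_mem h1 h2) (mul_mem h2 h1) (by rw [pr_mul h.prd h1 h2, pr_mul h.prd h2 h1, e1])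
      (by rw [pr_mul (prd_symm h.prd) h1 h2, pr_mul (prd_symm h.prd) h2 h1, e2])
  rw [show q * (t * t) * q⁻¹ * (q * e * q⁻¹) = q * (t * t * e) * q⁻¹ by group,
    show q * e * q⁻¹ * (q * (t * t) * q⁻¹) = q * (e * (t * t)) * q⁻¹ by group] at h3
  rw [mul_left_cancel (mul_right_cancel h3), mul_inv_cancel_right]

/-- Two transvections move each other's centre or neither does. -/
theorem transv_pair (hEP : E ≤ (P : Subgroup G)) (hEc : ∀ a ∈ E, ∀ b ∈ E, a * b = b * a) {a b p q : G}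
    (ha : a ∈ normalizer (E : Set G)) (hb : b ∈ normalizer (E : Set G)) (hpE : p ∈ E) (hqE : q ∈ E)
    (hp2 : p * p = 1) (hq2 : q * q = 1)
    (hae : ∀ e ∈ E, a * e * a⁻¹ = e ∨ a * e * a⁻¹ = e * p) (hap : a * p * a⁻¹ = p)
    (hbe : ∀ e ∈ E, b * e * b⁻¹ = e ∨ b * e * b⁻¹ = e * q) (hbq : b * q * b⁻¹ = q)
    (hmove : ∃ e ∈ E, b * e * b⁻¹ ≠ e) (haq : a * q * a⁻¹ ≠ q) : b * p * b⁻¹ = p * q := by
  refine (hbe p hpE).resolve_left fun hbp => ?_
  have haq' := (hae q hqE).resolve_left haq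
  have hq1 : q ≠ 1 := fun e => haq (by rw [e, mul_one, mul_inv_cancel])
  obtain ⟨e₁, he₁, hbe₁⟩ := hmove
  obtain ⟨e, he, hbe', hae'⟩ : ∃ e ∈ E, b * e * b⁻¹ = e * q ∧ a * e * a⁻¹ = e := by
    have h1 := (hbe e₁ he₁).resolve_left hbe₁
    rcases hae e₁ he₁ with h2 | h2
    · exact ⟨e₁, he₁, h1, h2⟩
    · refine ⟨e₁ * q, mul_mem he₁ hqE, ?_, ?_⟩
      · rw [show b * (e₁ * q) * b⁻¹ = (b * e₁ * b⁻¹) * (b * q * b⁻¹) by group, h1, hbq]
      · rw [show a * (e₁ * q) * a⁻¹ = (a * e₁ * a⁻¹) * (a * q * a⁻¹) by group, h2, haq', mul_assoc e₁,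
          ← mul_assoc p q p, hEc p hpE q hqE, mul_assoc q, hp2, mul_one]
  set x := a * b with hx
  have hxe : x * e * x⁻¹ = e * (q * p) := by
    rw [show x * e * x⁻¹ = a * (b * e * b⁻¹) * a⁻¹ by rw [hx]; group, hbe',
      show a * (e * q) * a⁻¹ = (a * e * a⁻¹) * (a * q * a⁻¹) by group, hae', haq']
  have hxp : x * p * x⁻¹ = p := by
    rw [show x * p * x⁻¹ = a * (b * p * b⁻¹) * a⁻¹ by rw [hx]; group, hbp, hap]
  have hxq : x * q * x⁻¹ = q * p := by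
    rw [show x * q * x⁻¹ = a * (b * q * b⁻¹) * a⁻¹ by rw [hx]; group, hbq, haq']
  have hx2 : x ^ 2 * e * (x ^ 2)⁻¹ = e * p := by
    rw [pow_two, show x * x * e * (x * x)⁻¹ = x * (x * e * x⁻¹) * x⁻¹ by group, hxe,
      show x * (e * (q * p)) * x⁻¹ = (x * e * x⁻¹) * ((x * q * x⁻¹) * (x * p * x⁻¹)) by group, hxe, hxq, hxp,
      show e * (q * p) * (q * p * p) = e * (q * (p * q) * (p * p)) by group, hp2, hEc p hpE q hqE,
      ← mul_assoc q q p, hq2, one_mul, mul_one]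
  have hx4 : Commute (x ^ 4) e := by
    refine mul_inv_eq_iff_eq_mul.1 ?_
    have hx2p : x ^ 2 * p * (x ^ 2)⁻¹ = p := by
      rw [pow_two, show x * x * p * (x * x)⁻¹ = x * (x * p * x⁻¹) * x⁻¹ by group, hxp, hxp]
    rw [show x ^ 4 * e * (x ^ 4)⁻¹ = x ^ 2 * (x ^ 2 * e * (x ^ 2)⁻¹) * (x ^ 2)⁻¹ by group, hx2,
      show x ^ 2 * (e * p) * (x ^ 2)⁻¹ = (x ^ 2 * e * (x ^ 2)⁻¹) * (x ^ 2 * p * (x ^ 2)⁻¹) by group, hx2, hx2p,
      mul_assoc, hp2, mul_one]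
  obtain ⟨k, m, hm, hkm⟩ := Nat.exists_eq_two_pow_mul_odd (orderOf_pos x).ne'
  have hsq := sq_centralizes h hs hEP hEc (t := x ^ m) (pow_mem (mul_mem ha hb) m) (k := k)
    (by rw [← pow_mul, mul_comm, ← hkm, pow_orderOf_eq_one]) he
  obtain ⟨j, hj⟩ := hm
  have hc2m : Commute (x ^ (2 + 4 * j)) e := by
    refine mul_inv_eq_iff_eq_mul.1 ?_
    rwa [← pow_add, show m + m = 2 + 4 * j by omega] at hsq
  have hcomm : Commute (x ^ 2) e := by
    have h1 : Commute ((x ^ 4) ^ j) e := hx4.pow_left j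
    have h2 : x ^ 2 = x ^ (2 + 4 * j) * ((x ^ 4) ^ j)⁻¹ := by
      rw [pow_add, pow_mul, mul_inv_cancel_right]
    rw [h2]
    exact hc2m.mul_left h1.inv_left
  rw [hcomm.eq, mul_inv_cancel_right] at hx2
  have hp1 : p = 1 := mul_eq_left.1 hx2.symm
  exact haq (by rw [haq', hp1, mul_one])

omit hs in
/-- The transvection conjugate to `r₁`. -/
theorem transv_conj (hEP : E ≤ (P : Subgroup G)) {g : G} (hg : g ∈ normalizer (E : Set G)) {e : G} (he : e ∈ E) :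
    g * r₁ * g⁻¹ * e * (g * r₁ * g⁻¹)⁻¹ = e ∨
      g * r₁ * g⁻¹ * e * (g * r₁ * g⁻¹)⁻¹ = e * (g * z₁ * g⁻¹) := by
  have he' : g⁻¹ * e * g ∈ E := by
    have := (mem_normalizer_iff.1 (inv_mem hg) e).1 he
    rwa [inv_inv] at this
  rw [show g * r₁ * g⁻¹ * e * (g * r₁ * g⁻¹)⁻¹ = g * (r₁ * (g⁻¹ * e * g) * r₁⁻¹) * g⁻¹ by group]
  rcases h.conj_r (hEP he') with ⟨-, e1⟩ | ⟨-, e1⟩
  · exact Or.inl (by rw [e1]; group)
  · exact Or.inr (by rw [e1]; group)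

/-- An element moving `z₁` into the four group of a reflection and fixing a complement. -/
structure Lift (E D₁ C₁ : Subgroup G) (z₁ : G) (D₂ : Subgroup G) (c k : G) : Prop where
  cE : c ∈ E
  cW : InW D₂ (pr D₂ D₁ c)
  cC : pr D₁ D₂ c ∉ C₁
  kN : k ∈ normalizer (E : Set G)
  kz : k * z₁ * k⁻¹ = c
  kfix : ∀ w, InW D₂ w → k * w * k⁻¹ = w ∨ k * (w * z₁) * k⁻¹ = w * z₁

omit h hs in
/-- `E` is either commutative or has a dihedral second coordinate and is good. -/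
def Kind (P : Sylow 2 G) (E D₁ D₂ : Subgroup G) : Prop :=
  (∀ a ∈ E, ∀ b ∈ E, a * b = b * a) ∨
    (Good P E ∧ ∃ C₂ z₂ r₂, Side (P : Subgroup G) D₂ C₂ z₂ r₂ D₁ ∧ IsWide E D₂ C₂ r₂ D₁)

omit hs in
theorem inW_cases {C₂ : Subgroup G} {z₂ r₂ : G} (h₂ : Side (P : Subgroup G) D₂ C₂ z₂ r₂ D₁) {w : G}
    (hw : InW D₂ w) : w = 1 ∨ w = z₂ :=
  h₂.dih.central_cases hw.1 fun y hy => (hw.2 y hy).symm

omit hs in
theorem inW_z {C₂ : Subgroup G} {z₂ r₂ : G} (h₂ : Side (P : Subgroup G) D₂ C₂ z₂ r₂ D₁) : InW D₂ z₂ :=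
  ⟨h₂.dih.zD, fun _ hd => h₂.dih.central hd⟩

omit hs in
theorem partFour_of_box {C₂ : Subgroup G} {z₂ r₂ : G} (h₂ : Side (P : Subgroup G) D₂ C₂ z₂ r₂ D₁) {s : G}
    (hb : Box E D₁ C₁ z₁ D₂ s) : PartFour E D₂ D₁ := fun e he => by
  have hsz : s * z₁ * (s * z₁) = 1 := by
    rw [(show Commute z₁ s from (h.dih.central hb.sD).symm).mul_mul_mul_comm, h.dih.out s hb.sD hb.sC,
      h.dih.z2, one_mul]
  rcases hb.cases e he with e1 | e1 | e1 | e1 <;> rw [e1]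
  · exact ⟨one_mem E, one_mul 1⟩
  · exact ⟨hb.zE, h.dih.z2⟩
  · exact ⟨hb.sE, h.dih.out s hb.sD hb.sC⟩
  · exact ⟨mul_mem hb.sE hb.zE, hsz⟩

theorem conj_inW (hEP : E ≤ (P : Subgroup G)) {s : G} (hb : Box E D₁ C₁ z₁ D₂ s)
    (hk : Kind P E D₁ D₂) {g : G} (hg : g ∈ normalizer (E : Set G)) :
    InW D₂ (pr D₂ D₁ (g * z₁ * g⁻¹)) := by
  set c := g * z₁ * g⁻¹ with hc
  have hcE : c ∈ E := (mem_normalizer_iff.1 hg z₁).1 hb.zE
  have hcP := hEP hcE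
  have hc2D := pr_mem (prd_symm h.prd) hcP
  rcases hs with ⟨C₂, z₂, r₂, h₂⟩ | hD
  swap
  · exact ⟨hc2D, fun d hd => comm_of_exp_two_mem hD hd hc2D⟩
  suffices pr D₂ D₁ c = 1 ∨ pr D₂ D₁ c = z₂ by
    rcases this with e | e <;> rw [e]
    · exact ⟨one_mem _, fun d _ => by rw [one_mul, mul_one]⟩
    · exact inW_z h h₂
  have hne : c ≠ z₂ := fun e => by
    have h1 := rigid h (Or.inl ⟨C₂, z₂, r₂, h₂⟩) (g := g) (by
      rw [← hc, e]; exact ⟨h₂.zS, fun y hy => h₂.z_central hy⟩)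
    rw [← hc, e] at h1
    have h2 := pr_other h.prd h₂.dih.zD
    rw [h1, pr_self h.prd h.dih.zD] at h2
    exact h.dih.z1 h2
  rcases hk with hEc | ⟨hE, C', z', r', h', hw⟩
  · by_cases hfix : r₂ * c * r₂⁻¹ = c
    · have hC : pr D₂ D₁ c ∈ C₂ := by
        rcases h₂.conj_r hcP with ⟨hC, -⟩ | ⟨-, e1⟩
        · exact hC
        · rw [hfix] at e1
          exact absurd (mul_eq_left.1 e1.symm) h₂.dih.z1
      refine h₂.dih.eq_one_or_z hC ?_
      rw [← pr_mul h₂.prd hcP hcP, show c * c = 1 by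
        rw [hc, show g * z₁ * g⁻¹ * (g * z₁ * g⁻¹) = g * (z₁ * z₁) * g⁻¹ by group, h.dih.z2, mul_one,
          mul_inv_cancel]]
      exact pr_self h₂.prd (one_mem _)
    · exfalso
      have hz2E := hb.wE z₂ (inW_z h h₂)
      have hr2 := r_mem_normalizer h₂ (Or.inl ⟨C₁, z₁, r₁, h⟩) hEP hz2E
      have hr1 := r_mem_normalizer h (Or.inl ⟨C₂, z₂, r₂, h₂⟩) hEP hb.zE
      have hbN : g * r₁ * g⁻¹ ∈ normalizer (E : Set G) := mul_mem (mul_mem hg hr1) (inv_mem hg)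
      have hc2 : c * c = 1 := by
        rw [hc, show g * z₁ * g⁻¹ * (g * z₁ * g⁻¹) = g * (z₁ * z₁) * g⁻¹ by group, h.dih.z2, mul_one,
          mul_inv_cancel]
      have hbq : g * r₁ * g⁻¹ * c * (g * r₁ * g⁻¹)⁻¹ = c := by
        rw [hc, show g * r₁ * g⁻¹ * (g * z₁ * g⁻¹) * (g * r₁ * g⁻¹)⁻¹ = g * (r₁ * z₁ * r₁⁻¹) * g⁻¹ by group,
          h.dih.comm_r h.dih.zC]
      have h1 := transv_pair h (Or.inl ⟨C₂, z₂, r₂, h₂⟩) hEP hEc hr2 hbN hz2E hcE h₂.dih.z2 hc2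
        (fun e he => (h₂.conj_r (hEP he)).imp And.right And.right)
        (h₂.dih.comm_r h₂.dih.zC) (fun e he => transv_conj h hEP hg he) hbq
        ⟨g * s * g⁻¹, (mem_normalizer_iff.1 hg s).1 hb.sE, fun e1 => by
          rw [show g * r₁ * g⁻¹ * (g * s * g⁻¹) * (g * r₁ * g⁻¹)⁻¹ = g * (r₁ * s * r₁⁻¹) * g⁻¹ by group,
            h.dih.conj_r hb.sD hb.sC] at e1
          exact h.dih.z1 (mul_eq_left.1 (mul_left_cancel (mul_right_cancel e1)))⟩ hfix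
      rcases h₂.conj_r hcP with ⟨-, e1⟩ | ⟨-, e1⟩
      · exact hfix e1
      refine hne ?_
      have h3 : r₂ * (g * r₁ * g⁻¹) * z₂ * (r₂ * (g * r₁ * g⁻¹))⁻¹ = c := by
        rw [show r₂ * (g * r₁ * g⁻¹) * z₂ * (r₂ * (g * r₁ * g⁻¹))⁻¹ =
          r₂ * (g * r₁ * g⁻¹ * z₂ * (g * r₁ * g⁻¹)⁻¹) * r₂⁻¹ by group, h1,
          show r₂ * (z₂ * c) * r₂⁻¹ = (r₂ * z₂ * r₂⁻¹) * (r₂ * c * r₂⁻¹) by group, h₂.dih.comm_r h₂.dih.zC, e1,
          hEc c hcE z₂ hz2E, ← mul_assoc, h₂.dih.z2, one_mul]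
      have h4 := rigid h₂ (Or.inl ⟨C₁, z₁, r₁, h⟩) (g := g⁻¹ * (r₂ * (g * r₁ * g⁻¹)))
        (by
          rw [show g⁻¹ * (r₂ * (g * r₁ * g⁻¹)) * z₂ * (g⁻¹ * (r₂ * (g * r₁ * g⁻¹)))⁻¹ =
            g⁻¹ * (r₂ * (g * r₁ * g⁻¹) * z₂ * (r₂ * (g * r₁ * g⁻¹))⁻¹) * g by group, h3, hc,
            show g⁻¹ * (g * z₁ * g⁻¹) * g = z₁ by group]
          exact ⟨h.zS, fun y hy => h.z_central hy⟩)
      rw [show g⁻¹ * (r₂ * (g * r₁ * g⁻¹)) * z₂ * (g⁻¹ * (r₂ * (g * r₁ * g⁻¹)))⁻¹ =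
        g⁻¹ * (r₂ * (g * r₁ * g⁻¹) * z₂ * (r₂ * (g * r₁ * g⁻¹))⁻¹) * g by group, h3, hc,
        show g⁻¹ * (g * z₁ * g⁻¹) * g = z₁ by group] at h4
      have h5 := pr_other h.prd h₂.dih.zD
      rw [← h4, pr_self h.prd h.dih.zD] at h5
      exact absurd h5 h.dih.z1
  · have hp := partFour_of_box h h' hb
    have hz : z₁ ∈ cen E := (mem_cen_iff h' hE hw hp).2 ⟨hb.zE, Or.inl (pr_other (prd_symm h.prd) h.dih.zD)⟩
    have := ((mem_cen_iff h' hE hw hp).1 ((mem_normalizer_iff.1 (normalizer_le_cen E hg) z₁).1 hz)).2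
    rcases this with e | e
    · exact Or.inl e
    · rcases inW_cases h h₂ (inW_z h h') with e' | e'
      · exact absurd e' h'.dih.z1
      · exact Or.inr (e.trans e')

/-- A moved `z₁` gives a lift. -/
theorem exists_lift (hEP : E ≤ (P : Subgroup G)) {s : G} (hb : Box E D₁ C₁ z₁ D₂ s)
    (hk : Kind P E D₁ D₂) {g : G} (hg : g ∈ normalizer (E : Set G)) (hmove : g * z₁ * g⁻¹ ≠ z₁) :
    ∃ k, Lift E D₁ C₁ z₁ D₂ (g * z₁ * g⁻¹) k := by
  set c := g * z₁ * g⁻¹ with hc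
  have hcE : c ∈ E := (mem_normalizer_iff.1 hg z₁).1 hb.zE
  have hcP := hEP hcE
  have hW := conj_inW h hs hEP hb hk hg
  have hcC : pr D₁ D₂ c ∉ C₁ := fun hC => hmove (rigid h hs (central_of_parts h hcP
    (h.dih.eq_one_or_z hC (by
      rw [← pr_mul h.prd hcP hcP, show c * c = 1 by
        rw [hc, show g * z₁ * g⁻¹ * (g * z₁ * g⁻¹) = g * (z₁ * z₁) * g⁻¹ by group, h.dih.z2, mul_one,
          mul_inv_cancel]]
      exact pr_self h.prd (one_mem _))) hW))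
  rcases hk with hEc | ⟨hE, C', z', r', h', hw⟩
  swap
  · refine ⟨g, hcE, hW, hcC, hg, rfl, fun w hww => Or.inl ?_⟩
    rcases inW_cases h h' hww with e | e <;> rw [e]
    · rw [mul_one, mul_inv_cancel]
    · exact z_fix h' hE hw (partFour_of_box h h' hb) hg
  have hr1 := r_mem_normalizer h hs hEP hb.zE
  set b := g * r₁ * g⁻¹ with hbd
  have hbN : b ∈ normalizer (E : Set G) := mul_mem (mul_mem hg hr1) (inv_mem hg)
  have hc2 : c * c = 1 := by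
    rw [hc, show g * z₁ * g⁻¹ * (g * z₁ * g⁻¹) = g * (z₁ * z₁) * g⁻¹ by group, h.dih.z2, mul_one,
      mul_inv_cancel]
  have hrc : r₁ * c * r₁⁻¹ = c * z₁ := ((h.conj_r hcP).resolve_left fun e => hcC e.1).2
  have hbq : b * c * b⁻¹ = c := by
    rw [hbd, hc, show g * r₁ * g⁻¹ * (g * z₁ * g⁻¹) * (g * r₁ * g⁻¹)⁻¹ = g * (r₁ * z₁ * r₁⁻¹) * g⁻¹ by group,
      h.dih.comm_r h.dih.zC]
  have hbmove : ∃ e ∈ E, b * e * b⁻¹ ≠ e :=
    ⟨g * s * g⁻¹, (mem_normalizer_iff.1 hg s).1 hb.sE, fun e1 => by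
      rw [hbd, show g * r₁ * g⁻¹ * (g * s * g⁻¹) * (g * r₁ * g⁻¹)⁻¹ = g * (r₁ * s * r₁⁻¹) * g⁻¹ by group,
        h.dih.conj_r hb.sD hb.sC] at e1
      exact h.dih.z1 (mul_eq_left.1 (mul_left_cancel (mul_right_cancel e1)))⟩
  have hbz : b * z₁ * b⁻¹ = z₁ * c := transv_pair h hs hEP hEc hr1 hbN hb.zE hcE h.dih.z2 hc2
    (fun e he => (h.conj_r (hEP he)).imp And.right And.right) (h.dih.comm_r h.dih.zC)
    (fun e he => transv_conj h hEP hg he) hbq hbmove (fun e => by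
      rw [hrc] at e; exact h.dih.z1 (mul_eq_left.1 e))
  refine ⟨r₁ * b, hcE, hW, hcC, mul_mem hr1 hbN, ?_, fun w hww => ?_⟩
  · rw [show r₁ * b * z₁ * (r₁ * b)⁻¹ = r₁ * (b * z₁ * b⁻¹) * r₁⁻¹ by group, hbz,
      show r₁ * (z₁ * c) * r₁⁻¹ = (r₁ * z₁ * r₁⁻¹) * (r₁ * c * r₁⁻¹) by group, h.dih.comm_r h.dih.zC, hrc,
      hEc c hcE z₁ hb.zE, ← mul_assoc, h.dih.z2, one_mul]
  have hrw : ∀ {x}, Central (P : Subgroup G) x → r₁ * x * r₁⁻¹ = x := fun hx => by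
    rw [hx.2 r₁ h.rS, mul_inv_cancel_right]
  have hwc := central_of_inW h hww
  have hwE := hb.wE w hww
  rcases transv_conj h hEP hg hwE with e | e
  · left
    rw [show r₁ * b * w * (r₁ * b)⁻¹ = r₁ * (b * w * b⁻¹) * r₁⁻¹ by group, hbd, e, hrw hwc]
  · right
    rw [show r₁ * b * (w * z₁) * (r₁ * b)⁻¹ = r₁ * ((b * w * b⁻¹) * (b * z₁ * b⁻¹)) * r₁⁻¹ by group, hbz,
      hbd, e, ← hc, hEc z₁ hb.zE c hcE, show w * c * (c * z₁) = w * (c * c) * z₁ by group, hc2, mul_one,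
      show r₁ * (w * z₁) * r₁⁻¹ = (r₁ * w * r₁⁻¹) * (r₁ * z₁ * r₁⁻¹) by group, hrw hwc,
      h.dih.comm_r h.dih.zC]

/-- A lift determines the central part of the conjugates of `z₁`. -/
theorem lift_unique {c k : G} (hl : Lift E D₁ C₁ z₁ D₂ c k) (hEP : E ≤ (P : Subgroup G)) {w : G}
    (hw : InW D₂ w) (hconj : ∃ g, g * z₁ * g⁻¹ = c * w) : w = 1 := by
  obtain ⟨g, hg⟩ := hconj
  have hcP := hEP hl.cE
  have hwc := central_of_inW h hw
  have hzw : w * z₁ = z₁ * w := h.z_central hwc.1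
  rcases hl.kfix w hw with e | e
  · have hkw : k⁻¹ * w * k = w := by
      calc k⁻¹ * w * k = k⁻¹ * (k * w * k⁻¹) * k := by rw [e]
        _ = w := by group
    have h1 := rigid h hs (g := k⁻¹ * g) (by
      rw [show k⁻¹ * g * z₁ * (k⁻¹ * g)⁻¹ = k⁻¹ * (g * z₁ * g⁻¹) * k by group, hg, ← hl.kz,
        show k⁻¹ * (k * z₁ * k⁻¹ * w) * k = z₁ * (k⁻¹ * w * k) by group,
        hkw]
      refine ⟨mul_mem h.zS hwc.1, fun y hy => ?_⟩
      rw [← mul_assoc, h.z_central hy, mul_assoc, hwc.2 y hy, mul_assoc])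
    rw [show k⁻¹ * g * z₁ * (k⁻¹ * g)⁻¹ = k⁻¹ * (g * z₁ * g⁻¹) * k by group, hg, ← hl.kz,
      show k⁻¹ * (k * z₁ * k⁻¹ * w) * k = z₁ * (k⁻¹ * w * k) by group,
      hkw] at h1
    exact mul_eq_left.1 h1
  · have hrc : r₁ * c * r₁⁻¹ = c * z₁ := ((h.conj_r hcP).resolve_left fun e' => hl.cC e'.1).2
    have hkey : r₁ * k * w * (r₁ * k)⁻¹ = c * w := by
      have h2 : k * w * k⁻¹ = c * (w * z₁) := by
        calc k * w * k⁻¹ = k * (z₁ * (w * z₁)) * k⁻¹ := by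
              rw [hzw, ← mul_assoc z₁ z₁ w, h.dih.z2, one_mul]
          _ = (k * z₁ * k⁻¹) * (k * (w * z₁) * k⁻¹) := by group
          _ = c * (w * z₁) := by rw [hl.kz, e]
      rw [show r₁ * k * w * (r₁ * k)⁻¹ = r₁ * (k * w * k⁻¹) * r₁⁻¹ by group, h2,
        show r₁ * (c * (w * z₁)) * r₁⁻¹ = (r₁ * c * r₁⁻¹) * ((r₁ * w * r₁⁻¹) * (r₁ * z₁ * r₁⁻¹)) by group,
        hrc, h.dih.comm_r h.dih.zC, show r₁ * w * r₁⁻¹ = w by rw [hwc.2 r₁ h.rS, mul_inv_cancel_right],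
        hzw, mul_assoc, ← mul_assoc z₁ z₁ w, h.dih.z2, one_mul]
    have h1 := rigid h hs (g := (r₁ * k)⁻¹ * g) (by
      rw [show (r₁ * k)⁻¹ * g * z₁ * ((r₁ * k)⁻¹ * g)⁻¹ = (r₁ * k)⁻¹ * (g * z₁ * g⁻¹) * (r₁ * k) by group, hg,
        ← hkey, show (r₁ * k)⁻¹ * (r₁ * k * w * (r₁ * k)⁻¹) * (r₁ * k) = w by group]
      exact hwc)
    rw [show (r₁ * k)⁻¹ * g * z₁ * ((r₁ * k)⁻¹ * g)⁻¹ = (r₁ * k)⁻¹ * (g * z₁ * g⁻¹) * (r₁ * k) by group, hg,
      ← hkey, show (r₁ * k)⁻¹ * (r₁ * k * w * (r₁ * k)⁻¹) * (r₁ * k) = w by group] at h1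
    have := pr_other h.prd hw.1
    rw [h1, pr_self h.prd h.dih.zD] at this
    exact absurd this h.dih.z1

/-- In a good subgroup with four group coordinate `z₁` moves. -/
theorem exists_move (hE : Good P E) {s : G} (hf : IsFour E D₁ C₁ z₁ D₂ s) :
    ∃ g ∈ normalizer (E : Set G), g * z₁ * g⁻¹ ≠ z₁ := by
  by_contra hall
  push Not at hall
  set N := zpowers z₁ with hN
  have hNn : normalizer (E : Set G) ≤ normalizer (N : Set G) := fun n hn =>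
    mem_normalizer_of_conj fun x hx => by
      obtain ⟨j, rfl⟩ := mem_zpowers_iff.1 hx
      rw [← conj_zpow, hall n hn]
      exact zpow_mem (mem_zpowers z₁) j
  have hzE := z_mem h hE
  have hr : r₁ ∈ stab E N hNn := ⟨r_mem_normalizer h hs hE.1 hzE, fun e he => by
    rcases h.conj_r (hE.1 he) with ⟨-, e1⟩ | ⟨-, e1⟩ <;> rw [e1]
    · rw [mul_inv_cancel]; exact one_mem _
    · rw [h.z_central (hE.1 he), mul_inv_cancel_right]; exact mem_zpowers z₁⟩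
  have hrE := mem_of_stab P hE (stab E N hNn) (fun _ hx => hx.1) (normalizer_le_stab_normalizer E N hNn)
    (fun x hx hodd => mem_centralizer_iff.2 fun e he => by
      have hd := hx.2 e he
      obtain ⟨j, hj⟩ := mem_zpowers_iff.1 hd
      have hfix : x * (x * e * x⁻¹ * e⁻¹) * x⁻¹ = x * e * x⁻¹ * e⁻¹ := by
        rw [← hj, ← conj_zpow, hall x hx.1]
      obtain ⟨k, hk⟩ := exists_two_pow (P.2.to_le ((zpowers_le.2 hzE).trans hE.1) : IsPGroup 2 N) hd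
      exact (mul_inv_eq_iff_eq_mul.1 (eq_of_two_step hodd hfix hk)).symm) h.rS hr
  have hr' := hf.cases r₁ hrE
  rw [pr_self h.prd h.dih.rD] at hr'
  rcases hr' with e | e | e | e
  · exact h.dih.rr_ne (by rw [e, one_mul])
  · exact h.dih.rr_ne (by rw [e, h.dih.z2])
  · exact hf.sC (e ▸ h.dih.rC)
  · exact h.dih.toDih.mul_notMem hf.sC h.dih.zC (e ▸ h.dih.rC)

omit hs in
theorem kind_of_good (hE : Good P E) {s : G} (hs : Sec (P : Subgroup G) D₁ D₂)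
    (hf : IsFour E D₁ C₁ z₁ D₂ s) : Kind P E D₁ D₂ := by
  have hb := box_of_good h hs hE hf
  have hcomm : ∀ {a b}, a ∈ E → b ∈ E → pr D₁ D₂ a * pr D₁ D₂ b = pr D₁ D₂ b * pr D₁ D₂ a :=
    fun {a b} ha hb' => inFour_comm (h.dih.central hf.sD) (hf.cases a ha) (hf.cases b hb')
  have hfin : (∀ {a b}, a ∈ E → b ∈ E → pr D₂ D₁ a * pr D₂ D₁ b = pr D₂ D₁ b * pr D₂ D₁ a) →
      ∀ a ∈ E, ∀ b ∈ E, a * b = b * a := fun h2 a ha b hb' =>
    prd_ext h.prd (mul_mem (hE.1 ha) (hE.1 hb')) (mul_mem (hE.1 hb') (hE.1 ha))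
      (by rw [pr_mul h.prd (hE.1 ha) (hE.1 hb'), pr_mul h.prd (hE.1 hb') (hE.1 ha), hcomm ha hb'])
      (by rw [pr_mul (prd_symm h.prd) (hE.1 ha) (hE.1 hb'), pr_mul (prd_symm h.prd) (hE.1 hb') (hE.1 ha),
        h2 ha hb'])
  rcases hs with ⟨C₂, z₂, r₂, h₂⟩ | hD
  swap
  · exact Or.inl (hfin fun {a b} ha hb' => comm_of_exp_two_mem hD (pr_mem (prd_symm h.prd) (hE.1 ha))
      (pr_mem (prd_symm h.prd) (hE.1 hb')))
  rcases four_or_wide h₂ hE with ⟨t, ht⟩ | hw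
  · exact Or.inl (hfin fun {a b} ha hb' =>
      inFour_comm (h₂.dih.central ht.sD) (ht.cases a ha) (ht.cases b hb'))
  · exact Or.inr ⟨hE, C₂, z₂, r₂, h₂, hw⟩

omit hs in
/-- Each class of four groups of a good subgroup has exactly one central twist conjugate to `z₁`. -/
theorem exists_unique_twist (hE : Good P E) {s : G} (hs : Sec (P : Subgroup G) D₁ D₂)
    (hf : IsFour E D₁ C₁ z₁ D₂ s) : ∃ w, InW D₂ w ∧ (∃ g, g * z₁ * g⁻¹ = s * w) ∧
      ∀ w', InW D₂ w' → (∃ g, g * z₁ * g⁻¹ = s * w') → w' = w := by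
  obtain ⟨g, hg, hmove⟩ := exists_move h hs hE hf
  obtain ⟨k, hl⟩ := exists_lift h hs hE.1 (box_of_good h hs hE hf) (kind_of_good h hE hs hf) hg hmove
  set c := g * z₁ * g⁻¹ with hc
  have hcP := hE.1 hl.cE
  set w := pr D₂ D₁ c with hwd
  have hrx : r₁ * (s * w) * r₁⁻¹ = s * z₁ * w := by
    rw [show r₁ * (s * w) * r₁⁻¹ = (r₁ * s * r₁⁻¹) * (r₁ * w * r₁⁻¹) by group, h.dih.conj_r hf.sD hf.sC,
      (central_of_inW h hl.cW).2 r₁ h.rS, mul_inv_cancel_right]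
  have hsplit := (pr_split h.prd hcP).symm
  have hsame : ∀ {w'}, InW D₂ w' → (r₁ * (s * w') * r₁⁻¹ = s * z₁ * w') := fun {w'} hw' => by
    rw [show r₁ * (s * w') * r₁⁻¹ = (r₁ * s * r₁⁻¹) * (r₁ * w' * r₁⁻¹) by group, h.dih.conj_r hf.sD hf.sC,
      (central_of_inW h hw').2 r₁ h.rS, mul_inv_cancel_right]
  have hWmul : ∀ {w'}, InW D₂ w' → InW D₂ (w⁻¹ * w') := fun {w'} hw' => by
    refine ⟨mul_mem (inv_mem hl.cW.1) hw'.1, fun d hd => ?_⟩
    exact ((show Commute d w from hl.cW.2 d hd).inv_right.mul_right (hw'.2 d hd)).eq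
  rcases hf.cases c hl.cE with e | e | e | e
  · exact absurd (e ▸ one_mem C₁) hl.cC
  · exact absurd (e ▸ h.dih.zC) hl.cC
  · refine ⟨w, hl.cW, ⟨g, by rw [← hc, hsplit, e]⟩, fun w' hw' ⟨g', hg'⟩ => ?_⟩
    have := lift_unique h hs hl hE.1 (hWmul hw') ⟨g', by rw [hg', hsplit, e, ← mul_assoc, mul_inv_cancel_right]⟩
    exact (inv_mul_eq_one.1 this).symm
  · refine ⟨w, hl.cW, ⟨r₁⁻¹ * g, ?_⟩, fun w' hw' ⟨g', hg'⟩ => ?_⟩
    · rw [show r₁⁻¹ * g * z₁ * (r₁⁻¹ * g)⁻¹ = r₁⁻¹ * (g * z₁ * g⁻¹) * r₁ by group, ← hc, hsplit, e, ← hrx]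
      group
    · have := lift_unique h hs hl hE.1 (hWmul hw') ⟨r₁ * g', by
        rw [show r₁ * g' * z₁ * (r₁ * g')⁻¹ = r₁ * (g' * z₁ * g'⁻¹) * r₁⁻¹ by group, hg', hsame hw',
          hsplit, e, ← mul_assoc, mul_inv_cancel_right]⟩
      exact (inv_mul_eq_one.1 this).symm

end CfsgLib.DDProd
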