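import Cfsg.Agent.Lib.Fusion.AlperinGoldschmidt
import Cfsg.Agent.Lib.Fusion.Transfer
import Mathlib.Tactic.Group

/-!
# Operators of odd order on good subgroups
-/

set_option autoImplicit false
set_option linter.unusedSectionVars false
set_option linter.style.haveILetI false

open Subgroup

namespace CfsgLib.DDProd

open CfsgLib.Fusion CfsgLib.Fusion.Goldschmidt

universe u

variable {G : Type u} [Group G]

/-- An element of odd order stabilising a two-step series fixes it. -/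
theorem eq_of_two_step {g e : G} (hg : Odd (orderOf g))
    (hfix : g * (g * e * g⁻¹ * e⁻¹) * g⁻¹ = g * e * g⁻¹ * e⁻¹) {k : ℕ}
    (hk : (g * e * g⁻¹ * e⁻¹) ^ (2 ^ k) = 1) : g * e * g⁻¹ = e := by
  set a := g * e * g⁻¹ * e⁻¹ with ha
  have h1 : ∀ n : ℕ, g ^ n * e * (g ^ n)⁻¹ = a ^ n * e := by
    intro n
    induction n with
    | zero => simp
    | succ m ih =>
      have hc : Commute g (a ^ m) :=
        (show Commute g a from mul_inv_eq_iff_eq_mul.1 hfix).pow_right m
      calc g ^ (m + 1) * e * (g ^ (m + 1))⁻¹ = g * (g ^ m * e * (g ^ m)⁻¹) * g⁻¹ := by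
            rw [pow_succ']; group
        _ = g * a ^ m * e * g⁻¹ := by rw [ih, mul_assoc g (a ^ m) e]
        _ = a ^ m * (g * e * g⁻¹ * e⁻¹) * e := by rw [hc.eq]; group
        _ = a ^ (m + 1) * e := by rw [← ha, ← pow_succ]
  have h2 := h1 (orderOf g)
  rw [pow_orderOf_eq_one, one_mul, inv_one, mul_one] at h2
  have h3 : a ^ orderOf g = 1 := mul_eq_right.1 h2.symm
  have h4 : a = 1 := by
    rw [← orderOf_eq_one_iff]
    refine Nat.eq_one_of_dvd_coprimes ?_ (orderOf_dvd_of_pow_eq_one h3) (orderOf_dvd_of_pow_eq_one hk)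
    exact (Nat.coprime_two_right.2 hg).pow_right k
  rw [ha, mul_inv_eq_one] at h4
  exact h4

variable [Finite G]

theorem exists_two_pow {E : Subgroup G} (hE : IsPGroup 2 E) {x : G} (hx : x ∈ E) : ∃ k, x ^ (2 ^ k) = 1 := by
  obtain ⟨k, hk⟩ := hE ⟨x, hx⟩
  exact ⟨k, congrArg Subtype.val hk⟩

/-- An odd power of an element is of 2-power order. -/
theorem exists_odd_pow (g : G) : ∃ a b : ℕ, Odd b ∧ g ^ (2 ^ a * b) = 1 ∧ Odd (orderOf (g ^ (2 ^ a))) := by
  obtain ⟨a, b, hb, hab⟩ := Nat.exists_eq_two_pow_mul_odd (orderOf_pos g).ne'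
  refine ⟨a, b, hb, by rw [← hab, pow_orderOf_eq_one], ?_⟩
  have h : (g ^ (2 ^ a)) ^ b = 1 := by rw [← pow_mul, ← hab, pow_orderOf_eq_one]
  exact hb.of_dvd_nat (orderOf_dvd_of_pow_eq_one h)

variable (P : Sylow 2 G)

/-- A normal set of operators of 2-power order acts by inner automorphisms. -/
theorem mem_of_stab {E : Subgroup G} (hE : Good P E) (M : Subgroup G)
    (hMN : M ≤ normalizer (E : Set G)) (hM : normalizer (E : Set G) ≤ normalizer (M : Set G))
    (hodd : ∀ g ∈ M, Odd (orderOf g) → g ∈ centralizer (E : Set G)) {x : G} (hxP : x ∈ (P : Subgroup G))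
    (hx : x ∈ M) : x ∈ E := by
  haveI : Fact (Nat.Prime 2) := ⟨Nat.prime_two⟩
  have hEp : IsPGroup 2 E := P.2.to_le hE.1
  set N := normalizer (E : Set G) with hN
  haveI : (M.subgroupOf N).Normal := normal_subgroupOf_of_le_normalizer hM
  haveI := CfsgLib.Coprime.pPrimeCore_characteristic (G := ↥N) 2
  set K := Cfsg.pPrimeCore 2 ↥N with hK
  set mk := QuotientGroup.mk' K with hmk
  have hp : IsPGroup 2 ((M.subgroupOf N).map mk) := by
    rintro ⟨_, g, hg, rfl⟩
    obtain ⟨a, b, -, -, hodd'⟩ := exists_odd_pow (g : G)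
    refine ⟨a, Subtype.ext ?_⟩
    show (mk g) ^ (2 ^ a) = 1
    rw [← map_pow]
    set y := g ^ (2 ^ a) with hy
    have hy0 : (y : G) = (g : G) ^ (2 ^ a) := by rw [hy, SubgroupClass.coe_pow]
    have hyC : (y : G) ∈ centralizer (E : Set G) :=
      hodd _ (by rw [hy0]; exact pow_mem (mem_subgroupOf.1 hg) _) (by rw [hy0]; exact hodd')
    obtain ⟨c, hc, e, he, hce⟩ : ∃ c ∈ core' 2 E, ∃ e ∈ E, (y : G) = c * e := by
      have hcp := hE.2.1 hyC
      rw [← hE.2.2.1.2.2.2.2] at hcp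
      rw [← SetLike.mem_coe, coe_mul_of_right_le_normalizer_left _ _
        (le_normalizer.trans (normalizer_le_normalizer_map (E := E) K))] at hcp
      obtain ⟨c, hc, e, he, hce⟩ := hcp
      exact ⟨c, hc, e, he, hce.symm⟩
    obtain ⟨c', hc', rfl⟩ := hc
    have he' : e ∈ N := le_normalizer he
    have heq : y = c' * ⟨e, he'⟩ := Subtype.ext hce
    have h1 : mk y = mk ⟨e, he'⟩ := by
      rw [heq, map_mul, show mk c' = 1 from (QuotientGroup.eq_one_iff c').2 hc', one_mul]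
    obtain ⟨k, hk⟩ := exists_two_pow hEp he
    have h2 : (mk y) ^ (2 ^ k) = 1 := by
      rw [h1, ← map_pow, show (⟨e, he'⟩ : N) ^ (2 ^ k) = 1 from Subtype.ext hk, map_one]
    rw [← orderOf_eq_one_iff]
    refine Nat.eq_one_of_dvd_coprimes ((Nat.coprime_two_right.2 hodd').pow_right k) ?_ (orderOf_dvd_of_pow_eq_one h2)
    refine (orderOf_map_dvd mk y).trans ?_
    rw [← orderOf_submonoid, ← hy0]
  haveI : ((M.subgroupOf N).map mk).Normal :=
    Subgroup.Normal.map inferInstance _ (QuotientGroup.mk'_surjective _)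
  have hxc : x ∈ corePP 2 E := by
    refine ⟨⟨x, hMN hx⟩, ?_, rfl⟩
    show mk ⟨x, hMN hx⟩ ∈ Cfsg.pCore 2 (↥N ⧸ K)
    exact CfsgLib.Coprime.le_pCore hp (mem_map_of_mem mk (mem_subgroupOf.2 hx))
  rw [← hE.2.2.1.2.2.2.2] at hxc
  rw [← SetLike.mem_coe, coe_mul_of_right_le_normalizer_left _ _
    (le_normalizer.trans (normalizer_le_normalizer_map (E := E) K))] at hxc
  obtain ⟨c, hc, e, he, rfl⟩ := hxc
  have hcP : c ∈ (P : Subgroup G) := by simpa using mul_mem hxP (inv_mem (hE.1 he))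
  obtain ⟨c', hc', rfl⟩ := hc
  obtain ⟨k, hk⟩ := exists_two_pow P.2 hcP
  have hc1 : (c' : G) = 1 := by
    rw [← orderOf_eq_one_iff, orderOf_submonoid]
    refine Nat.eq_one_of_dvd_coprimes ((CfsgLib.Coprime.pPrimeCore_coprime (G := ↥N) Nat.prime_two).pow_right k) ?_ ?_
    · exact (orderOf_mk c' hc') ▸ orderOf_dvd_natCard (⟨c', hc'⟩ : K)
    · rw [← orderOf_submonoid]; exact orderOf_dvd_of_pow_eq_one hk
  show (c' : G) * e ∈ E
  rw [hc1, one_mul]
  exact he

/-- A group is generated by its elements of odd order and a 2-subgroup of odd index. -/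
theorem le_of_odd_of_sylow {N L : Subgroup G} {T : Subgroup G} (hT : IsPGroup 2 T) (hTN : T ≤ N)
    (hTi : ¬ 2 ∣ T.relIndex N) (hodd : ∀ g ∈ N, Odd (orderOf g) → g ∈ L) (hTL : T ≤ L) : N ≤ L := by
  haveI : Fact (Nat.Prime 2) := ⟨Nat.prime_two⟩
  set O : Subgroup N := closure {g : N | Odd (orderOf (g : G))} with hO
  haveI : O.Normal := ⟨fun n hn g => by
    induction hn using Subgroup.closure_induction with
    | mem y hy =>
      refine Subgroup.subset_closure ?_
      show Odd (orderOf ((g : G) * y * (g : G)⁻¹))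
      rwa [show (g : G) * y * (g : G)⁻¹ = MulAut.conj (g : G) y from rfl,
        MulEquiv.orderOf_eq (MulAut.conj (g : G))]
    | one => simp
    | mul a b _ _ iha ihb =>
      rw [show g * (a * b) * g⁻¹ = (g * a * g⁻¹) * (g * b * g⁻¹) by group]; exact mul_mem iha ihb
    | inv a _ iha => rw [show g * a⁻¹ * g⁻¹ = (g * a * g⁻¹)⁻¹ by group]; exact inv_mem iha⟩
  set J := O ⊔ T.subgroupOf N with hJ
  have h2 : ∀ g : N, ∃ k, g ^ (2 ^ k) ∈ O := fun g => by
    obtain ⟨a, b, -, -, hodd'⟩ := exists_odd_pow (g : G)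
    refine ⟨a, Subgroup.subset_closure ?_⟩
    show Odd (orderOf ((g ^ (2 ^ a) : N) : G))
    rwa [SubgroupClass.coe_pow]
  have hq : IsPGroup 2 (↥N ⧸ O) := fun x => by
    obtain ⟨g, rfl⟩ := QuotientGroup.mk'_surjective O x
    obtain ⟨k, hk⟩ := h2 g
    exact ⟨k, by rw [← map_pow]; exact (QuotientGroup.eq_one_iff _).2 hk⟩
  obtain ⟨n, hn⟩ := hq.exists_card_eq
  have hd1 : J.index ∣ 2 ^ n := hn ▸ (index_eq_card O ▸ index_dvd_of_le le_sup_left)
  have hd2 : J.index ∣ T.relIndex N := index_dvd_of_le le_sup_right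
  have h1 : J.index = 1 := Nat.eq_one_of_dvd_coprimes
    ((Nat.coprime_two_right.2 (Nat.odd_iff.2 (Nat.two_dvd_ne_zero.1 hTi))).pow_right n) hd2 hd1
  have hle : J ≤ L.subgroupOf N := sup_le ((closure_le _).2 fun g hg => mem_subgroupOf.2 (hodd g g.2 hg))
    (fun g hg => mem_subgroupOf.2 (hTL (mem_subgroupOf.1 hg)))
  rw [index_eq_one.1 h1] at hle
  exact fun g hg => mem_subgroupOf.1 (hle (mem_top (⟨g, hg⟩ : N)))

/-- Normalizers of good subgroups are generated by elements of odd order and 2-elements of `P`. -/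
theorem good_le {E L : Subgroup G} (hE : Good P E)
    (hodd : ∀ g ∈ normalizer (E : Set G), Odd (orderOf g) → g ∈ L)
    (hT : (P : Subgroup G) ⊓ normalizer (E : Set G) ≤ L) : normalizer (E : Set G) ≤ L :=
  le_of_odd_of_sylow (P.2.to_le inf_le_left) inf_le_right hE.2.2.2 hodd hT

/-- A relation preserved by the steps in good subgroups is preserved by conjugation. -/
theorem rel_of_good (R : G → G → Prop) (hrefl : ∀ a ∈ (P : Subgroup G), R a a)
    (htrans : ∀ a b c, R a b → R b c → R a c)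
    (hstep : ∀ E, Good P E → ∀ x ∈ normalizer (E : Set G), ∀ a ∈ E, R a (x⁻¹ * a * x))
    {a g : G} (ha : a ∈ (P : Subgroup G)) (hg : g⁻¹ * a * g ∈ (P : Subgroup G)) : R a (g⁻¹ * a * g) := by
  haveI : Fact (Nat.Prime 2) := ⟨Nat.prime_two⟩
  have key : ∀ (D : Subgroup G) (h : G), GChain P D h → ∀ b ∈ D, b ∈ (P : Subgroup G) → R b (h⁻¹ * b * h) := by
    intro D h hch
    induction hch with
    | nil D => intro b _ hb; simpa using hrefl b hb
    | @cons D g E x hE hx hD _ ih =>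
      intro b hb _
      have hb' : x⁻¹ * b * x ∈ conjBy x⁻¹ D := mem_conjBy.2 (by simpa [mul_assoc] using hb)
      have h1 := hstep E hE x hx b (hD hb)
      have hbP : x⁻¹ * b * x ∈ (P : Subgroup G) := hE.1 (by
        have := (mem_normalizer_iff.1 (inv_mem hx) b).1 (hD hb)
        rwa [inv_inv] at this)
      refine htrans _ _ _ h1 ?_
      have h2 := ih _ hb' hbP
      rwa [show g⁻¹ * (x⁻¹ * b * x) * g = (x * g)⁻¹ * b * (x * g) by group] at h2
  obtain ⟨D, c, h, haD, hDP, hc, hch, rfl⟩ := exists_gchain P {a} g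
    (Set.singleton_subset_iff.2 ha) (by rw [Set.image_singleton, Set.singleton_subset_iff]; exact hg)
  have hca : c⁻¹ * a * c = a := by
    rw [mul_assoc, mem_centralizer_iff.1 hc a rfl, inv_mul_cancel_left]
  have := key D h hch a (haD rfl) ha
  rwa [show (c * h)⁻¹ * a * (c * h) = h⁻¹ * (c⁻¹ * a * c) * h by group, hca]

/-- A subgroup respected by conjugation contains the focal subgroup. -/
theorem commutator_inf_le (X : Subgroup G) (hX : ∀ E, Good P E → ∀ x ∈ normalizer (E : Set G), ∀ a ∈ E,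
    a⁻¹ * (x⁻¹ * a * x) ∈ X) : _root_.commutator G ⊓ (P : Subgroup G) ≤ X := by
  haveI : Fact (Nat.Prime 2) := ⟨Nat.prime_two⟩
  rw [CfsgLib.Fusion.commutator_inf_eq_focal (CfsgLib.Fusion.coprime_card_focalQuotient P),
    focalSubgroup_def, closure_le]
  rintro _ ⟨hgP, x, hx, u, rfl⟩
  have h1 : u * x⁻¹ * u⁻¹ ∈ (P : Subgroup G) := by
    have := mul_mem (inv_mem hx) hgP
    rwa [commutatorElement_def, show x⁻¹ * (x * u * x⁻¹ * u⁻¹) = u * x⁻¹ * u⁻¹ by group] at this
  have h2 := rel_of_good P (fun a b => a⁻¹ * b ∈ X) (fun a _ => by simp)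
    (fun a b c h h' => by simpa [mul_assoc] using mul_mem h h') hX (a := x⁻¹) (g := u⁻¹) (inv_mem hx)
    (by rwa [inv_inv])
  rw [inv_inv, inv_inv] at h2
  rwa [commutatorElement_def, show x * u * x⁻¹ * u⁻¹ = x * (u * x⁻¹ * u⁻¹) by group]

end CfsgLib.DDProd
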