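import Cfsg.Agent.Lib.DDProd.Dih
import Cfsg.Prelude.Def_TwoFusion

/-!
# Coordinates in an internal direct product of two subgroups
-/

set_option autoImplicit false
set_option linter.unusedSectionVars false

open Subgroup

namespace CfsgLib.DDProd

universe u

variable {G : Type u} [Group G]

open Classical in
/-- The `D₁`-coordinate of an element of `D₁ D₂`. -/
noncomputable def pr (D₁ D₂ : Subgroup G) (x : G) : G :=
  if h : ∃ a ∈ D₁, a⁻¹ * x ∈ D₂ then h.choose else 1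

section
variable {S D₁ D₂ : Subgroup G} (hp : Cfsg.IsInternalDirectProduct D₁ D₂ S)

include hp

theorem prd_symm : Cfsg.IsInternalDirectProduct D₂ D₁ S :=
  ⟨hp.2.1, hp.1, fun a ha b hb => (hp.2.2.1 b hb a ha).symm, by rw [inf_comm]; exact hp.2.2.2.1,
    by rw [sup_comm]; exact hp.2.2.2.2⟩

theorem prd_comm {a b : G} (ha : a ∈ D₁) (hb : b ∈ D₂) : a * b = b * a := hp.2.2.1 a ha b hb

theorem prd_unique {a b a' b' : G} (ha : a ∈ D₁) (hb : b ∈ D₂) (ha' : a' ∈ D₁) (hb' : b' ∈ D₂)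
    (e : a * b = a' * b') : a = a' ∧ b = b' := by
  have h1 : a'⁻¹ * a = b' * b⁻¹ := by
    rw [eq_mul_inv_iff_mul_eq, mul_assoc, e, inv_mul_cancel_left]
  have h2 : a'⁻¹ * a ∈ D₁ ⊓ D₂ :=
    Subgroup.mem_inf.2 ⟨D₁.mul_mem (D₁.inv_mem ha') ha, h1 ▸ D₂.mul_mem hb' (D₂.inv_mem hb)⟩
  rw [hp.2.2.2.1, mem_bot, inv_mul_eq_one] at h2
  subst h2
  exact ⟨rfl, mul_left_cancel e⟩

theorem prd_exists {x : G} (hx : x ∈ S) : ∃ a ∈ D₁, ∃ b ∈ D₂, x = a * b := by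
  rw [← hp.2.2.2.2] at hx
  have hn : D₂ ≤ normalizer (D₁ : Set G) := fun b hb => centralizer_le_normalizer _
    (mem_centralizer_iff.2 fun a ha => prd_comm hp ha hb)
  rw [← SetLike.mem_coe, coe_mul_of_right_le_normalizer_left _ _ hn] at hx
  obtain ⟨a, ha, b, hb, rfl⟩ := hx
  exact ⟨a, ha, b, hb, rfl⟩

theorem pr_mul_eq {a b : G} (ha : a ∈ D₁) (hb : b ∈ D₂) : pr D₁ D₂ (a * b) = a := by
  have h : ∃ a' ∈ D₁, a'⁻¹ * (a * b) ∈ D₂ := ⟨a, ha, by rwa [inv_mul_cancel_left]⟩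
  rw [pr, dif_pos h]
  exact (prd_unique hp h.choose_spec.1 h.choose_spec.2 ha hb (by rw [mul_inv_cancel_left])).1

theorem pr_mul_eq' {a b : G} (ha : a ∈ D₁) (hb : b ∈ D₂) : pr D₂ D₁ (a * b) = b := by
  rw [prd_comm hp ha hb, pr_mul_eq (prd_symm hp) hb ha]

theorem pr_mem {x : G} (hx : x ∈ S) : pr D₁ D₂ x ∈ D₁ := by
  obtain ⟨a, ha, b, hb, rfl⟩ := prd_exists hp hx
  rwa [pr_mul_eq hp ha hb]

theorem pr_split {x : G} (hx : x ∈ S) : pr D₁ D₂ x * pr D₂ D₁ x = x := by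
  obtain ⟨a, ha, b, hb, rfl⟩ := prd_exists hp hx
  rw [pr_mul_eq hp ha hb, pr_mul_eq' hp ha hb]

theorem pr_self {a : G} (ha : a ∈ D₁) : pr D₁ D₂ a = a := by
  conv_lhs => rw [← mul_one a]
  exact pr_mul_eq hp ha (one_mem _)

theorem pr_other {b : G} (hb : b ∈ D₂) : pr D₁ D₂ b = 1 := by
  conv_lhs => rw [← one_mul b]
  exact pr_mul_eq hp (one_mem _) hb

theorem pr_mul {x y : G} (hx : x ∈ S) (hy : y ∈ S) : pr D₁ D₂ (x * y) = pr D₁ D₂ x * pr D₁ D₂ y := by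
  obtain ⟨a, ha, b, hb, rfl⟩ := prd_exists hp hx
  obtain ⟨c, hc, d, hd, rfl⟩ := prd_exists hp hy
  rw [show a * b * (c * d) = a * (b * c) * d by group, ← prd_comm hp hc hb,
    show a * (c * b) * d = (a * c) * (b * d) by group, pr_mul_eq hp (mul_mem ha hc) (mul_mem hb hd),
    pr_mul_eq hp ha hb, pr_mul_eq hp hc hd]

theorem pr_inv {x : G} (hx : x ∈ S) : pr D₁ D₂ x⁻¹ = (pr D₁ D₂ x)⁻¹ := by
  refine eq_inv_of_mul_eq_one_left ?_
  rw [← pr_mul hp (inv_mem hx) hx, inv_mul_cancel]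
  exact pr_self hp (one_mem _)

theorem pr_conj {x y : G} (hx : x ∈ S) (hy : y ∈ S) :
    pr D₁ D₂ (x * y * x⁻¹) = pr D₁ D₂ x * pr D₁ D₂ y * (pr D₁ D₂ x)⁻¹ := by
  rw [pr_mul hp (mul_mem hx hy) (inv_mem hx), pr_mul hp hx hy, pr_inv hp hx]

theorem pr_pow {x : G} (hx : x ∈ S) (n : ℕ) : pr D₁ D₂ (x ^ n) = pr D₁ D₂ x ^ n := by
  induction n with
  | zero => simpa using pr_self hp (one_mem _)
  | succ m ih => rw [pow_succ, pow_succ, pr_mul hp (pow_mem hx m) hx, ih]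

theorem pr_comm {x y : G} (hx : x ∈ S) (hy : y ∈ S) (e : x * y = y * x) :
    pr D₁ D₂ x * pr D₁ D₂ y = pr D₁ D₂ y * pr D₁ D₂ x := by
  rw [← pr_mul hp hx hy, e, pr_mul hp hy hx]

theorem prd_ext {x y : G} (hx : x ∈ S) (hy : y ∈ S) (h1 : pr D₁ D₂ x = pr D₁ D₂ y)
    (h2 : pr D₂ D₁ x = pr D₂ D₁ y) : x = y := by
  rw [← pr_split hp hx, h1, h2, pr_split hp hy]

theorem conj_left {x a : G} (hx : x ∈ S) (ha : a ∈ D₁) : x * a * x⁻¹ = pr D₁ D₂ x * a * (pr D₁ D₂ x)⁻¹ := by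
  obtain ⟨c, hc, d, hd, rfl⟩ := prd_exists hp hx
  rw [pr_mul_eq hp hc hd, show c * d * a * (c * d)⁻¹ = c * (d * a * d⁻¹) * c⁻¹ by group, ← prd_comm hp ha hd,
    mul_inv_cancel_right]

theorem conj_mem_left {x a : G} (hx : x ∈ S) (ha : a ∈ D₁) : x * a * x⁻¹ ∈ D₁ := by
  rw [conj_left hp hx ha]
  exact mul_mem (mul_mem (pr_mem hp hx) ha) (inv_mem (pr_mem hp hx))

end

/-- A dihedral factor `D₁` of order at least eight in a direct product `S = D₁ × D₂`. -/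
structure Side (S D₁ C₁ : Subgroup G) (z₁ r₁ : G) (D₂ : Subgroup G) : Prop where
  prd : Cfsg.IsInternalDirectProduct D₁ D₂ S
  dih : DihZ D₁ C₁ z₁ r₁

namespace Side

variable {S D₁ C₁ D₂ : Subgroup G} {z₁ r₁ : G} (h : Side S D₁ C₁ z₁ r₁ D₂)

include h

theorem zS : z₁ ∈ S := h.prd.1 h.dih.zD

theorem rS : r₁ ∈ S := h.prd.1 h.dih.rD

theorem z_central {x : G} (hx : x ∈ S) : x * z₁ = z₁ * x := by
  obtain ⟨a, ha, b, hb, rfl⟩ := prd_exists h.prd hx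
  rw [mul_assoc, ← prd_comm h.prd h.dih.zD hb, ← mul_assoc, h.dih.central ha, mul_assoc]

/-- Conjugation by the quarter rotation. -/
theorem conj_r {e : G} (he : e ∈ S) :
    (pr D₁ D₂ e ∈ C₁ ∧ r₁ * e * r₁⁻¹ = e) ∨ (pr D₁ D₂ e ∉ C₁ ∧ r₁ * e * r₁⁻¹ = e * z₁) := by
  obtain ⟨a, ha, b, hb, rfl⟩ := prd_exists h.prd he
  rw [pr_mul_eq h.prd ha hb]
  have e1 : r₁ * (a * b) * r₁⁻¹ = r₁ * a * r₁⁻¹ * b := by
    rw [show r₁ * (a * b) * r₁⁻¹ = r₁ * a * (b * r₁⁻¹) by group, ← prd_comm h.prd (inv_mem h.dih.rD) hb]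
    group
  by_cases hC : a ∈ C₁
  · exact Or.inl ⟨hC, by rw [e1, h.dih.comm_r hC]⟩
  · refine Or.inr ⟨hC, ?_⟩
    rw [e1, h.dih.conj_r ha hC, mul_assoc, prd_comm h.prd h.dih.zD hb, ← mul_assoc]

variable [Finite G]

theorem central_cases {x : G} (hx : x ∈ S) (hc : ∀ y ∈ S, x * y = y * x) :
    pr D₁ D₂ x = 1 ∨ pr D₁ D₂ x = z₁ := by
  refine h.dih.central_cases (pr_mem h.prd hx) fun y hy => ?_
  have := pr_comm h.prd hx (h.prd.1 hy) (hc y (h.prd.1 hy))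
  rwa [pr_self h.prd hy] at this

end Side

end CfsgLib.DDProd
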