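import Cfsg.Agent.Lib.DDProd.Exist

/-!
# Choosing the factorisation adapted to fusion
-/

set_option autoImplicit false
set_option linter.unusedSectionVars false
set_option linter.style.haveILetI false

open Subgroup

namespace CfsgLib.DDProd

open CfsgLib.Fusion.Goldschmidt

universe u

variable {G : Type u} [Group G]

/-- All reflections are conjugate to the central involution. -/
def Normed (D C : Subgroup G) (z : G) : Prop := ∀ x ∈ D, x ∉ C → ∃ g, g * z * g⁻¹ = x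

variable [Finite G] {P : Sylow 2 G} {D₁ C₁ D₂ : Subgroup G} {z₁ r₁ : G}
  (h : Side (P : Subgroup G) D₁ C₁ z₁ r₁ D₂) (hs : Sec (P : Subgroup G) D₁ D₂)

include h hs

theorem inW_sq {w : G} (hw : InW D₂ w) : w * w = 1 := by
  rcases hs with ⟨C₂, z₂, r₂, h₂⟩ | hD
  · rcases inW_cases h h₂ hw with e | e <;> rw [e]
    · exact one_mul 1
    · exact h₂.dih.z2
  · exact hD w hw.1

theorem sec_change {D : Subgroup G} (hp : Cfsg.IsInternalDirectProduct D D₂ (P : Subgroup G)) :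
    Sec (P : Subgroup G) D D₂ := by
  rcases hs with ⟨C₂, z₂, r₂, h₂⟩ | hD
  · exact Or.inl ⟨C₂, z₂, r₂, prd_symm hp, h₂.dih⟩
  · exact Or.inr hD

/-- Twisting the dihedral factor by central elements of the other one. -/
theorem exists_twist {s u w w' : G} (hs₁ : s ∈ D₁) (hsC : s ∉ C₁) (hu : zpowers u = C₁) (hw : InW D₂ w)
    (hw' : InW D₂ w') :
    ∃ D C r, Side (P : Subgroup G) D C z₁ r D₂ ∧ Sec (P : Subgroup G) D D₂ ∧
      s * w ∈ D ∧ s * w ∉ C ∧ zpowers (u * (w * w')) = C := by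
  have huC : u ∈ C₁ := hu ▸ mem_zpowers u
  have huD := h.dih.le huC
  have hwc := central_of_inW h hw
  have hwc' := central_of_inW h hw'
  have hw2 := inW_sq h hs hw
  set ν := w * w' with hν
  have hνD : ν ∈ D₂ := mul_mem hw.1 hw'.1
  have hνc : ∀ y ∈ (P : Subgroup G), y * ν = ν * y := fun y hy =>
    ((show Commute y w from hwc.2 y hy).mul_right (hwc'.2 y hy)).eq
  have hν2 : ν * ν = 1 := by
    rw [hν, (show Commute w' w from hwc.2 w' hwc'.1).mul_mul_mul_comm, hw2, inW_sq h hs hw', one_mul]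
  set s' := s * w with hs'
  set u' := u * ν with hu'
  have hsP := h.prd.1 hs₁
  have huP := h.prd.1 huD
  have hs'P : s' ∈ (P : Subgroup G) := mul_mem hsP hwc.1
  have hu'P : u' ∈ (P : Subgroup G) := mul_mem huP (h.prd.2.1 hνD)
  have hpr : ∀ j : ℕ, pr D₁ D₂ (u' ^ j) = u ^ j := fun j => by
    rw [pr_pow h.prd hu'P, hu', pr_mul_eq h.prd huD hνD]
  have hpow : ∀ j : ℕ, u' ^ (2 * j) = u ^ (2 * j) := fun j => by
    rw [hu', (show Commute u ν from hνc u huP).mul_pow, pow_mul ν, pow_two ν, hν2, one_pow, mul_one]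
  obtain ⟨k, hk⟩ : ∃ k, orderOf u = 4 * 2 ^ k := by
    obtain ⟨v, -, hv, k, hk⟩ := h.dih.toDih.exists_gen
    exact ⟨k, by rw [← Nat.card_zpowers, hu, ← hv, Nat.card_zpowers, hk]⟩
  have hord : orderOf u' = orderOf u := by
    refine Nat.dvd_antisymm (orderOf_dvd_of_pow_eq_one ?_) (orderOf_dvd_of_pow_eq_one ?_)
    · rw [hk, show 4 * 2 ^ k = 2 * (2 * 2 ^ k) by ring, hpow, show 2 * (2 * 2 ^ k) = orderOf u by rw [hk]; ring,
        pow_orderOf_eq_one]
    · rw [← hpr, pow_orderOf_eq_one, pr_self h.prd (one_mem _)]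
  have hsu : s' * u' = s * u * w' := by
    rw [hs', hu', hν, show s * w * (u * (w * w')) = s * (w * u) * w * w' by group, ← hwc.2 u huP,
      show s * (u * w) * w * w' = s * u * (w * w) * w' by group, hw2, mul_one]
  have hss : s' * s' = 1 := by
    rw [hs', (show Commute w s from (hwc.2 s hsP).symm).mul_mul_mul_comm, h.dih.out s hs₁ hsC, hw2, one_mul]
  have hsusu : s' * u' * (s' * u') = 1 := by
    rw [hsu, (show Commute w' (s * u) from (hwc'.2 _ (mul_mem hsP huP)).symm).mul_mul_mul_comm,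
      h.dih.out _ (mul_mem hs₁ huD) (h.dih.toDih.mul_notMem hsC huC), inW_sq h hs hw', one_mul]
  have hprs : pr D₁ D₂ s' = s := pr_mul_eq h.prd hs₁ hw.1
  have hne : s' ∉ zpowers u' := fun hz => hsC (by
    obtain ⟨j, hj⟩ := (Submonoid.mem_powers_iff _ _).1 (mem_powers_iff_mem_zpowers.2 hz)
    rw [← hprs, ← hj, hpr]
    exact pow_mem huC j)
  obtain ⟨hdih, hcase⟩ := Dih.of_gens hss hsusu (P.2.to_le (zpowers_le.2 hu'P))
    (by rw [hord, hk]; have := Nat.one_le_two_pow (n := k); omega) hne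
  set D := closure ({s', s' * u'} : Set G) with hD
  have hs'D : s' ∈ D := Subgroup.subset_closure (by simp)
  have hu'D : u' ∈ D := hdih.le (mem_zpowers u')
  have hDP : D ≤ (P : Subgroup G) := (closure_le _).2 (by
    rintro x (rfl | rfl)
    · exact hs'P
    · exact mul_mem hs'P hu'P)
  have hsplit : ∀ a ∈ D₁, ∀ b, InW D₂ b → ∀ d ∈ D₂, a * b * d = d * (a * b) := fun a ha b hb d hd => by
    rw [mul_assoc, ← hb.2 d hd, ← mul_assoc, prd_comm h.prd ha hd, mul_assoc]
  have hcomm : ∀ a ∈ D, ∀ d ∈ D₂, a * d = d * a := by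
    intro a ha d hd
    induction ha using Subgroup.closure_induction with
    | mem y hy =>
      rcases hy with rfl | rfl
      · exact hsplit s hs₁ w hw d hd
      · rw [hsu]; exact hsplit _ (mul_mem hs₁ huD) w' hw' d hd
    | one => rw [one_mul, mul_one]
    | mul a b _ _ iha ihb => exact ((show Commute a d from iha).mul_left ihb).eq
    | inv a _ iha => exact (show Commute a d from iha).inv_left.eq
  have hdisj : D ⊓ D₂ = ⊥ := by
    refine eq_bot_iff.2 fun x ⟨hx, hx2⟩ => mem_bot.2 ?_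
    have hp1 := pr_other h.prd hx2
    rcases hcase x hx with hz | hz
    · obtain ⟨j, hj⟩ := (Submonoid.mem_powers_iff _ _).1 (mem_powers_iff_mem_zpowers.2 hz)
      rw [← hj, hpr] at hp1
      rw [← hj]
      exact orderOf_dvd_iff_pow_eq_one.1 (hord ▸ orderOf_dvd_of_pow_eq_one hp1)
    · exfalso
      obtain ⟨j, hj⟩ := (Submonoid.mem_powers_iff _ _).1 (mem_powers_iff_mem_zpowers.2 hz)
      refine hsC ?_
      have h1 := pr_mul h.prd hs'P (hDP hx)
      rw [← hj, hpr, hprs, hp1, mul_one] at h1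
      exact h1 ▸ pow_mem huC j
  have hgen : D ⊔ D₂ = (P : Subgroup G) := by
    refine le_antisymm (sup_le hDP h.prd.2.1) ?_
    rw [← h.prd.2.2.2.2]
    refine sup_le ?_ le_sup_right
    rw [← h.dih.toDih.closure_pair hs₁ hsC hu, closure_le]
    have hmem : s ∈ D ⊔ D₂ := by
      rw [show s = s' * w⁻¹ by rw [hs', mul_inv_cancel_right]]
      exact mul_mem_sup hs'D (inv_mem hw.1)
    have hmemu : u ∈ D ⊔ D₂ := by
      rw [show u = u' * ν⁻¹ by rw [hu', mul_inv_cancel_right]]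
      exact mul_mem_sup hu'D (inv_mem hνD)
    rintro x (rfl | rfl)
    · exact hmem
    · exact mul_mem hmem hmemu
  have hp' : Cfsg.IsInternalDirectProduct D D₂ (P : Subgroup G) := ⟨hDP, h.prd.2.1, hcomm, hdisj, hgen⟩
  refine ⟨D, zpowers u', u' ^ (2 ^ k),
    ⟨hp', { toDih := hdih, rC := pow_mem (mem_zpowers u') _, rr := ?_, zC := ?_, z2 := h.dih.z2, z1 := h.dih.z1 }⟩,
    sec_change h hs hp', hs'D, hne, rfl⟩
  · rw [← pow_add, ← two_mul, hpow]
    refine (h.dih.eq_one_or_z (pow_mem huC _) ?_).resolve_left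
      (pow_ne_one_of_lt_orderOf (by positivity) (by rw [hk]; have := Nat.one_le_two_pow (n := k); omega))
    rw [← pow_add, show 2 * 2 ^ k + 2 * 2 ^ k = orderOf u by rw [hk]; ring, pow_orderOf_eq_one]
  · have : u ^ (2 * 2 ^ k) = z₁ := by
      refine (h.dih.eq_one_or_z (pow_mem huC _) ?_).resolve_left
        (pow_ne_one_of_lt_orderOf (by positivity) (by rw [hk]; have := Nat.one_le_two_pow (n := k); omega))
      rw [← pow_add, show 2 * 2 ^ k + 2 * 2 ^ k = orderOf u by rw [hk]; ring, pow_orderOf_eq_one]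
    rw [← this, ← hpow]
    exact pow_mem (mem_zpowers u') _

/-- The adapted dihedral factor. -/
theorem exists_normed (hperf : _root_.commutator G = ⊤) :
    ∃ D C r, Side (P : Subgroup G) D C z₁ r D₂ ∧ Sec (P : Subgroup G) D D₂ ∧ Normed D C z₁ := by
  obtain ⟨s, hs₁, hsC⟩ := h.dih.ne
  obtain ⟨u, huC, hu, -⟩ := h.dih.toDih.exists_gen
  have tw : ∀ x ∈ D₁, x ∉ C₁ → ∃ w, InW D₂ w ∧ ∃ g, g * z₁ * g⁻¹ = x * w := by
    intro x hx hxC
    obtain ⟨E, hE, t, hf, hsq⟩ := exists_four_of_perfect h hs hperf hx hxC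
    obtain ⟨w, hw, hg, -⟩ := twist_of_four h hs hE hf hx hxC hsq
    exact ⟨w, hw, hg⟩
  obtain ⟨w, hw, g, hg⟩ := tw s hs₁ hsC
  obtain ⟨w', hw', g', hg'⟩ := tw (s * u) (mul_mem hs₁ (h.dih.le huC)) (h.dih.toDih.mul_notMem hsC huC)
  obtain ⟨D, C, r, hS, hSec, hsD, hsC', hgen⟩ := exists_twist h hs hs₁ hsC hu hw hw'
  refine ⟨D, C, r, hS, hSec, fun x hx hxC => ?_⟩
  have hd := hS.dih.toDih
  have hν : u * (w * w') ∈ C := hgen ▸ mem_zpowers _
  set s' := s * w with hs'
  set u' := u * (w * w') with hu'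
  have hsu : s' * u' = s * u * w' := by
    rw [hs', hu', show s * w * (u * (w * w')) = s * (w * u) * w * w' by group,
      ← (central_of_inW h hw).2 u (h.prd.1 (h.dih.le huC)),
      show s * (u * w) * w * w' = s * u * (w * w) * w' by group, inW_sq h hs hw, mul_one]
  have hc : s' * x ∈ C := hd.idx _ hsD x hx hsC' hxC
  have hx' : x = s' * (s' * x) := by rw [← mul_assoc, hS.dih.out _ hsD hsC', one_mul]
  rcases hd.sq_dichotomy hgen hc with hq | hq
  · obtain ⟨a, ha, e⟩ := hq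
    refine ⟨a⁻¹ * g, ?_⟩
    rw [show a⁻¹ * g * z₁ * (a⁻¹ * g)⁻¹ = a⁻¹ * (g * z₁ * g⁻¹) * a by group, hg,
      hd.exists_conj hsD hsC' ha, e, ← hx']
  · obtain ⟨a, ha, e⟩ := hd.sq_mul hq (hd.sq_inv (a := u' * u') ⟨u', hν, rfl⟩)
    refine ⟨a⁻¹ * g', ?_⟩
    have hsuC := hd.mul_notMem hsC' hν
    rw [show a⁻¹ * g' * z₁ * (a⁻¹ * g')⁻¹ = a⁻¹ * (g' * z₁ * g'⁻¹) * a by group, hg', ← hsu,
      hd.exists_conj (mul_mem hsD (hS.dih.le hν)) hsuC ha, e, mul_inv_rev,
      show s' * u' * (s' * x * u' * (u'⁻¹ * u'⁻¹)) = s' * (u' * (s' * x)) * u'⁻¹ by group,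
      hd.comm hν hc, show s' * (s' * x * u') * u'⁻¹ = s' * (s' * x) by group, ← hx']

/-- A class has no proper central twist. -/
theorem normed_unique (hperf : _root_.commutator G = ⊤) (hn : Normed D₁ C₁ z₁) {x w : G} (hx : x ∈ D₁)
    (hxC : x ∉ C₁) (hw : InW D₂ w) (hg : ∃ g, g * z₁ * g⁻¹ = x * w) : w = 1 := by
  obtain ⟨E, hE, t, hf, hsq⟩ := exists_four_of_perfect h hs hperf hx hxC
  obtain ⟨w₀, -, -, huniq⟩ := twist_of_four h hs hE hf hx hxC hsq
  obtain ⟨g', hg'⟩ := hn x hx hxC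
  rw [huniq w hw hg, huniq 1 ⟨one_mem _, fun d _ => by rw [one_mul, mul_one]⟩ ⟨g', by rw [mul_one, hg']⟩]

/-- In an adapted factorisation lifts lie in the dihedral factor. -/
theorem lift_coord (hn : Normed D₁ C₁ z₁) {E : Subgroup G} {c k : G} (hEP : E ≤ (P : Subgroup G))
    (hl : Lift E D₁ C₁ z₁ D₂ c k) : pr D₂ D₁ c = 1 := by
  obtain ⟨g, hg⟩ := hn _ (pr_mem h.prd (hEP hl.cE)) hl.cC
  refine lift_unique h hs hl hEP hl.cW ⟨g, ?_⟩
  calc g * z₁ * g⁻¹ = pr D₁ D₂ c := hg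
    _ = pr D₁ D₂ c * pr D₂ D₁ c * pr D₂ D₁ c := by rw [mul_assoc, inW_sq h hs hl.cW, mul_one]
    _ = c * pr D₂ D₁ c := by rw [pr_split h.prd (hEP hl.cE)]

omit hs in
/-- An element of the normaliser of the Sylow group whose square fixes a central element fixes it. -/
theorem fix_of_sq {n a : G} (hn : n ∈ normalizer ((P : Subgroup G) : Set G)) (ha : Central (P : Subgroup G) a)
    (h2 : n * n * a * (n * n)⁻¹ = a) : n * a * n⁻¹ = a := by
  haveI : Fact (Nat.Prime 2) := ⟨Nat.prime_two⟩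
  obtain ⟨k, b, hb, hkb⟩ := Nat.exists_eq_two_pow_mul_odd (orderOf_pos n).ne'
  have hy : n ^ b ∈ (P : Subgroup G) := by
    set N := normalizer ((P : Subgroup G) : Set G) with hN
    have hle : (P : Subgroup G) ≤ N := le_normalizer
    set mk := QuotientGroup.mk' ((P : Subgroup G).subgroupOf N)
    haveI : ((P : Subgroup G).subgroupOf N).Normal := normal_in_normalizer
    refine mem_subgroupOf.1 ((QuotientGroup.eq_one_iff (⟨n ^ b, pow_mem hn b⟩ : N)).1 ?_)
    rw [← orderOf_eq_one_iff]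
    refine Nat.eq_one_of_dvd_coprimes (a := 2 ^ k) (b := ((P : Subgroup G).subgroupOf N).index) ?_ ?_ ?_
    · refine ((Nat.prime_two.coprime_iff_not_dvd).2 fun hd => P.not_dvd_index ?_).pow_left k
      exact hd.trans (relIndex_dvd_index_of_le hle)
    · refine (orderOf_map_dvd mk _).trans (orderOf_dvd_of_pow_eq_one (Subtype.ext ?_))
      show (n ^ b) ^ (2 ^ k) = 1
      rw [← pow_mul, mul_comm, ← hkb, pow_orderOf_eq_one]
    · rw [index_eq_card]
      exact orderOf_dvd_natCard _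
  obtain ⟨j, hj⟩ := hb
  have h3 : Commute (n * n) a := mul_inv_eq_iff_eq_mul.1 h2
  have h4 : Commute (n ^ b) a := ha.2 _ hy
  have h5 : n = n ^ b * ((n * n) ^ j)⁻¹ := by
    rw [← pow_two, ← pow_mul, hj, pow_succ', mul_assoc, mul_inv_cancel, mul_one]
  have h6 : Commute n a := h5 ▸ h4.mul_left (h3.pow_left j).inv_left
  rw [h6.eq, mul_inv_cancel_right]

omit hs in
theorem central_four_parts (hD : ∀ d ∈ D₂, d * d = 1) {x : G} (hx : Central (P : Subgroup G) x) :
    x = pr D₂ D₁ x ∨ x = pr D₂ D₁ x * z₁ := by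
  have e := pr_split h.prd hx.1
  rcases h.central_cases hx.1 (fun y hy => (hx.2 y hy).symm) with e1 | e1 <;> rw [e1] at e
  · exact Or.inl (by rw [one_mul] at e; exact e.symm)
  · exact Or.inr (by rw [h.z_central (h.prd.2.1 (pr_mem (prd_symm h.prd) hx.1))]; exact e.symm)

omit hs in
theorem conj_central {n : G} (hn : n ∈ normalizer ((P : Subgroup G) : Set G)) {x : G}
    (hx : Central (P : Subgroup G) x) : Central (P : Subgroup G) (n * x * n⁻¹) := by
  refine ⟨(mem_normalizer_iff.1 hn x).1 hx.1, fun y hy => ?_⟩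
  have hy' : n⁻¹ * y * n ∈ (P : Subgroup G) := by
    have := (mem_normalizer_iff.1 (inv_mem hn) y).1 hy
    rwa [inv_inv] at this
  calc y * (n * x * n⁻¹) = n * (n⁻¹ * y * n * x) * n⁻¹ := by group
    _ = n * (x * (n⁻¹ * y * n)) * n⁻¹ := by rw [hx.2 _ hy']
    _ = n * x * n⁻¹ * y := by group

omit hs in
/-- A 3-cycle on the elementary factor, up to twisting it by `z₁`. -/
theorem exists_tri (hD : ∀ d ∈ D₂, d * d = 1) (hc4 : Nat.card D₂ = 4) (hnm : Normed D₁ C₁ z₁)
    (hperf : _root_.commutator G = ⊤) :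
    ∃ V : Subgroup G, Side (P : Subgroup G) D₁ C₁ z₁ r₁ V ∧ (∀ d ∈ V, d * d = 1) ∧
      ∃ y ∈ normalizer ((P : Subgroup G) : Set G), Odd (orderOf y) ∧ ∃ v₁ v₂, v₁ ≠ 1 ∧ v₂ ≠ 1 ∧ v₁ ≠ v₂ ∧
        (∀ x, x ∈ V ↔ x = 1 ∨ x = v₁ ∨ x = v₂ ∨ x = v₁ * v₂) ∧ y * v₁ * y⁻¹ = v₂ ∧
        y * v₂ * y⁻¹ = v₁ * v₂ ∧ y * (v₁ * v₂) * y⁻¹ = v₁ := by
  haveI : Fact (Nat.Prime 2) := ⟨Nat.prime_two⟩
  have hs : Sec (P : Subgroup G) D₁ D₂ := Or.inr hD
  have hW : ∀ {w}, w ∈ D₂ → InW D₂ w := fun {w} hw => ⟨hw, fun d hd => comm_of_exp_two_mem hD hd hw⟩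
  -- some central element moves
  obtain ⟨y, hy, hyodd, v, hv, hyv⟩ : ∃ y ∈ normalizer ((P : Subgroup G) : Set G), Odd (orderOf y) ∧
      ∃ v ∈ D₂, y * v * y⁻¹ ≠ v := by
    by_contra hall
    push Not at hall
    have hrig : ∀ {a b : G}, Central (P : Subgroup G) a → Central (P : Subgroup G) b →
        (∃ g, g * a * g⁻¹ = b) → a = b := by
      rintro a b ha hb ⟨g, rfl⟩
      refine (eq_of_conj_central P ha (fun n hn hodd => ?_) hb).symm
      have e := pr_split h.prd ha.1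
      have h2 := hall n hn hodd _ (pr_mem (prd_symm h.prd) ha.1)
      rw [← e, show n * (pr D₁ D₂ a * pr D₂ D₁ a) * n⁻¹ =
        (n * pr D₁ D₂ a * n⁻¹) * (n * pr D₂ D₁ a * n⁻¹) by group, h2]
      congr 1
      rcases h.central_cases ha.1 (fun y hy => (ha.2 y hy).symm) with e1 | e1 <;> rw [e1]
      · rw [mul_one, mul_inv_cancel]
      · exact odd_fix_four h hD hn
    have hstep : ∀ E, Good P E → ∀ n ∈ normalizer (E : Set G), ∀ a ∈ E, a⁻¹ * (n⁻¹ * a * n) ∈ D₁ := by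
      intro E hE
      have hto : ∀ {b}, b ∈ (P : Subgroup G) → ∀ {a}, a ∈ (P : Subgroup G) →
          pr D₂ D₁ a = pr D₂ D₁ b → a⁻¹ * b ∈ D₁ := fun {b} hb {a} ha e => by
        have h1 := pr_split h.prd ha
        have h2 := pr_split h.prd hb
        rw [← h1, ← h2, e, show (pr D₁ D₂ a * pr D₂ D₁ b)⁻¹ * (pr D₁ D₂ b * pr D₂ D₁ b) =
          (pr D₂ D₁ b)⁻¹ * ((pr D₁ D₂ a)⁻¹ * pr D₁ D₂ b) * pr D₂ D₁ b by group,
          mul_assoc, prd_comm h.prd (mul_mem (inv_mem (pr_mem h.prd ha)) (pr_mem h.prd hb))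
            (pr_mem (prd_symm h.prd) hb), inv_mul_cancel_left]
        exact mul_mem (inv_mem (pr_mem h.prd ha)) (pr_mem h.prd hb)
      let L : Subgroup G :=
        { carrier := {n | n ∈ normalizer (E : Set G) ∧ ∀ a ∈ E, pr D₂ D₁ (n⁻¹ * a * n) = pr D₂ D₁ a}
          one_mem' := ⟨one_mem _, fun a _ => by simp⟩
          mul_mem' := fun {m n} hm hn => ⟨mul_mem hm.1 hn.1, fun a ha => by
            have ha' : m⁻¹ * a * m ∈ E := by
              have := (mem_normalizer_iff.1 (inv_mem hm.1) a).1 ha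
              rwa [inv_inv] at this
            rw [show (m * n)⁻¹ * a * (m * n) = n⁻¹ * (m⁻¹ * a * m) * n by group, hn.2 _ ha', hm.2 a ha]⟩
          inv_mem' := fun {n} hn => ⟨inv_mem hn.1, fun a ha => by
            have := hn.2 _ ((mem_normalizer_iff.1 hn.1 a).1 ha)
            rw [show n⁻¹ * (n * a * n⁻¹) * n = a by group] at this
            rw [inv_inv, this]⟩ }
      suffices hle : normalizer (E : Set G) ≤ L by
        intro n hn a ha
        have ha' : n⁻¹ * a * n ∈ E := by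
          have := (mem_normalizer_iff.1 (inv_mem hn) a).1 ha
          rwa [inv_inv] at this
        exact hto (hE.1 ha') (hE.1 ha) ((hle hn).2 a ha).symm
      refine good_le P hE (fun n hn hodd => ⟨hn, fun a ha => ?_⟩) fun n hn => ⟨hn.2, fun a ha => ?_⟩
      swap
      · have h1 := pr_conj (prd_symm h.prd) (inv_mem hn.1) (hE.1 ha)
        rw [inv_inv, pr_inv (prd_symm h.prd) hn.1, inv_inv] at h1
        rw [h1, mul_assoc, comm_of_exp_two_mem hD (pr_mem (prd_symm h.prd) (hE.1 ha))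
          (pr_mem (prd_symm h.prd) hn.1), inv_mul_cancel_left]
      have hb : n⁻¹ * a * n ∈ E := by
        have := (mem_normalizer_iff.1 (inv_mem hn) a).1 ha
        rwa [inv_inv] at this
      rcases four_or_wide h hE with ⟨s, hf⟩ | hw
      · obtain ⟨g, hg, hmove⟩ := exists_move h hs hE hf
        obtain ⟨k, hl⟩ := exists_lift h hs hE.1 (box_of_good h hs hE hf) (kind_of_good h hE hs hf) hg hmove
        set c := g * z₁ * g⁻¹
        have hc2 := lift_coord h hs hnm hE.1 hl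
        have hc1 : c = pr D₁ D₂ c := by
          have := pr_split h.prd (hE.1 hl.cE)
          rw [hc2, mul_one] at this
          exact this.symm
        have toc : ∀ e ∈ E, ∃ e₀, Central (P : Subgroup G) e₀ ∧ (∃ q, q * e₀ * q⁻¹ = e) ∧
            pr D₂ D₁ e₀ = pr D₂ D₁ e := by
          intro e he
          set w := pr D₂ D₁ e with hwd
          have hwD := pr_mem (prd_symm h.prd) (hE.1 he)
          have hwc := central_of_inW h (hW hwD)
          have hzw : Central (P : Subgroup G) (w * z₁) := ⟨mul_mem hwc.1 h.zS, fun y hy => by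
            rw [← mul_assoc, hwc.2 y hy, mul_assoc, h.z_central hy, mul_assoc]⟩
          have hw1 : pr D₂ D₁ (w * z₁) = w := by
            rw [h.z_central hwc.1, pr_mul_eq' h.prd h.dih.zD hwD]
          have hsplit := (pr_split h.prd (hE.1 he)).symm
          rw [← hwd] at hsplit
          have hrc : r₁ * c * r₁⁻¹ = c * z₁ := ((h.conj_r (hE.1 hl.cE)).resolve_left fun e' => hl.cC e'.1).2
          have hrw : r₁ * w * r₁⁻¹ = w := by rw [hwc.2 r₁ h.rS, mul_inv_cancel_right]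
          have hpw : pr D₂ D₁ w = w := pr_self (prd_symm h.prd) hwD
          -- the two reflection cases
          have hcw : ∃ e₀, Central (P : Subgroup G) e₀ ∧ (∃ q, q * e₀ * q⁻¹ = c * w) ∧ pr D₂ D₁ e₀ = w := by
            rcases hl.kfix w (hW hwD) with e1 | e1
            · refine ⟨w * z₁, hzw, ⟨k, ?_⟩, hw1⟩
              rw [h.z_central hwc.1, show k * (z₁ * w) * k⁻¹ = (k * z₁ * k⁻¹) * (k * w * k⁻¹) by group, hl.kz, e1]
            · refine ⟨w, hwc, ⟨r₁ * k, ?_⟩, hpw⟩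
              rw [show r₁ * k * w * (r₁ * k)⁻¹ = r₁ * (k * w * k⁻¹) * r₁⁻¹ by group,
                show k * w * k⁻¹ = c * (w * z₁) by
                  rw [← hl.kz, ← e1, show k * z₁ * k⁻¹ * (k * (w * z₁) * k⁻¹) = k * (z₁ * (w * z₁)) * k⁻¹ by group,
                    h.z_central hwc.1, ← mul_assoc z₁ z₁ w, h.dih.z2, one_mul],
                show r₁ * (c * (w * z₁)) * r₁⁻¹ = (r₁ * c * r₁⁻¹) * ((r₁ * w * r₁⁻¹) * (r₁ * z₁ * r₁⁻¹)) by group,
                hrc, hrw, h.dih.comm_r h.dih.zC, h.z_central hwc.1, mul_assoc, ← mul_assoc z₁ z₁ w, h.dih.z2,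
                one_mul]
          have hczw : ∃ e₀, Central (P : Subgroup G) e₀ ∧ (∃ q, q * e₀ * q⁻¹ = c * z₁ * w) ∧
              pr D₂ D₁ e₀ = w := by
            obtain ⟨e₀, h0, ⟨q, hq⟩, h1⟩ := hcw
            refine ⟨e₀, h0, ⟨r₁ * q, ?_⟩, h1⟩
            rw [show r₁ * q * e₀ * (r₁ * q)⁻¹ = r₁ * (q * e₀ * q⁻¹) * r₁⁻¹ by group, hq,
              show r₁ * (c * w) * r₁⁻¹ = (r₁ * c * r₁⁻¹) * (r₁ * w * r₁⁻¹) by group, hrc, hrw]
          rcases hf.cases e he with e1 | e1 | e1 | e1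
          · exact ⟨w, hwc, ⟨1, by rw [hsplit, e1]; group⟩, hpw⟩
          · exact ⟨w * z₁, hzw, ⟨1, by rw [hsplit, e1, one_mul, inv_one, mul_one]; exact h.z_central hwc.1⟩, hw1⟩
          all_goals
            rcases hf.cases c hl.cE with e2 | e2 | e2 | e2
            · exact absurd (e2 ▸ one_mem C₁) hl.cC
            · exact absurd (e2 ▸ h.dih.zC) hl.cC
            all_goals rw [hsplit, e1]
          · rwa [← e2, ← hc1]
          · rwa [hc1, e2, mul_assoc s z₁ z₁, h.dih.z2, mul_one] at hczw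
          · rwa [← e2, ← hc1]
          · rwa [hc1, e2] at hcw
        obtain ⟨a₀, ha0, ⟨q, hq⟩, hpa⟩ := toc a ha
        obtain ⟨b₀, hb0, ⟨q', hq'⟩, hpb⟩ := toc _ hb
        have : a₀ = b₀ := hrig ha0 hb0 ⟨q'⁻¹ * n⁻¹ * q, by
          rw [show q'⁻¹ * n⁻¹ * q * a₀ * (q'⁻¹ * n⁻¹ * q)⁻¹ = q'⁻¹ * (n⁻¹ * (q * a₀ * q⁻¹) * n) * q' by group,
            hq, ← hq']
          group⟩
        rw [← hpb, ← this, hpa]
      · rcases wide_cases h hs hE hw with hpart | ⟨C', z', r', h', -⟩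
        · have hfix : n⁻¹ ∈ centralizer (cen E : Set G) := mem_centralizer_iff.2 fun x hx => by
            have hxc : Central (P : Subgroup G) x := central_of_parts h (hE.1 hx.1)
              ((mem_cen_iff h hE hw hpart).1 hx).2 (hW (pr_mem (prd_symm h.prd) (hE.1 hx.1)))
            have hx' := (mem_normalizer_iff.1 (normalizer_le_cen E (inv_mem hn)) x).1 hx
            have hxc' : Central (P : Subgroup G) (n⁻¹ * x * n⁻¹⁻¹) := central_of_parts h (hE.1 hx'.1)
              ((mem_cen_iff h hE hw hpart).1 hx').2 (hW (pr_mem (prd_symm h.prd) (hE.1 hx'.1)))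
            have := hrig hxc hxc' ⟨n⁻¹, rfl⟩
            exact (mul_inv_eq_iff_eq_mul.1 this.symm).symm
          have := centralize_of_cen h hE hw hpart (inv_mem hn) (by rwa [orderOf_inv]) hfix ha
          rw [inv_inv] at this
          rw [this]
        · exact absurd (hD r' h'.dih.rD) h'.dih.rr_ne
    have h1 := commutator_inf_le P D₁ hstep
    rw [hperf, top_inf_eq] at h1
    obtain ⟨v, hv, hv1⟩ : ∃ v ∈ D₂, v ≠ 1 := by
      by_contra hall'
      push Not at hall'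
      have e : D₂ = ⊥ := eq_bot_iff.2 fun x hx => mem_bot.2 (hall' x hx)
      rw [e, card_bot] at hc4
      omega
    exact hv1 (by
      have hv2 := pr_self (prd_symm h.prd) hv
      rwa [pr_other (prd_symm h.prd) (h1 (h.prd.2.1 hv)), eq_comm] at hv2)
  have hyz : y * z₁ * y⁻¹ = z₁ := odd_fix_four h hD hy
  have hvc := central_of_inW h (hW hv)
  have hv'c := conj_central h hy hvc
  have hv''c := conj_central h hy hv'c
  set a := pr D₂ D₁ (y * v * y⁻¹) with ha
  set b := pr D₂ D₁ (y * (y * v * y⁻¹) * y⁻¹) with hb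
  have haD : a ∈ D₂ := pr_mem (prd_symm h.prd) hv'c.1
  have hbD : b ∈ D₂ := pr_mem (prd_symm h.prd) hv''c.1
  have hv1 : v ≠ 1 := fun e => hyv (by rw [e, mul_one, mul_inv_cancel])
  have hfix2 : ∀ {m : G}, m ∈ normalizer ((P : Subgroup G) : Set G) → m * z₁ * m⁻¹ = z₁ → ∀ {x},
      Central (P : Subgroup G) x → (m * x * m⁻¹ = x ∨ m * x * m⁻¹ = x * z₁) → m * x * m⁻¹ = x := by
    intro m hm hmz x hx he
    refine fix_of_sq h hm hx ?_
    rw [show m * m * x * (m * m)⁻¹ = m * (m * x * m⁻¹) * m⁻¹ by group]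
    rcases he with e | e
    · rw [e, e]
    · rw [e, show m * (x * z₁) * m⁻¹ = m * x * m⁻¹ * (m * z₁ * m⁻¹) by group, e, hmz, mul_assoc, h.dih.z2,
        mul_one]
  have hav : a ≠ v := fun e => hyv (hfix2 hy hyz hvc (by
    rcases central_four_parts h hD hv'c with e1 | e1 <;> rw [← ha, e] at e1
    · exact Or.inl e1
    · exact Or.inr e1))
  have hpr_z : ∀ {x}, x ∈ D₂ → pr D₂ D₁ (x * z₁) = x := fun {x} hx => by
    rw [h.z_central (h.prd.2.1 hx), pr_mul_eq' h.prd h.dih.zD hx]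
  have ha1 : a ≠ 1 := fun e => by
    rcases central_four_parts h hD hv'c with e1 | e1 <;> rw [← ha, e] at e1
    · exact hv1 (conj_eq_one_iff.1 e1)
    · rw [one_mul] at e1
      have e2 : v = z₁ := mul_left_cancel (mul_right_cancel (e1.trans hyz.symm))
      rw [e2] at hv
      exact h.dih.z1 (by rw [← pr_self h.prd h.dih.zD, pr_other h.prd hv])
  have hcases : ∀ x ∈ D₂, x = 1 ∨ x = v ∨ x = a ∨ x = v * a := by
    classical
    haveI : Fintype D₂ := Fintype.ofFinite _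
    intro x hx
    by_contra hne
    push Not at hne
    obtain ⟨n1, n2, n3, n4⟩ := hne
    have h5 : ({1, ⟨v, hv⟩, ⟨a, haD⟩, ⟨v * a, mul_mem hv haD⟩, ⟨x, hx⟩} : Finset D₂).card = 5 := by
      have d1 : v * a ≠ 1 := fun e => hav (by
        rw [← inv_eq_of_mul_eq_one_right e, inv_eq_of_mul_eq_one_right (hD v hv)])
      have d2 : v * a ≠ v := fun e => ha1 (mul_eq_left.1 e)
      have d3 : v * a ≠ a := fun e => hv1 (mul_eq_right.1 e)
      simp [Subtype.ext_iff, hv1.symm, ha1.symm, d1.symm, hav.symm, d2.symm, d3.symm, n1.symm, n2.symm,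
        n3.symm, n4.symm]
    have := Finset.card_le_univ ({1, ⟨v, hv⟩, ⟨a, haD⟩, ⟨v * a, mul_mem hv haD⟩, ⟨x, hx⟩} : Finset D₂)
    rw [h5, ← Nat.card_eq_fintype_card, hc4] at this
    omega
  have hbva : b = v * a := by
    rcases hcases b hbD with e | e | e | e
    · exfalso
      rcases central_four_parts h hD hv''c with e1 | e1 <;> rw [← hb, e] at e1
      · exact hv1 (conj_eq_one_iff.1 (conj_eq_one_iff.1 e1))
      · rw [one_mul] at e1
        have e2 := mul_left_cancel (mul_right_cancel (e1.trans hyz.symm))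
        have e3 : v = z₁ := mul_left_cancel (mul_right_cancel (e2.trans hyz.symm))
        rw [e3] at hv
        exact h.dih.z1 (by rw [← pr_self h.prd h.dih.zD, pr_other h.prd hv])
    · exfalso
      have hy2 := hfix2 (mul_mem hy hy) (by
        rw [show y * y * z₁ * (y * y)⁻¹ = y * (y * z₁ * y⁻¹) * y⁻¹ by group, hyz, hyz]) hvc (by
        rw [show y * y * v * (y * y)⁻¹ = y * (y * v * y⁻¹) * y⁻¹ by group]
        rcases central_four_parts h hD hv''c with e1 | e1 <;> rw [← hb, e] at e1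
        · exact Or.inl e1
        · exact Or.inr e1)
      exact hyv (fix_of_sq h hy hvc hy2)
    · exfalso
      have h1 : y * (y * v * y⁻¹) * y⁻¹ = y * v * y⁻¹ := by
        refine hfix2 hy hyz hv'c ?_
        rcases central_four_parts h hD hv''c with e1 | e1 <;> rcases central_four_parts h hD hv'c with e2 | e2 <;>
          rw [← hb, e] at e1 <;> rw [← ha] at e2
        · exact Or.inl (e1.trans e2.symm)
        · exact Or.inr (by rw [e1, e2, mul_assoc, h.dih.z2, mul_one])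
        · exact Or.inr (by rw [e1, e2])
        · exact Or.inl (e1.trans e2.symm)
      exact hyv (mul_left_cancel (mul_right_cancel h1))
    · exact e
  -- the complement without fixed points
  set T := v * (y * v * y⁻¹) * (y * (y * v * y⁻¹) * y⁻¹) with hT
  have hTP : T ∈ (P : Subgroup G) := mul_mem (mul_mem hvc.1 hv'c.1) hv''c.1
  have hT2 : pr D₂ D₁ T = 1 := by
    rw [hT, pr_mul (prd_symm h.prd) (mul_mem hvc.1 hv'c.1) hv''c.1, pr_mul (prd_symm h.prd) hvc.1 hv'c.1,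
      pr_self (prd_symm h.prd) hv, ← ha, ← hb, hbva]
    exact hD _ (mul_mem hv haD)
  have hTc : Central (P : Subgroup G) T := ⟨hTP, fun x hx =>
    (((show Commute x v from hvc.2 x hx).mul_right (hv'c.2 x hx)).mul_right (hv''c.2 x hx)).eq⟩
  have hTz : T = 1 ∨ T = z₁ := by
    rcases central_four_parts h hD hTc with e | e <;> rw [hT2] at e
    · exact Or.inl e
    · exact Or.inr (e.trans (one_mul _))
  have hT22 : T * T = 1 := by rcases hTz with e | e <;> rw [e]; exacts [one_mul 1, h.dih.z2]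
  have hTfix : y * T * y⁻¹ = T := by rcases hTz with e | e <;> rw [e]; exacts [by group, hyz]
  have hTD : T ∈ D₁ := by rcases hTz with e | e <;> rw [e]; exacts [one_mem _, h.dih.zD]
  set v₁ := v * T with hv₁
  set v₂ := y * v * y⁻¹ * T with hv₂
  have hyv1 : y * v₁ * y⁻¹ = v₂ := by
    rw [hv₁, hv₂, show y * (v * T) * y⁻¹ = y * v * y⁻¹ * (y * T * y⁻¹) by group, hTfix]
  have h3 : v₁ * v₂ = y * (y * v * y⁻¹) * y⁻¹ * T := by
    have hb2 : y * (y * v * y⁻¹) * y⁻¹ * (y * (y * v * y⁻¹) * y⁻¹) = 1 := by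
      rw [show y * (y * v * y⁻¹) * y⁻¹ * (y * (y * v * y⁻¹) * y⁻¹) = y * (y * (v * v) * y⁻¹) * y⁻¹ by group,
        hD v hv]
      group
    calc v₁ * v₂ = v * (y * v * y⁻¹) * (T * T) :=
          (show Commute T (y * v * y⁻¹) from (hTc.2 _ hv'c.1).symm).mul_mul_mul_comm _ _
      _ = v * (y * v * y⁻¹) * (y * (y * v * y⁻¹) * y⁻¹ * (y * (y * v * y⁻¹) * y⁻¹)) := by rw [hT22, hb2]
      _ = T * (y * (y * v * y⁻¹) * y⁻¹) := (mul_assoc _ _ _).symm
      _ = y * (y * v * y⁻¹) * y⁻¹ * T := (hTc.2 _ hv''c.1).symm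
  have hyv2 : y * v₂ * y⁻¹ = v₁ * v₂ := by
    rw [h3, hv₂, show y * (y * v * y⁻¹ * T) * y⁻¹ = y * (y * v * y⁻¹) * y⁻¹ * (y * T * y⁻¹) by group, hTfix]
  have hv11 : v₁ * v₁ = 1 := by
    rw [hv₁, (show Commute T v from hvc.2 T hTP).mul_mul_mul_comm, hD v hv, hT22, one_mul]
  have hv22 : v₂ * v₂ = 1 := by
    rw [← hyv1, show y * v₁ * y⁻¹ * (y * v₁ * y⁻¹) = y * (v₁ * v₁) * y⁻¹ by group, hv11, mul_one, mul_inv_cancel]
  have hcc : ∀ x ∈ (P : Subgroup G), x * v₁ = v₁ * x ∧ x * v₂ = v₂ * x := fun x hx =>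
    ⟨((show Commute x v from hvc.2 x hx).mul_right (hTc.2 x hx)).eq,
      ((show Commute x (y * v * y⁻¹) from hv'c.2 x hx).mul_right (hTc.2 x hx)).eq⟩
  have hv1P : v₁ ∈ (P : Subgroup G) := mul_mem hvc.1 hTP
  have hv2P : v₂ ∈ (P : Subgroup G) := mul_mem hv'c.1 hTP
  have h12 : v₁ * v₂ = v₂ * v₁ := (hcc v₁ hv1P).2
  have hyv3 : y * (v₁ * v₂) * y⁻¹ = v₁ := by
    rw [show y * (v₁ * v₂) * y⁻¹ = y * v₁ * y⁻¹ * (y * v₂ * y⁻¹) by group, hyv1, hyv2, h12, ← mul_assoc, hv22,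
      one_mul]
  have hp1 : pr D₂ D₁ v₁ = v := by
    rw [hv₁, hvc.2 T hTP |>.symm, pr_mul_eq' h.prd hTD hv]
  have hp2 : pr D₂ D₁ v₂ = a := by
    rw [hv₂, pr_mul (prd_symm h.prd) hv'c.1 hTP, ← ha, hT2, mul_one]
  have hp3 : pr D₂ D₁ (v₁ * v₂) = v * a := by rw [pr_mul (prd_symm h.prd) hv1P hv2P, hp1, hp2]
  have hpone : pr D₂ D₁ (1 : G) = 1 := pr_other (prd_symm h.prd) (one_mem _)
  let V : Subgroup G :=
    { carrier := {x | x = 1 ∨ x = v₁ ∨ x = v₂ ∨ x = v₁ * v₂}
      one_mem' := Or.inl rfl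
      mul_mem' := fun {p q} hp hq => by
        have e1 : ∀ x, v₁ * (v₁ * x) = x := fun x => by rw [← mul_assoc, hv11, one_mul]
        have e2 : ∀ x, v₂ * (v₂ * x) = x := fun x => by rw [← mul_assoc, hv22, one_mul]
        have e3 : ∀ x, v₂ * (v₁ * x) = v₁ * (v₂ * x) := fun x => by rw [← mul_assoc, ← h12, mul_assoc]
        show _ ∨ _ ∨ _ ∨ _
        rcases hp with rfl | rfl | rfl | rfl <;> rcases hq with rfl | rfl | rfl | rfl <;>
          simp only [one_mul, mul_one, mul_assoc, hv11, hv22, e1, e2, e3, h12.symm, true_or, or_true]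
      inv_mem' := fun {p} hp => by
        show _ ∨ _ ∨ _ ∨ _
        have i12 : (v₁ * v₂)⁻¹ = v₁ * v₂ := by
          rw [mul_inv_rev, inv_eq_of_mul_eq_one_right hv11, inv_eq_of_mul_eq_one_right hv22, h12]
        rcases hp with rfl | rfl | rfl | rfl <;>
          simp only [inv_one, inv_eq_of_mul_eq_one_right hv11, inv_eq_of_mul_eq_one_right hv22, i12, true_or,
            or_true] }
  have hVm : ∀ x, x ∈ V ↔ x = 1 ∨ x = v₁ ∨ x = v₂ ∨ x = v₁ * v₂ := fun x => Iff.rfl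
  have hVP : V ≤ (P : Subgroup G) := fun x hx => by
    rcases hx with rfl | rfl | rfl | rfl
    exacts [one_mem _, hv1P, hv2P, mul_mem hv1P hv2P]
  have hva1 : v * a ≠ 1 := fun e => hav (by
    rw [← inv_eq_of_mul_eq_one_right e, inv_eq_of_mul_eq_one_right (hD v hv)])
  have hp : Cfsg.IsInternalDirectProduct D₁ V (P : Subgroup G) := by
    refine ⟨h.prd.1, hVP, fun p hp q hq => ?_, eq_bot_iff.2 fun x ⟨hx1, hx2⟩ => mem_bot.2 ?_, ?_⟩
    · rcases hq with rfl | rfl | rfl | rfl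
      · rw [one_mul, mul_one]
      · exact (hcc p (h.prd.1 hp)).1
      · exact (hcc p (h.prd.1 hp)).2
      · exact ((show Commute p v₁ from (hcc p (h.prd.1 hp)).1).mul_right (hcc p (h.prd.1 hp)).2).eq
    · have := pr_other (prd_symm h.prd) hx1
      rcases hx2 with rfl | rfl | rfl | rfl
      · rfl
      · exact absurd (hp1 ▸ this) hv1
      · exact absurd (hp2 ▸ this) ha1
      · exact absurd (hp3 ▸ this) hva1
    · refine le_antisymm (sup_le h.prd.1 hVP) ?_
      rw [← h.prd.2.2.2.2]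
      refine sup_le le_sup_left fun x hx => ?_
      have hvmem : v ∈ D₁ ⊔ V := by
        rw [show v = v₁ * T⁻¹ by rw [hv₁, mul_inv_cancel_right]]
        exact mul_mem (mem_sup_right (Or.inr (Or.inl rfl))) (mem_sup_left (inv_mem hTD))
      have hamem : a ∈ D₁ ⊔ V := by
        have h2 : v₂ ∈ D₁ ⊔ V := mem_sup_right (Or.inr (Or.inr (Or.inl rfl)))
        have := pr_split h.prd hv2P
        rw [hp2] at this
        rw [eq_inv_mul_of_mul_eq this]
        exact mul_mem (mem_sup_left (inv_mem (pr_mem h.prd hv2P))) h2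
      rcases hcases x hx with rfl | rfl | rfl | rfl
      exacts [one_mem _, hvmem, hamem, mul_mem hvmem hamem]
  refine ⟨V, ⟨hp, h.dih⟩, fun d hd => ?_, y, hy, hyodd, v₁, v₂, fun e => hv1 (by rw [← hp1, e, hpone]),
    fun e => ha1 (by rw [← hp2, e, hpone]), fun e => hav (by rw [← hp1, ← hp2, e]), hVm, hyv1, hyv2, hyv3⟩
  rcases hd with rfl | rfl | rfl | rfl
  exacts [one_mul 1, hv11, hv22, by
    rw [(show Commute v₂ v₁ from h12.symm).mul_mul_mul_comm, hv11, hv22, one_mul]]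

end CfsgLib.DDProd
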