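import Cfsg.Agent.Lib.DDProd.Frame

/-!
# Two dihedral factors of order at least eight
-/

set_option autoImplicit false
set_option linter.unusedSectionVars false
set_option linter.style.haveILetI false

open Subgroup

namespace CfsgLib.DDProd

open CfsgLib.Fusion.Goldschmidt

universe u

variable {G : Type u} [Group G] [Finite G] {P : Sylow 2 G} {D₁ C₁ D₂ C₂ : Subgroup G} {z₁ r₁ z₂ r₂ : G}
  (h : Side (P : Subgroup G) D₁ C₁ z₁ r₁ D₂) (h₂ : Side (P : Subgroup G) D₂ C₂ z₂ r₂ D₁)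

include h h₂

/-- When `z₂` is central in the group, `z₁` moves in every `F(s) × F(t)` of a suitable `s` in a fused class. -/
theorem exists_four_move (hz : ∀ g : G, g * z₂ * g⁻¹ = z₂) {x c k : G} (hx : x ∈ D₁) (hxC : x ∉ C₁)
    (hcD : c ∈ D₁) (hcC : c ∉ C₁) (hsq : x * c ∈ sqSet C₁) (hk : k * z₁ * k⁻¹ = c) :
    ∃ s, s ∈ D₁ ∧ s ∉ C₁ ∧ x * s ∈ sqSet C₁ ∧ ∀ t ∈ D₂, t ∉ C₂ → ∃ g, g * z₁ * g⁻¹ ≠ z₁ ∧
      ∀ y, MemFour (P : Subgroup G) D₁ D₂ z₁ z₂ s t y →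
        MemFour (P : Subgroup G) D₁ D₂ z₁ z₂ s t (g * y * g⁻¹) := by
  have hs : Sec (P : Subgroup G) D₁ D₂ := Or.inl ⟨C₂, z₂, r₂, h₂⟩
  obtain ⟨E, hE, s, hf, hxs⟩ := exists_four_of_fused h hs hx hxC (a := z₁) (g := k⁻¹) h.zS
    (by rw [inv_inv, hk]; exact h.prd.1 hcD) (fun hmem => by
      rw [inv_inv, hk, h.dih.z_inv] at hmem
      have hav := hmem.2
      unfold Avoid at hav
      rw [pr_self h.prd (mul_mem h.dih.zD hcD)] at hav
      rcases hav with ⟨a1, -⟩ | ⟨-, a2⟩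
      · exact h.dih.toDih.notMem_mul hcC h.dih.zC a1
      · refine a2 ?_
        rw [← mul_assoc, h.dih.central hx, mul_assoc]
        exact h.dih.toDih.sq_mul h.dih.z_mem_sq hsq)
  refine ⟨s, hf.sD, hf.sC, hxs, fun t ht htC => ?_⟩
  have hb := box_of_good h hs hE hf
  rcases four_or_wide h₂ hE with ⟨t', ht'⟩ | hw₂
  · obtain ⟨g, -, hg⟩ := exists_move h₂ (Or.inl ⟨C₁, z₁, r₁, h⟩) hE ht'
    exact absurd (hz g) hg
  have hp := partFour_of_box h h₂ hb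
  obtain ⟨g, hg, hodd, hgm⟩ : ∃ g ∈ normalizer (E : Set G), Odd (orderOf g) ∧ g * z₁ * g⁻¹ ≠ z₁ := by
    by_contra hall
    push Not at hall
    obtain ⟨g, hg, hgm⟩ := exists_move h hs hE hf
    refine hgm ?_
    have hle : normalizer (E : Set G) ≤ centralizer {z₁} := good_le P hE
      (fun m hm hm2 => mem_centralizer_singleton_iff.2 (mul_inv_eq_iff_eq_mul.1 (hall m hm hm2)))
      (fun m hm => mem_centralizer_singleton_iff.2 (h.z_central hm.1))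
    rw [mem_centralizer_singleton_iff.1 (hle hg), mul_inv_cancel_right]
  refine ⟨g, hgm, fun y hy => ?_⟩
  have hcen : ∀ {b}, b ∈ cen E → MemFour (P : Subgroup G) D₁ D₂ z₁ z₂ s t b := fun {b} hb' => by
    refine ⟨hE.1 hb'.1, hf.cases b hb'.1, ?_⟩
    rcases ((mem_cen_iff h₂ hE hw₂ hp).1 hb').2 with e | e
    · exact Or.inl e
    · exact Or.inr (Or.inl e)
  have h1E : pr D₁ D₂ y ∈ E := by
    rcases hy.2.1 with e | e | e | e <;> rw [e]
    exacts [one_mem E, hb.zE, hb.sE, mul_mem hb.sE hb.zE]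
  have h2E : pr D₂ D₁ y ∈ E := wide_full h₂ hE hw₂ hp (pr_mem h₂.prd hy.1)
  have h1c : pr D₁ D₂ y ∈ cen E :=
    (mem_cen_iff h₂ hE hw₂ hp).2 ⟨h1E, Or.inl (pr_other h₂.prd (pr_mem h.prd hy.1))⟩
  have hd := comm_mem_cen h₂ hE hw₂ hp hg hodd h2E
  have e : g * y * g⁻¹ =
      g * pr D₁ D₂ y * g⁻¹ * (g * pr D₂ D₁ y * g⁻¹ * (pr D₂ D₁ y)⁻¹ * pr D₂ D₁ y) := by
    conv_lhs => rw [← pr_split h.prd hy.1]
    group
  rw [e]
  exact memFour_mul h h₂ hf.sD hf.sC ht htC (hcen ((mem_normalizer_iff.1 (normalizer_le_cen E hg) _).1 h1c))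
    (memFour_mul h h₂ hf.sD hf.sC ht htC (hcen hd)
      (memFour_of_right h h₂ (pr_mem h₂.prd hy.1) hy.2.2))

/-- A lift fixing the other central involution. -/
theorem exists_fix_lift (hperf : _root_.commutator G = ⊤) (hn : Normed D₁ C₁ z₁) {E : Subgroup G}
    (hE : Good P E) {s : G} (hf : IsFour E D₁ C₁ z₁ D₂ s) :
    ∃ k, (k * z₁ * k⁻¹ = s ∨ k * z₁ * k⁻¹ = s * z₁) ∧ k * z₂ * k⁻¹ = z₂ := by
  have hs : Sec (P : Subgroup G) D₁ D₂ := Or.inl ⟨C₂, z₂, r₂, h₂⟩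
  have hb := box_of_good h hs hE hf
  have hk := kind_of_good h hE hs hf
  obtain ⟨g, hg, hgm⟩ := exists_move h hs hE hf
  obtain ⟨k, hl⟩ := exists_lift h hs hE.1 hb hk hg hgm
  have hcD := mem_of_conj h hs hperf hn rfl (hE.1 hl.cE) hl.cW
  have hca := hf.cases _ hl.cE
  rw [pr_self h.prd hcD] at hca
  refine ⟨k, ?_, ?_⟩
  · rcases hca with e | e | e | e
    · exact absurd (conj_eq_one_iff.1 e) h.dih.z1
    · exact absurd e hgm
    · exact Or.inl (hl.kz.trans e)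
    · exact Or.inr (hl.kz.trans e)
  rcases hl.kfix z₂ (inW_z h h₂) with e | e
  · exact e
  exfalso
  rcases four_or_wide h₂ hE with ⟨t, ht⟩ | hw₂
  swap
  · have e2 := z_fix h₂ hE hw₂ (partFour_of_box h h₂ hb) hl.kN
    have e3 : k * z₁ * k⁻¹ = z₁ := by
      calc k * z₁ * k⁻¹ = (k * z₂ * k⁻¹)⁻¹ * (k * (z₂ * z₁) * k⁻¹) := by group
        _ = z₁ := by rw [e2, e, inv_mul_cancel_left]
    exact hgm (hl.kz.symm.trans e3)
  have hs₂ : Sec (P : Subgroup G) D₂ D₁ := Or.inl ⟨C₁, z₁, r₁, h⟩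
  have hW := conj_inW h₂ hs₂ hE.1 (box_of_good h₂ hs₂ hE ht) (kind_of_good h₂ hE hs₂ ht) hl.kN
  set c := g * z₁ * g⁻¹ with hc
  have hcinv : c⁻¹ = c := by rw [hc, mul_inv_rev, mul_inv_rev, inv_inv, h.dih.z_inv, mul_assoc]
  have e2 : k * z₂ * k⁻¹ = z₁ * c * z₂ := by
    calc k * z₂ * k⁻¹ = k * (z₂ * z₁) * k⁻¹ * (k * z₁ * k⁻¹)⁻¹ := by group
      _ = z₂ * z₁ * c := by rw [e, hl.kz, hcinv]
      _ = z₁ * c * z₂ := by rw [mul_assoc, prd_comm h.prd (mul_mem h.dih.zD hcD) h₂.dih.zD]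
  rw [e2, pr_mul_eq h.prd (mul_mem h.dih.zD hcD) h₂.dih.zD] at hW
  rcases inW_cases h₂ h hW with e3 | e3
  · exact hl.cC (by
      rw [pr_self h.prd hcD, show c = z₁⁻¹ * (z₁ * c) by group, e3, mul_one]
      exact inv_mem h.dih.zC)
  · exact hl.cC (by rw [pr_self h.prd hcD, mul_eq_left.1 e3]; exact one_mem _)

/-- Operators keep second coordinates central. -/
theorem inW_two (hperf : _root_.commutator G = ⊤) (hn : Normed D₁ C₁ z₁) (E : Subgroup G) (hE : Good P E)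
    (g : G) (hg : g ∈ normalizer (E : Set G)) (hodd : Odd (orderOf g)) (a : G) (haE : a ∈ E) (ha : a ∈ D₁)
    (haC : a ∉ C₁ ∨ a = z₁) : InW D₂ (pr D₂ D₁ (g * a * g⁻¹)) := by
  have hs : Sec (P : Subgroup G) D₁ D₂ := Or.inl ⟨C₂, z₂, r₂, h₂⟩
  have hone : InW D₂ (1 : G) := ⟨one_mem _, fun d _ => by rw [one_mul, mul_one]⟩
  rcases four_or_wide h hE with ⟨s, hf⟩ | hw
  · exact four_inv h hs hperf hn hE.1 (box_of_good h hs hE hf) (kind_of_good h hE hs hf)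
      (exists_move h hs hE hf) ha haE hg
  rcases four_or_wide h₂ hE with ⟨t, ht⟩ | hw₂
  swap
  · rw [wide_wide h h₂ hE hw hw₂ hg hodd haE, pr_other (prd_symm h.prd) ha]
    exact hone
  have hp := partFour_of_box h₂ h (box_of_good h₂ (Or.inl ⟨C₁, z₁, r₁, h⟩) hE ht)
  rcases haC with haC | rfl
  swap
  · rw [z_fix h hE hw hp hg, pr_other (prd_symm h.prd) ha]
    exact hone
  -- a move in `F(a) × F(t)`
  obtain ⟨E', hE', s', hf', hsq'⟩ := exists_four_of_perfect h hs hperf ha haC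
  obtain ⟨k, hk, hkz⟩ := exists_fix_lift h h₂ hperf hn hE' hf'
  set K := centralizer ({z₂} : Set G) with hK
  have hPK : (P : Subgroup G) ≤ K := fun y hy => mem_centralizer_singleton_iff.2 (h₂.z_central hy)
  have hkK : k ∈ K := mem_centralizer_singleton_iff.2 (mul_inv_eq_iff_eq_mul.1 hkz)
  have hK1 : Side ((P.subtype hPK : Sylow 2 K) : Subgroup K) (D₁.subgroupOf K) (C₁.subgroupOf K)
      ⟨z₁, hPK h.zS⟩ ⟨r₁, hPK h.rS⟩ (D₂.subgroupOf K) := by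
    rw [Sylow.coe_subtype]; exact h.restrict hPK
  have hK2 : Side ((P.subtype hPK : Sylow 2 K) : Subgroup K) (D₂.subgroupOf K) (C₂.subgroupOf K)
      ⟨z₂, hPK h₂.zS⟩ ⟨r₂, hPK h₂.rS⟩ (D₁.subgroupOf K) := by
    rw [Sylow.coe_subtype]; exact h₂.restrict hPK
  obtain ⟨c, hcD, hcC, hsqc, hkc⟩ : ∃ c, c ∈ D₁ ∧ c ∉ C₁ ∧ a * c ∈ sqSet C₁ ∧ k * z₁ * k⁻¹ = c := by
    rcases hk with e | e
    · exact ⟨s', hf'.sD, hf'.sC, hsq', e⟩
    · exact ⟨s' * z₁, mul_mem hf'.sD h.dih.zD, h.dih.toDih.mul_notMem hf'.sC h.dih.zC,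
        by rw [← mul_assoc]; exact h.dih.toDih.sq_mul hsq' h.dih.z_mem_sq, e⟩
  obtain ⟨s, hsD, hsC, hsq, hmv⟩ := exists_four_move hK1 hK2
    (fun q => Subtype.ext (by
      show (q : G) * z₂ * (q : G)⁻¹ = z₂
      rw [mem_centralizer_singleton_iff.1 q.2, mul_inv_cancel_right]))
    (x := ⟨a, hPK (h.prd.1 ha)⟩) (c := ⟨c, hPK (h.prd.1 hcD)⟩) (k := ⟨k, hkK⟩) (mem_subgroupOf.2 ha)
    (fun e => haC (mem_subgroupOf.1 e)) (mem_subgroupOf.2 hcD) (fun e => hcC (mem_subgroupOf.1 e))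
    (by
      obtain ⟨v, hv, e⟩ := hsqc
      exact ⟨⟨v, hPK (h.prd.1 (h.dih.le hv))⟩, mem_subgroupOf.2 hv, Subtype.ext e⟩)
    (Subtype.ext hkc)
  obtain ⟨g₀, hg₀, hmem⟩ := hmv ⟨t, hPK (h₂.prd.1 ht.sD)⟩ (mem_subgroupOf.2 ht.sD)
    (fun e => ht.sC (mem_subgroupOf.1 e))
  obtain ⟨v, hv, e⟩ : (s : G) * a ∈ sqSet C₁ := by
    obtain ⟨v, hv, e⟩ := hsq
    have e' : (v : G) * v = a * s := congrArg Subtype.val e
    have := h.dih.toDih.sq_inv (a := a * s) ⟨v, mem_subgroupOf.1 hv, e'⟩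
    rwa [mul_inv_rev, h.dih.toDih.inv_out ha haC,
      h.dih.toDih.inv_out (mem_subgroupOf.1 hsD) (fun e => hsC (mem_subgroupOf.2 e))] at this
  have hsD' : (s : G) ∈ D₁ := mem_subgroupOf.1 hsD
  have hsC' : (s : G) ∉ C₁ := fun e => hsC (mem_subgroupOf.2 e)
  have hconj : v⁻¹ * (s : G) * v = a := by
    rw [h.dih.toDih.exists_conj hsD' hsC' hv, e, ← mul_assoc, h.dih.out _ hsD' hsC', one_mul]
  have hvD := h.dih.le hv
  have hvz : v⁻¹ * z₁ * v = z₁ := by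
    rw [h.dih.central (inv_mem hvD), inv_mul_cancel_right]
  have hvP := h.prd.1 hvD
  have hvz' : v * z₁ * v⁻¹ = z₁ := by rw [h.dih.central hvD, mul_inv_cancel_right]
  have hto : ∀ {q y s₀ : G}, q ∈ D₁ → MemFour (P : Subgroup G) D₁ D₂ z₁ z₂ s₀ t y → q * z₁ * q⁻¹ = z₁ →
      MemFour (P : Subgroup G) D₁ D₂ z₁ z₂ (q * s₀ * q⁻¹) t (q * y * q⁻¹) := by
    intro q y s₀ hq hy hqz
    refine ⟨mul_mem (mul_mem (h.prd.1 hq) hy.1) (inv_mem (h.prd.1 hq)), ?_, ?_⟩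
    · rw [pr_conj h.prd (h.prd.1 hq) hy.1, pr_self h.prd hq]
      have := hy.2.1.conj q
      rwa [hqz] at this
    · rw [pr_conj h₂.prd (h.prd.1 hq) hy.1, pr_other h₂.prd hq, one_mul, inv_one, mul_one]
      exact hy.2.2
  set A := fourSub h h₂ ha haC ht.sD ht.sC with hA
  have hg0A : v⁻¹ * (g₀ : G) * v ∈ normalizer (A : Set G) := mem_normalizer_of_conj fun y hy => by
    have hy1 := hto hvD hy hvz'
    rw [show v * a * v⁻¹ = (s : G) by rw [← hconj]; group] at hy1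
    have hyK : MemFour ((P.subtype hPK : Sylow 2 K) : Subgroup K) (D₁.subgroupOf K) (D₂.subgroupOf K)
        ⟨z₁, hPK h.zS⟩ ⟨z₂, hPK h₂.zS⟩ s ⟨t, hPK (h₂.prd.1 ht.sD)⟩ ⟨v * y * v⁻¹, hPK hy1.1⟩ := by
      refine ⟨by rw [Sylow.coe_subtype]; exact mem_subgroupOf.2 hy1.1, ?_, ?_⟩
      · have := hy1.2.1
        unfold InFour at this ⊢
        simpa only [Subtype.ext_iff, coe_one, coe_mul, pr_restrict h.prd hPK (x := ⟨_, hPK hy1.1⟩) hy1.1]
          using this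
      · have := hy1.2.2
        unfold InFour at this ⊢
        simpa only [Subtype.ext_iff, coe_one, coe_mul, pr_restrict h₂.prd hPK (x := ⟨_, hPK hy1.1⟩) hy1.1]
          using this
    have hr := hmem _ hyK
    have hrP : (g₀ : G) * (v * y * v⁻¹) * (g₀ : G)⁻¹ ∈ (P : Subgroup G) := by
      have := hr.1
      rw [Sylow.coe_subtype] at this
      exact mem_subgroupOf.1 this
    have hr2 : MemFour (P : Subgroup G) D₁ D₂ z₁ z₂ (s : G) t ((g₀ : G) * (v * y * v⁻¹) * (g₀ : G)⁻¹) := by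
      refine ⟨hrP, ?_, ?_⟩
      · have := hr.2.1
        unfold InFour at this ⊢
        simpa only [Subtype.ext_iff, coe_one, coe_mul, coe_inv,
          pr_restrict h.prd hPK (x := g₀ * ⟨_, hPK hy1.1⟩ * g₀⁻¹) hrP] using this
      · have := hr.2.2
        unfold InFour at this ⊢
        simpa only [Subtype.ext_iff, coe_one, coe_mul, coe_inv,
          pr_restrict h₂.prd hPK (x := g₀ * ⟨_, hPK hy1.1⟩ * g₀⁻¹) hrP] using this
    have := hto (inv_mem hvD) hr2 (by rw [inv_inv, hvz])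
    rw [inv_inv, hconj] at this
    show MemFour _ _ _ _ _ _ _ _
    rwa [show v⁻¹ * (g₀ : G) * v * y * (v⁻¹ * (g₀ : G) * v)⁻¹ =
      v⁻¹ * ((g₀ : G) * (v * y * v⁻¹) * (g₀ : G)⁻¹) * v by group]
  have hbA : Box A D₁ C₁ z₁ D₂ a :=
    { sE := memFour_of_left h h₂ ha (Or.inr (Or.inr (Or.inl rfl))), sD := ha, sC := haC,
      cases := fun y hy => hy.2.1, zE := memFour_of_left h h₂ h.dih.zD (Or.inr (Or.inl rfl)),
      wE := fun w hw' => memFour_of_right h h₂ hw'.1 ((inW_cases h h₂ hw').imp id Or.inl) }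
  have hkA : Kind P A D₁ D₂ := Or.inl fun p hp' q hq => prd_ext h.prd (mul_mem hp'.1 hq.1) (mul_mem hq.1 hp'.1)
    (by rw [pr_mul h.prd hp'.1 hq.1, pr_mul h.prd hq.1 hp'.1, inFour_comm (h.dih.central ha) hp'.2.1 hq.2.1])
    (by rw [pr_mul h₂.prd hp'.1 hq.1, pr_mul h₂.prd hq.1 hp'.1,
      inFour_comm (h₂.dih.central ht.sD) hp'.2.2 hq.2.2])
  have hgA : g ∈ normalizer (A : Set G) := mem_normalizer_of_conj fun y hy => by
    have hcen : ∀ {b}, b ∈ cen E → MemFour (P : Subgroup G) D₁ D₂ z₁ z₂ a t b := fun {b} hb' => by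
      refine ⟨hE.1 hb'.1, ?_, ht.cases b hb'.1⟩
      rcases ((mem_cen_iff h hE hw hp).1 hb').2 with e | e
      · exact Or.inl e
      · exact Or.inr (Or.inl e)
    have h2E : pr D₂ D₁ y ∈ E := by
      rcases hy.2.2 with e | e | e | e <;> rw [e]
      exacts [one_mem E, z_mem h₂ hE, ht.sE, mul_mem ht.sE (z_mem h₂ hE)]
    have h2c : pr D₂ D₁ y ∈ cen E :=
      (mem_cen_iff h hE hw hp).2 ⟨h2E, Or.inl (pr_other h.prd (pr_mem h₂.prd hy.1))⟩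
    have h1E : pr D₁ D₂ y ∈ E := wide_full h hE hw hp (pr_mem h.prd hy.1)
    have e : g * y * g⁻¹ =
        g * pr D₁ D₂ y * g⁻¹ * (pr D₁ D₂ y)⁻¹ * pr D₁ D₂ y * (g * pr D₂ D₁ y * g⁻¹) := by
      conv_lhs => rw [← pr_split h.prd hy.1]
      group
    rw [e]
    exact memFour_mul h h₂ ha haC ht.sD ht.sC
      (memFour_mul h h₂ ha haC ht.sD ht.sC (hcen (comm_mem_cen h hE hw hp hg hodd h1E))
        (memFour_of_left h h₂ (pr_mem h.prd hy.1) hy.2.1))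
      (hcen ((mem_normalizer_iff.1 (normalizer_le_cen E hg) _).1 h2c))
  refine four_inv h hs hperf hn (fun y (hy : y ∈ A) => hy.1) hbA hkA ⟨_, hg0A, fun e1 => hg₀ (Subtype.ext ?_)⟩ ha
    (memFour_of_left h h₂ ha (Or.inr (Or.inr (Or.inl rfl)))) hgA
  show (g₀ : G) * z₁ * (g₀ : G)⁻¹ = z₁
  calc (g₀ : G) * z₁ * (g₀ : G)⁻¹
      = v * (v⁻¹ * (g₀ : G) * v * (v⁻¹ * z₁ * v) * (v⁻¹ * (g₀ : G) * v)⁻¹) * v⁻¹ := by group
    _ = z₁ := by rw [hvz, e1, hvz']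

end CfsgLib.DDProd
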