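import Cfsg.Agent.Lib.DDProd.Odd
import Cfsg.Agent.Lib.Coprime.Action
import Cfsg.Agent.Lib.Coprime.PGroupFrattini
import Cfsg.Agent.Lib.DDProd.Pair

/-!
# The shape of good subgroups in a Sylow group with a dihedral direct factor
-/

set_option autoImplicit false
set_option linter.unusedSectionVars false
set_option linter.style.haveILetI false

open Subgroup

namespace CfsgLib.DDProd

open CfsgLib.Fusion.Goldschmidt

universe u

variable {G : Type u} [Group G]

/-- The operators trivial modulo `N` on `E`. -/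
def stab (E N : Subgroup G) (hN : normalizer (E : Set G) ≤ normalizer (N : Set G)) : Subgroup G where
  carrier := {g | g ∈ normalizer (E : Set G) ∧ ∀ e ∈ E, g * e * g⁻¹ * e⁻¹ ∈ N}
  one_mem' := ⟨one_mem _, fun e _ => by simp⟩
  mul_mem' := fun {g h} hg hh => ⟨mul_mem hg.1 hh.1, fun e he => by
    rw [show g * h * e * (g * h)⁻¹ * e⁻¹ = g * (h * e * h⁻¹ * e⁻¹) * g⁻¹ * (g * e * g⁻¹ * e⁻¹) by group]
    exact mul_mem ((mem_normalizer_iff.1 (hN hg.1) _).1 (hh.2 e he)) (hg.2 e he)⟩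
  inv_mem' := fun {g} hg => ⟨inv_mem hg.1, fun e he => by
    have h1 : g⁻¹ * e * g ∈ E := by
      have := (mem_normalizer_iff.1 (inv_mem hg.1) e).1 he
      rwa [inv_inv] at this
    have h2 := (mem_normalizer_iff.1 (hN (inv_mem hg.1)) _).1 (inv_mem (hg.2 e he))
    rwa [inv_inv, show g⁻¹ * (g * e * g⁻¹ * e⁻¹)⁻¹ * g = g⁻¹ * e * g * e⁻¹ by group,
      show g⁻¹ * e * g * e⁻¹ = g⁻¹ * e * (g⁻¹)⁻¹ * e⁻¹ by group] at h2⟩

theorem normalizer_le_stab_normalizer (E N : Subgroup G) (hN : normalizer (E : Set G) ≤ normalizer (N : Set G)) :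
    normalizer (E : Set G) ≤ normalizer ((stab E N hN : Subgroup G) : Set G) := by
  intro n hn
  refine mem_normalizer_iff.2 fun g => ?_
  have key : ∀ m, m ∈ normalizer (E : Set G) → ∀ x, x ∈ stab E N hN → m * x * m⁻¹ ∈ stab E N hN := by
    intro m hm x hx
    refine ⟨mul_mem (mul_mem hm hx.1) (inv_mem hm), fun e he => ?_⟩
    have he' : m⁻¹ * e * m ∈ E := by
      have := (mem_normalizer_iff.1 (inv_mem hm) e).1 he
      rwa [inv_inv] at this
    have := (mem_normalizer_iff.1 (hN hm) _).1 (hx.2 _ he')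
    rwa [show m * (x * (m⁻¹ * e * m) * x⁻¹ * (m⁻¹ * e * m)⁻¹) * m⁻¹ =
      m * x * m⁻¹ * e * (m * x * m⁻¹)⁻¹ * e⁻¹ by group] at this
  refine ⟨key n hn g, fun h => ?_⟩
  have := key n⁻¹ (inv_mem hn) _ h
  rwa [show n⁻¹ * (n * g * n⁻¹) * n⁻¹⁻¹ = g by group] at this

theorem normalizer_le_centralizer_normalizer {E : Subgroup G} {N : Subgroup G}
    (hN : normalizer (E : Set G) ≤ normalizer (N : Set G)) :
    normalizer (E : Set G) ≤ normalizer ((centralizer (N : Set G) : Subgroup G) : Set G) := by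
  intro n hn
  have key : ∀ m, m ∈ normalizer (E : Set G) → ∀ x, x ∈ centralizer (N : Set G) →
      m * x * m⁻¹ ∈ centralizer (N : Set G) := by
    intro m hm x hx
    refine mem_centralizer_iff.2 fun y hy => ?_
    have hy' : m⁻¹ * y * m ∈ N := by
      have := (mem_normalizer_iff.1 (hN (inv_mem hm)) y).1 hy
      rwa [inv_inv] at this
    calc y * (m * x * m⁻¹) = m * ((m⁻¹ * y * m) * x) * m⁻¹ := by group
      _ = m * (x * (m⁻¹ * y * m)) * m⁻¹ := by rw [mem_centralizer_iff.1 hx _ hy']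
      _ = m * x * m⁻¹ * y := by group
  refine mem_normalizer_iff.2 fun g => ⟨key n hn g, fun h => ?_⟩
  have := key n⁻¹ (inv_mem hn) _ h
  rwa [show n⁻¹ * (n * g * n⁻¹) * n⁻¹⁻¹ = g by group] at this

theorem normalizer_inf_le {E A B : Subgroup G} (hA : normalizer (E : Set G) ≤ normalizer (A : Set G))
    (hB : normalizer (E : Set G) ≤ normalizer (B : Set G)) :
    normalizer (E : Set G) ≤ normalizer ((A ⊓ B : Subgroup G) : Set G) := by
  intro n hn
  refine mem_normalizer_iff.2 fun g => ?_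
  rw [mem_inf, mem_inf, ← mem_normalizer_iff.1 (hA hn) g, ← mem_normalizer_iff.1 (hB hn) g]

theorem mem_normalizer_of_conj [Finite G] {E : Subgroup G} {n : G} (h : ∀ e ∈ E, n * e * n⁻¹ ∈ E) :
    n ∈ normalizer (E : Set G) := by
  have hle : E.map (MulAut.conj n).toMonoidHom ≤ E := by
    rintro _ ⟨e, he, rfl⟩
    exact h e he
  have heq : E.map (MulAut.conj n).toMonoidHom = E :=
    eq_of_le_of_card_ge hle (by rw [card_map_of_injective (MulAut.conj n).injective])
  refine mem_normalizer_iff.2 fun x => ⟨h x, fun hx => ?_⟩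
  rw [← heq] at hx
  obtain ⟨e, he, hex⟩ := mem_map.1 hx
  have : e = x := (MulAut.conj n).injective hex
  rwa [← this]

variable [Finite G] {P : Sylow 2 G} {E D₁ C₁ D₂ : Subgroup G} {z₁ r₁ : G}
  (h : Side (P : Subgroup G) D₁ C₁ z₁ r₁ D₂) (hE : Good P E)

theorem good_centralizer (hE : Good P E) {x : G} (hxP : x ∈ (P : Subgroup G))
    (hc : ∀ e ∈ E, x * e = e * x) : x ∈ E :=
  mem_of_stab P hE (centralizer (E : Set G)) (centralizer_le_normalizer _)
    (normalizer_le_centralizer_normalizer le_rfl) (fun _ hg _ => hg) hxP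
    (mem_centralizer_iff.2 fun e he => (hc e he).symm)

/-- The four group `{1, z, s, s z}` of a reflection. -/
def InFour (z s x : G) : Prop := x = 1 ∨ x = z ∨ x = s ∨ x = s * z

/-- The coordinate of `E` is the four group of the reflection `s`. -/
structure IsFour (E : Subgroup G) (D₁ C₁ : Subgroup G) (z₁ : G) (D₂ : Subgroup G) (s : G) : Prop where
  sE : s ∈ E
  sD : s ∈ D₁
  sC : s ∉ C₁
  cases : ∀ e ∈ E, InFour z₁ s (pr D₁ D₂ e)

/-- The coordinate of `E` is dihedral of order at least eight. -/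
structure IsWide (E : Subgroup G) (D₁ C₁ : Subgroup G) (r₁ : G) (D₂ : Subgroup G) : Prop where
  rE : r₁ ∈ E
  refl : ∃ e ∈ E, pr D₁ D₂ e ∉ C₁

include h hE

theorem z_mem : z₁ ∈ E :=
  good_centralizer hE h.zS fun _ he => (h.z_central (hE.1 he)).symm

theorem exists_refl : ∃ e ∈ E, pr D₁ D₂ e ∉ C₁ := by
  by_contra hall
  push Not at hall
  have hCE : ∀ c ∈ C₁, c ∈ E := fun c hc => good_centralizer hE (h.prd.1 (h.dih.le hc)) fun e he => by
    have h1 := pr_split h.prd (hE.1 he)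
    rw [← h1, ← mul_assoc, h.dih.toDih.comm hc (hall e he), mul_assoc,
      prd_comm h.prd (h.dih.le hc) (pr_mem (prd_symm h.prd) (hE.1 he)), mul_assoc]
  obtain ⟨s, hs, hsC⟩ := h.dih.ne
  have hsP := h.prd.1 hs
  have hconj : ∀ e ∈ E, s * e * s⁻¹ * e⁻¹ = (pr D₁ D₂ e)⁻¹ * (pr D₁ D₂ e)⁻¹ := by
    intro e he
    set a := pr D₁ D₂ e
    set b := pr D₂ D₁ e
    have hb : b ∈ D₂ := pr_mem (prd_symm h.prd) (hE.1 he)
    rw [← pr_split h.prd (hE.1 he), show s * (a * b) * s⁻¹ * (a * b)⁻¹ = s * a * (b * s⁻¹) * b⁻¹ * a⁻¹ by group,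
      ← prd_comm h.prd (inv_mem hs) hb, show s * a * (s⁻¹ * b) * b⁻¹ * a⁻¹ = s * a * s⁻¹ * a⁻¹ by group,
      h.dih.toDih.invert hs hsC (hall e he)]
  have hsN : s ∈ normalizer (E : Set G) := mem_normalizer_of_conj fun e he => by
    have h1 := hconj e he
    rw [show s * e * s⁻¹ = s * e * s⁻¹ * e⁻¹ * e by group, h1]
    exact mul_mem (mul_mem (hCE _ (inv_mem (hall e he))) (hCE _ (inv_mem (hall e he)))) he
  set N := closure {x : G | ∃ e ∈ E, e * e = x} with hN
  have hNn : normalizer (E : Set G) ≤ normalizer (N : Set G) := fun n hn => by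
    refine mem_normalizer_of_conj fun x hx => ?_
    induction hx using Subgroup.closure_induction with
    | mem y hy =>
      obtain ⟨e, he, rfl⟩ := hy
      exact Subgroup.subset_closure ⟨_, (mem_normalizer_iff.1 hn e).1 he, by group⟩
    | one => simp
    | mul a b _ _ iha ihb =>
      rw [show n * (a * b) * n⁻¹ = (n * a * n⁻¹) * (n * b * n⁻¹) by group]; exact mul_mem iha ihb
    | inv a _ iha => rw [show n * a⁻¹ * n⁻¹ = (n * a * n⁻¹)⁻¹ by group]; exact inv_mem iha
  have hsM : s ∈ stab E N hNn := ⟨hsN, fun e he => by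
    rw [hconj e he]
    exact Subgroup.subset_closure ⟨_, hCE _ (inv_mem (hall e he)), rfl⟩⟩
  have hsE := mem_of_stab P hE (stab E N hNn) (fun _ hg => hg.1) (normalizer_le_stab_normalizer E N hNn)
    (fun g hg hodd => by
      haveI : Fact (Nat.Prime 2) := ⟨Nat.prime_two⟩
      have hEp : IsPGroup 2 E := P.2.to_le hE.1
      refine CfsgLib.Coprime.le_centralizer_of_trivial_on_frattini_quotient (A := zpowers g) (K := E)
        (zpowers_le.2 hg.1) ?_ ?_ (mem_zpowers g)
      · rw [Nat.card_zpowers]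
        obtain ⟨n, hn⟩ := IsPGroup.iff_card.1 (hEp.to_subgroup (frattini ↥E))
        rw [hn]
        exact (Nat.coprime_two_right.2 hodd).pow_right n
      · intro a ha k hk
        have hmem := ((zpowers_le.2 hg : zpowers g ≤ stab E N hNn) ha).2 k hk
        refine (closure_le _).2 ?_ hmem
        rintro _ ⟨e, he, rfl⟩
        exact ⟨⟨e, he⟩ ^ 2, CfsgLib.Coprime.pow_mem_frattini hEp _, by
          show ((⟨e, he⟩ ^ 2 : E) : G) = e * e
          rw [SubgroupClass.coe_pow, pow_two]⟩) hsP hsM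
  exact hsC (pr_self h.prd hs ▸ hall s hsE)

/-- A good subgroup has a four group or a dihedral group as coordinate. -/
theorem four_or_wide : (∃ s, IsFour E D₁ C₁ z₁ D₂ s) ∨ IsWide E D₁ C₁ r₁ D₂ := by
  obtain ⟨f, hf, hfC⟩ := exists_refl h hE
  set s := pr D₁ D₂ f with hsd
  have hs : s ∈ D₁ := pr_mem h.prd (hE.1 hf)
  by_cases hsq : ∀ e ∈ E, pr D₁ D₂ e * pr D₁ D₂ e = 1
  · left
    have hcases : ∀ e ∈ E, InFour z₁ s (pr D₁ D₂ e) := by
      intro e he
      refine h.dih.four_cases hs hfC (pr_mem h.prd (hE.1 he)) ?_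
      have h1 := hsq _ (mul_mem hf he)
      rw [pr_mul h.prd (hE.1 hf) (hE.1 he)] at h1
      have h2 := hsq f hf
      have h3 := hsq e he
      calc pr D₁ D₂ e * s = (s * s) * (pr D₁ D₂ e * s) * (pr D₁ D₂ e * pr D₁ D₂ e) := by
            rw [h2, h3, one_mul, mul_one]
        _ = s * (s * pr D₁ D₂ e * (s * pr D₁ D₂ e)) * pr D₁ D₂ e := by group
        _ = s * pr D₁ D₂ e := by rw [h1, mul_one]
    refine ⟨s, good_centralizer hE (h.prd.1 hs) (fun e he => ?_), hs, hfC, hcases⟩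
    have h1 := pr_split h.prd (hE.1 he)
    have hc : s * pr D₁ D₂ e = pr D₁ D₂ e * s := by
      rcases hcases e he with e' | e' | e' | e' <;> rw [e']
      · rw [one_mul, mul_one]
      · exact h.dih.central hs
      · rw [mul_assoc, ← h.dih.central hs]
    rw [← h1, ← mul_assoc, hc, mul_assoc, prd_comm h.prd hs (pr_mem (prd_symm h.prd) (hE.1 he)), mul_assoc]
  right
  push Not at hsq
  obtain ⟨e₀, he₀, he0⟩ := hsq
  refine ⟨?_, f, hf, hfC⟩
  have hcomm : ∀ e ∈ E, r₁ * e * r₁⁻¹ * e⁻¹ = 1 ∨ r₁ * e * r₁⁻¹ * e⁻¹ = z₁ := by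
    intro e he
    rcases h.conj_r (hE.1 he) with ⟨-, e1⟩ | ⟨-, e1⟩
    · exact Or.inl (by rw [e1, mul_inv_cancel])
    · exact Or.inr (by rw [e1, h.z_central (hE.1 he), mul_inv_cancel_right])
  have hzE := z_mem h hE
  set N := E ⊓ centralizer (E : Set G) with hN
  have hNn : normalizer (E : Set G) ≤ normalizer (N : Set G) :=
    normalizer_inf_le le_rfl (normalizer_le_centralizer_normalizer le_rfl)
  have hzN : z₁ ∈ N := ⟨hzE, mem_centralizer_iff.2 fun e he => h.z_central (hE.1 he)⟩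
  have hrN : r₁ ∈ normalizer (E : Set G) := mem_normalizer_of_conj fun e he => by
    rw [show r₁ * e * r₁⁻¹ = r₁ * e * r₁⁻¹ * e⁻¹ * e by group]
    rcases hcomm e he with e1 | e1 <;> rw [e1]
    · rwa [one_mul]
    · exact mul_mem hzE he
  refine mem_of_stab P hE (stab E N hNn ⊓ centralizer (N : Set G)) (fun _ hg => hg.1.1)
    (normalizer_inf_le (normalizer_le_stab_normalizer E N hNn) (normalizer_le_centralizer_normalizer hNn))
    (fun g hg hodd => mem_centralizer_iff.2 fun e he => ?_) h.rS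
    ⟨⟨hrN, fun e he => by rcases hcomm e he with e1 | e1 <;> rw [e1]; exacts [one_mem _, hzN]⟩,
      mem_centralizer_iff.2 fun x hx => ?_⟩
  · have ha := hg.1.2 e he
    obtain ⟨k, hk⟩ := exists_two_pow (P.2.to_le (inf_le_left.trans hE.1) : IsPGroup 2 N) ha
    have hfix := eq_of_two_step hodd (mul_inv_eq_iff_eq_mul.2 (mem_centralizer_iff.1 hg.2 _ ha).symm) hk
    exact (mul_inv_eq_iff_eq_mul.1 hfix).symm
  · have hc : pr D₁ D₂ x ∈ C₁ := by
      refine h.dih.toDih.mem_of_comm (pr_mem h.prd (hE.1 hx.1))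
        (h.dih.toDih.mem_of_sq (pr_mem h.prd (hE.1 he₀)) he0) he0 ?_
      exact pr_comm h.prd (hE.1 hx.1) (hE.1 he₀) (mem_centralizer_iff.1 hx.2 e₀ he₀).symm
    rcases h.conj_r (hE.1 hx.1) with ⟨-, e1⟩ | ⟨hn, -⟩
    · exact (mul_inv_eq_iff_eq_mul.1 e1).symm
    · exact absurd hc hn

end CfsgLib.DDProd
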