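import Cfsg.Agent.Lib.DDProd.Types
import Mathlib.GroupTheory.Nilpotent

/-!
# A dihedral coordinate next to an elementary coordinate
-/

set_option autoImplicit false
set_option linter.unusedSectionVars false
set_option linter.style.haveILetI false

open Subgroup

namespace CfsgLib.DDProd

open CfsgLib.Fusion.Goldschmidt

universe u

variable {G : Type u} [Group G]

/-- The second coordinate is elementary and splits off. -/
def PartFour (E D₁ D₂ : Subgroup G) : Prop :=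
  ∀ e ∈ E, pr D₂ D₁ e ∈ E ∧ pr D₂ D₁ e * pr D₂ D₁ e = 1

/-- The centre of a subgroup, as a subgroup of the group. -/
abbrev cen (E : Subgroup G) : Subgroup G := E ⊓ centralizer (E : Set G)

theorem normalizer_le_cen (E : Subgroup G) :
    normalizer (E : Set G) ≤ normalizer ((cen E : Subgroup G) : Set G) :=
  normalizer_inf_le le_rfl (normalizer_le_centralizer_normalizer le_rfl)

variable [Finite G] {P : Sylow 2 G} {E D₁ C₁ D₂ : Subgroup G} {z₁ r₁ : G}
  (h : Side (P : Subgroup G) D₁ C₁ z₁ r₁ D₂) (hE : Good P E) (hw : IsWide E D₁ C₁ r₁ D₂)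
  (hpart : PartFour E D₁ D₂)

include h hE hw hpart

theorem pr_mem_wide {e : G} (he : e ∈ E) : pr D₁ D₂ e ∈ E := by
  have h1 := pr_split h.prd (hE.1 he)
  rw [eq_mul_inv_of_mul_eq h1]
  exact mul_mem he (inv_mem (hpart e he).1)

theorem part_comm {e e' : G} (he : e ∈ E) (he' : e' ∈ E) :
    pr D₂ D₁ e * pr D₂ D₁ e' = pr D₂ D₁ e' * pr D₂ D₁ e := by
  have h1 := (hpart _ (mul_mem he he')).2
  rw [pr_mul (prd_symm h.prd) (hE.1 he) (hE.1 he')] at h1
  have i1 := inv_eq_of_mul_eq_one_right (hpart e he).2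
  have i2 := inv_eq_of_mul_eq_one_right (hpart e' he').2
  rw [eq_comm, ← i1, ← i2, ← mul_inv_rev, inv_eq_iff_mul_eq_one]
  rw [i1, i2]
  exact h1

theorem mem_cen_iff {e : G} : e ∈ cen E ↔ e ∈ E ∧ (pr D₁ D₂ e = 1 ∨ pr D₁ D₂ e = z₁) := by
  obtain ⟨f, hf, hfC⟩ := hw.refl
  refine ⟨fun he => ⟨he.1, ?_⟩, fun he => ⟨he.1, mem_centralizer_iff.2 fun x hx => ?_⟩⟩
  · have hc : ∀ x ∈ E, pr D₁ D₂ e * pr D₁ D₂ x = pr D₁ D₂ x * pr D₁ D₂ e := fun x hx =>
      pr_comm h.prd (hE.1 he.1) (hE.1 hx) (mem_centralizer_iff.1 he.2 x hx).symm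
    have hr := hc r₁ hw.rE
    rw [pr_self h.prd h.dih.rD] at hr
    have hC := h.dih.toDih.mem_of_comm (pr_mem h.prd (hE.1 he.1)) h.dih.rC h.dih.rr_ne hr
    refine h.dih.eq_one_or_z hC ?_
    have e1 := hc f hf
    rw [h.dih.toDih.swap (pr_mem h.prd (hE.1 hf)) hfC hC] at e1
    exact inv_eq_iff_mul_eq_one.1 (mul_right_cancel e1).symm
  · have h1 : pr D₁ D₂ x * pr D₁ D₂ e = pr D₁ D₂ e * pr D₁ D₂ x := by
      rcases he.2 with e1 | e1 <;> rw [e1]
      · rw [one_mul, mul_one]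
      · exact h.dih.central (pr_mem h.prd (hE.1 hx))
    refine prd_ext h.prd (mul_mem (hE.1 hx) (hE.1 he.1)) (mul_mem (hE.1 he.1) (hE.1 hx)) ?_ ?_
    · rw [pr_mul h.prd (hE.1 hx) (hE.1 he.1), pr_mul h.prd (hE.1 he.1) (hE.1 hx), h1]
    · rw [pr_mul (prd_symm h.prd) (hE.1 hx) (hE.1 he.1), pr_mul (prd_symm h.prd) (hE.1 he.1) (hE.1 hx),
        part_comm h hE hw hpart hx he.1]

theorem z_mem_cen : z₁ ∈ cen E :=
  (mem_cen_iff h hE hw hpart).2 ⟨z_mem h hE, Or.inr (pr_self h.prd h.dih.zD)⟩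

theorem sq_eq {e : G} (he : e ∈ E) : e * e = pr D₁ D₂ e * pr D₁ D₂ e := by
  refine prd_ext h.prd (mul_mem (hE.1 he) (hE.1 he))
    (mul_mem (h.prd.1 (pr_mem h.prd (hE.1 he))) (h.prd.1 (pr_mem h.prd (hE.1 he)))) ?_ ?_
  · rw [pr_mul h.prd (hE.1 he) (hE.1 he), pr_self h.prd (mul_mem (pr_mem h.prd (hE.1 he)) (pr_mem h.prd (hE.1 he)))]
  · rw [pr_mul (prd_symm h.prd) (hE.1 he) (hE.1 he), (hpart e he).2,
      pr_other (prd_symm h.prd) (mul_mem (pr_mem h.prd (hE.1 he)) (pr_mem h.prd (hE.1 he)))]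

theorem rot_conj {g b : G} (hg : g ∈ normalizer (E : Set G)) (hb : b ∈ E) (hbC : pr D₁ D₂ b ∈ C₁) :
    pr D₁ D₂ (g * b * g⁻¹) ∈ C₁ := by
  have key : ∀ y ∈ E, y * y ≠ 1 → pr D₁ D₂ (g * y * g⁻¹) ∈ C₁ := by
    intro y hy hne
    have hy' := (mem_normalizer_iff.1 hg y).1 hy
    refine h.dih.toDih.mem_of_sq (pr_mem h.prd (hE.1 hy')) fun e => hne ?_
    rw [← sq_eq h hE hw hpart hy', show g * y * g⁻¹ * (g * y * g⁻¹) = g * (y * y) * g⁻¹ by group] at e
    exact (conj_eq_one_iff).1 e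
  by_cases h2 : b * b = 1
  · have hbr : b * r₁ * (b * r₁) ≠ 1 := by
      rw [sq_eq h hE hw hpart (mul_mem hb hw.rE), pr_mul h.prd (hE.1 hb) h.rS, pr_self h.prd h.dih.rD,
        (show Commute r₁ (pr D₁ D₂ b) from h.dih.toDih.comm h.dih.rC hbC).mul_mul_mul_comm,
        ← sq_eq h hE hw hpart hb, h2, one_mul]
      exact h.dih.rr_ne
    have h1 := key _ (mul_mem hb hw.rE) hbr
    have h3 := key r₁ hw.rE h.dih.rr_ne
    have e : g * b * g⁻¹ = g * (b * r₁) * g⁻¹ * (g * r₁ * g⁻¹)⁻¹ := by group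
    have hP : ∀ y ∈ E, g * y * g⁻¹ ∈ (P : Subgroup G) := fun y hy => hE.1 ((mem_normalizer_iff.1 hg y).1 hy)
    rw [e, pr_mul h.prd (hP _ (mul_mem hb hw.rE)) (inv_mem (hP _ hw.rE)), pr_inv h.prd (hP _ hw.rE)]
    exact mul_mem h1 (inv_mem h3)
  · exact key b hb h2

theorem z_fix {g : G} (hg : g ∈ normalizer (E : Set G)) : g * z₁ * g⁻¹ = z₁ := by
  have hy := (mem_normalizer_iff.1 hg r₁).1 hw.rE
  have hC := rot_conj h hE hw hpart hg hw.rE (by rw [pr_self h.prd h.dih.rD]; exact h.dih.rC)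
  have e : g * z₁ * g⁻¹ = g * r₁ * g⁻¹ * (g * r₁ * g⁻¹) := by rw [← h.dih.rr]; group
  rw [e, sq_eq h hE hw hpart hy]
  refine (h.dih.eq_one_or_z (mul_mem hC hC) ?_).resolve_left ?_
  · rw [← sq_eq h hE hw hpart hy, ← e]
    rw [show g * z₁ * g⁻¹ * (g * z₁ * g⁻¹) = g * (z₁ * z₁) * g⁻¹ by group, h.dih.z2, mul_one, mul_inv_cancel]
  · rw [← sq_eq h hE hw hpart hy, ← e]
    exact fun e1 => h.dih.z1 (conj_eq_one_iff.1 e1)

theorem rot_comm {a b : G} (ha : a ∈ E) (hb : b ∈ E) (haC : pr D₁ D₂ a ∈ C₁) (hbC : pr D₁ D₂ b ∈ C₁) :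
    a * b = b * a := by
  refine prd_ext h.prd (mul_mem (hE.1 ha) (hE.1 hb)) (mul_mem (hE.1 hb) (hE.1 ha)) ?_ ?_
  · rw [pr_mul h.prd (hE.1 ha) (hE.1 hb), pr_mul h.prd (hE.1 hb) (hE.1 ha), h.dih.toDih.comm haC hbC]
  · rw [pr_mul (prd_symm h.prd) (hE.1 ha) (hE.1 hb), pr_mul (prd_symm h.prd) (hE.1 hb) (hE.1 ha),
      part_comm h hE hw hpart ha hb]

/-- An operator of odd order is trivial modulo the centre. -/
theorem comm_mem_cen {g : G} (hg : g ∈ normalizer (E : Set G)) (hodd : Odd (orderOf g)) {e : G} (he : e ∈ E) :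
    g * e * g⁻¹ * e⁻¹ ∈ cen E := by
  have hEp : IsPGroup 2 E := P.2.to_le hE.1
  have hmem : ∀ {x}, x ∈ E → g * x * g⁻¹ * x⁻¹ ∈ E := fun {x} hx =>
    mul_mem ((mem_normalizer_iff.1 hg x).1 hx) (inv_mem hx)
  have hPmem : ∀ {x}, x ∈ E → g * x * g⁻¹ ∈ (P : Subgroup G) := fun {x} hx =>
    hE.1 ((mem_normalizer_iff.1 hg x).1 hx)
  have hrot : ∀ {x}, x ∈ E → pr D₁ D₂ x ∈ C₁ → pr D₁ D₂ (g * x * g⁻¹ * x⁻¹) ∈ C₁ := fun {x} hx hxC => by
    rw [pr_mul h.prd (hPmem hx) (inv_mem (hE.1 hx)), pr_inv h.prd (hE.1 hx)]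
    exact mul_mem (rot_conj h hE hw hpart hg hx hxC) (inv_mem hxC)
  have hcencomm : ∀ x ∈ cen E, g * x * g⁻¹ * x⁻¹ ∈ cen E := fun x hx =>
    mul_mem ((mem_normalizer_iff.1 (normalizer_le_cen E hg) x).1 hx) (inv_mem hx)
  have key : ∀ n : ℕ, ∀ b ∈ E, pr D₁ D₂ b ∈ C₁ → b ^ (2 ^ n) = 1 → g * b * g⁻¹ * b⁻¹ ∈ cen E := by
    intro n
    induction n with
    | zero => intro b _ _ hb1; rw [pow_zero, pow_one] at hb1; subst hb1; simp
    | succ m ih =>
      intro b hb hbC hb1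
      have hbb : (b * b) ^ (2 ^ m) = 1 := by rw [← pow_two, ← pow_mul, ← pow_succ', hb1]
      have hbbC : pr D₁ D₂ (b * b) ∈ C₁ := by
        rw [pr_mul h.prd (hE.1 hb) (hE.1 hb)]; exact mul_mem hbC hbC
      have hζ := ih _ (mul_mem hb hb) hbbC hbb
      set ζ := g * (b * b) * g⁻¹ * (b * b)⁻¹ with hζd
      have hgb := (mem_normalizer_iff.1 hg b).1 hb
      have hζfix : g * ζ * g⁻¹ = ζ := by
        have hgC := rot_conj h hE hw hpart hg hb hbC
        have hζC : ζ ∈ C₁ := by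
          rw [hζd, show g * (b * b) * g⁻¹ = g * b * g⁻¹ * (g * b * g⁻¹) by group, sq_eq h hE hw hpart hgb,
            sq_eq h hE hw hpart hb]
          exact mul_mem (mul_mem hgC hgC) (inv_mem (mul_mem hbC hbC))
        have hc := ((mem_cen_iff h hE hw hpart).1 hζ).2
        rw [pr_self h.prd (h.dih.le hζC)] at hc
        rcases hc with e1 | e1 <;> rw [e1]
        · simp
        · exact z_fix h hE hw hpart hg
      obtain ⟨k, hk⟩ := exists_two_pow hEp (inf_le_left (b := centralizer (E : Set G)) hζ)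
      have hfix : g * (b * b) * g⁻¹ = b * b := eq_of_two_step hodd hζfix hk
      set d := g * b * g⁻¹ * b⁻¹ with hd
      have hdE : d ∈ E := hmem hb
      have hdC : pr D₁ D₂ d ∈ C₁ := hrot hb hbC
      have hd2 : d * d = 1 := by
        have e1 : g * b * g⁻¹ = d * b := by rw [hd]; group
        have e2 : d * b * (d * b) = b * b := by
          rw [← e1, show g * b * g⁻¹ * (g * b * g⁻¹) = g * (b * b) * g⁻¹ by group, hfix]
        rw [(show Commute b d from rot_comm h hE hw hpart hb hdE hbC hdC).mul_mul_mul_comm] at e2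
        exact mul_eq_right.1 e2
      refine (mem_cen_iff h hE hw hpart).2 ⟨hdE, h.dih.eq_one_or_z hdC ?_⟩
      rw [← sq_eq h hE hw hpart hdE, hd2]
  by_cases heC : pr D₁ D₂ e ∈ C₁
  · obtain ⟨k, hk⟩ := exists_two_pow hEp he
    exact key k e he heC hk
  set d := g * e * g⁻¹ * e⁻¹ with hd
  have hdE : d ∈ E := hmem he
  have hdC : pr D₁ D₂ d ∈ C₁ := by
    have h1 : pr D₁ D₂ (g * e * g⁻¹) ∉ C₁ := fun hc => heC (by
      have := rot_conj h hE hw hpart (inv_mem hg) ((mem_normalizer_iff.1 hg e).1 he) hc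
      rwa [show g⁻¹ * (g * e * g⁻¹) * g⁻¹⁻¹ = e by group] at this)
    have h2 := h.dih.idx _ (pr_mem h.prd (hPmem he)) _ (inv_mem (pr_mem h.prd (hE.1 he))) h1
      (fun hc => heC (inv_mem_iff.1 hc))
    rwa [← pr_inv h.prd (hE.1 he), ← pr_mul h.prd (hPmem he) (inv_mem (hE.1 he))] at h2
  obtain ⟨k, hk⟩ := exists_two_pow hEp hdE
  have hdk := key k d hdE hdC hk
  haveI : ((cen E).subgroupOf (normalizer (E : Set G))).Normal :=
    normal_subgroupOf_of_le_normalizer (normalizer_le_cen E)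
  set mk := QuotientGroup.mk' ((cen E).subgroupOf (normalizer (E : Set G))) with hmk
  let g' : normalizer (E : Set G) := ⟨g, hg⟩
  let e' : normalizer (E : Set G) := ⟨e, le_normalizer he⟩
  let d' : normalizer (E : Set G) := ⟨d, le_normalizer hdE⟩
  have e1 : mk g' * mk e' * (mk g')⁻¹ * (mk e')⁻¹ = mk d' := by
    rw [← map_inv, ← map_inv, ← map_mul, ← map_mul, ← map_mul]; rfl
  have e2 : mk g' * mk d' * (mk g')⁻¹ = mk d' := by
    refine mul_inv_eq_one.1 ?_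
    rw [← map_inv, ← map_inv, ← map_mul, ← map_mul, ← map_mul]
    exact (QuotientGroup.eq_one_iff _).2 (mem_subgroupOf.2 hdk)
  have ho : Odd (orderOf (mk g')) := by
    refine hodd.of_dvd_nat ((orderOf_map_dvd mk g').trans ?_)
    rw [← orderOf_submonoid]
  have h3 := eq_of_two_step ho (e := mk e') (by rw [e1]; exact e2) (k := k) (by
    rw [e1, ← map_pow, show d' ^ (2 ^ k) = 1 from Subtype.ext hk, map_one])
  rw [h3, mul_inv_cancel] at e1
  exact mem_subgroupOf.1 ((QuotientGroup.eq_one_iff _).1 e1.symm)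

/-- Operators of odd order centralizing the centre centralize. -/
theorem centralize_of_cen {g : G} (hg : g ∈ normalizer (E : Set G)) (hodd : Odd (orderOf g))
    (hfix : g ∈ centralizer (cen E : Set G)) {e : G} (he : e ∈ E) : g * e * g⁻¹ = e := by
  have hd := comm_mem_cen h hE hw hpart hg hodd he
  obtain ⟨k, hk⟩ := exists_two_pow (P.2.to_le hE.1 : IsPGroup 2 E) (inf_le_left (b := centralizer (E : Set G)) hd)
  exact eq_of_two_step hodd (mul_inv_eq_iff_eq_mul.2 (mem_centralizer_iff.1 hfix _ hd).symm) hk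

/-- The dihedral coordinate is full. -/
theorem wide_full : D₁ ≤ E := by
  have hstep : ∀ v ∈ D₁, (∀ e ∈ E, pr D₁ D₂ e = e → v * e * v⁻¹ ∈ E) → v ∈ E := by
    intro v hv hvE
    have hvN : v ∈ normalizer (E : Set G) := mem_normalizer_of_conj fun e he => by
      have hb := (hpart e he).1
      rw [← pr_split h.prd (hE.1 he), show v * (pr D₁ D₂ e * pr D₂ D₁ e) * v⁻¹ =
        v * pr D₁ D₂ e * v⁻¹ * (v * pr D₂ D₁ e * v⁻¹) by group,
        prd_comm h.prd hv (pr_mem (prd_symm h.prd) (hE.1 he)), mul_inv_cancel_right]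
      exact mul_mem (hvE _ (pr_mem_wide h hE hw hpart he) (pr_self h.prd (pr_mem h.prd (hE.1 he)))) hb
    refine mem_of_stab P hE (normalizer (E : Set G) ⊓ centralizer (cen E : Set G)) inf_le_left
      (normalizer_inf_le le_normalizer (normalizer_le_centralizer_normalizer (normalizer_le_cen E)))
      (fun g hg hodd => mem_centralizer_iff.2 fun e he => ?_) (h.prd.1 hv)
      ⟨hvN, mem_centralizer_iff.2 fun x hx => ?_⟩
    · exact (mul_inv_eq_iff_eq_mul.1 (centralize_of_cen h hE hw hpart hg.1 hodd hg.2 he)).symm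
    · have hc := ((mem_cen_iff h hE hw hpart).1 hx).2
      refine (mul_inv_eq_iff_eq_mul.1 ?_).symm
      rw [← pr_split h.prd (hE.1 hx.1), show v * (pr D₁ D₂ x * pr D₂ D₁ x) * v⁻¹ =
        v * pr D₁ D₂ x * (pr D₂ D₁ x * v⁻¹) by group,
        ← prd_comm h.prd (inv_mem hv) (pr_mem (prd_symm h.prd) (hE.1 hx.1))]
      rcases hc with e1 | e1 <;> rw [e1]
      · group
      · rw [h.dih.central hv]; group
  haveI : Fact (Nat.Prime 2) := ⟨Nat.prime_two⟩
  haveI : Group.IsNilpotent D₁ := (P.2.to_le h.prd.1 : IsPGroup 2 D₁).isNilpotent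
  by_contra hle
  have hne : E.subgroupOf D₁ < ⊤ := lt_top_iff_ne_top.2 fun e => hle (subgroupOf_eq_top.1 e)
  obtain ⟨v, hv, hvn⟩ := SetLike.exists_of_lt (Group.normalizerCondition_of_isNilpotent _ hne)
  refine hvn (mem_subgroupOf.2 (hstep v v.2 fun e he hpe => ?_))
  have heD : e ∈ D₁ := hpe ▸ pr_mem h.prd (hE.1 he)
  exact mem_subgroupOf.1 ((mem_normalizer_iff.1 hv ⟨e, heD⟩).1 (mem_subgroupOf.2 he))

end CfsgLib.DDProd
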